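import Groth.Agent.CycB.LocQuot
import Groth.Agent.CycB.RelDim3
import Groth.Agent.CycB.SetupLft
import Groth.Agent.Ega41.DimFlat
import Groth.Agent.Sga4h.GenULADim

/-!
# Dimension functions on irreducible schemes, and flat morphisms
-/

set_option autoImplicit false
universe u

open AlgebraicGeometry CategoryTheory TopologicalSpace
open Groth.Agent.CycB Groth.Agent.CycB.RelDim

namespace K309.DimIrr

variable {X Y : Scheme.{u}}

/-- On an irreducible scheme with a dimension function, `dim O_{X,x} = δ(η) - δ(x)`. -/
theorem ringKrullDim_stalk [IrreducibleSpace X] {δ : X → ℤ} (hδ : Cyc.IsDimFun X δ) (x : X) :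
    ringKrullDim (X.presheaf.stalk x) = ((δ (genericPoint X) - δ x).toNat : ℕ) ∧
      δ x ≤ δ (genericPoint X) := by
  have h : genericPoint X ⤳ x := genericPoint_specializes x
  refine ⟨?_, LocQuot.le_of_specializes hδ h⟩
  rw [← LocQuot.ringKrullDim_locQuot hδ h, ringKrullDim_quotient]
  have : PrimeSpectrum.zeroLocus
      (RingHom.ker (Cyc.specMap x (genericPoint X) h) : Set (X.presheaf.stalk x)) = Set.univ := by
    rw [Set.eq_univ_iff_forall]
    intro P
    rw [LocQuot.mem_zeroLocus_iff, ← LocQuot.primeOf_ptOf P, LocQuot.primeOf_le_iff]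
    exact genericPoint_specializes _
  rw [this]
  exact (Order.krullDim_eq_of_orderIso OrderIso.Set.univ).symm

/-- A flat morphism sends the generic point to the generic point. -/
theorem map_genericPoint_of_flat [IrreducibleSpace X] [IrreducibleSpace Y] (f : X ⟶ Y) [Flat f] :
    f (genericPoint X) = genericPoint Y := by
  obtain ⟨x', h1, h2⟩ := exists_specializes_of_flat f
    (genericPoint_specializes (f (genericPoint X)))
  have h3 : x' = genericPoint X := (h1.antisymm (genericPoint_specializes x')).eq
  rw [← h3, h2]

/-- At a point generic in its fibre, a flat morphism of locally Noetherian schemes preserves the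
dimension of the local ring. -/
theorem ringKrullDim_stalk_of_fibGeneric [IsLocallyNoetherian X] [IsLocallyNoetherian Y]
    (f : X ⟶ Y) [Flat f] {x : X} (hx : FibGeneric f x) :
    ringKrullDim (X.presheaf.stalk x) = ringKrullDim (Y.presheaf.stalk (f x)) := by
  let := (f.stalkMap x).hom.toAlgebra
  have : Module.Flat (Y.presheaf.stalk (f x)) (X.presheaf.stalk x) := Flat.stalkMap f x
  have : IsLocalHom (algebraMap (Y.presheaf.stalk (f x)) (X.presheaf.stalk x)) :=
    inferInstanceAs (IsLocalHom (f.stalkMap x).hom)
  rw [Groth.Agent.Ega41.DimFlat.ringKrullDim_eq_add_of_flat (A := Y.presheaf.stalk (f x))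
    (B := X.presheaf.stalk x)]
  have hle := IsLocalRing.map_maximalIdeal_le
    (algebraMap (Y.presheaf.stalk (f x)) (X.presheaf.stalk x))
  generalize hI : (IsLocalRing.maximalIdeal (Y.presheaf.stalk (f x))).map
        (algebraMap (Y.presheaf.stalk (f x)) (X.presheaf.stalk x)) = I at hle
  have h0 : ringKrullDim (X.presheaf.stalk x ⧸ I) = 0 := by
    have hnt : Nontrivial (X.presheaf.stalk x ⧸ I) := by
      apply Ideal.Quotient.nontrivial_iff.2
      rintro rfl
      exact (IsLocalRing.maximalIdeal.isMaximal _).ne_top (top_le_iff.1 hle)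
    have : Ring.KrullDimLE 0 (X.presheaf.stalk x ⧸ I) := by
      rw [Ring.krullDimLE_zero_iff]
      intro Q hQ
      have hQ' : (Q.comap (Ideal.Quotient.mk I)).IsPrime := inferInstance
      obtain ⟨z, hz, e⟩ := LocQuot.exists_eq_ker (Q.comap (Ideal.Quotient.mk I))
      have hle2 : IsLocalRing.maximalIdeal (Y.presheaf.stalk (f x)) ≤
          (RingHom.ker (Cyc.specMap x z hz)).comap (f.stalkMap x).hom := by
        rw [← e]
        intro a ha
        rw [Ideal.mem_comap, Ideal.mem_comap]
        have h1 : (f.stalkMap x).hom a ∈ I := by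
          rw [← hI]
          exact Ideal.mem_map_of_mem _ ha
        rw [Ideal.Quotient.eq_zero_iff_mem.2 h1]
        exact Q.zero_mem
      have hfz : f z = f x := by
        have h1 : f x ⤳ f z := by
          rw [← LocQuot.ker_le_iff (specializes_refl (f x)) (hz.map f.continuous),
            LocQuot.ker_refl]
          intro a ha
          have h2 := hle2 ha
          rw [Ideal.mem_comap, LocQuot.mem_ker_specMap_iff] at h2
          rw [LocQuot.mem_ker_specMap_iff]
          intro hu
          apply h2
          have h3 : (X.presheaf.stalkSpecializes hz).hom ((f.stalkMap x).hom a) =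
              (f.stalkMap z).hom ((Y.presheaf.stalkSpecializes (hz.map f.continuous)).hom a) := by
            rw [← RingHom.comp_apply, ← RingHom.comp_apply, ← CommRingCat.hom_comp,
              ← CommRingCat.hom_comp]
            congr 2
            exact (Scheme.Hom.stalkSpecializes_stalkMap f _ _ hz).symm
          rw [h3]
          exact hu.map _
        exact ((hz.map f.continuous).antisymm h1).eq
      have hzx : z = x := hx z hfz hz
      subst hzx
      rw [LocQuot.ker_refl] at e
      have hmax : (Q.comap (Ideal.Quotient.mk I)).IsMaximal := by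
        rw [e]; infer_instance
      rcases Ideal.map_eq_top_or_isMaximal_of_surjective (Ideal.Quotient.mk I)
        Ideal.Quotient.mk_surjective hmax with h0 | h0
      · rw [Ideal.map_comap_of_surjective _ Ideal.Quotient.mk_surjective] at h0
        exact absurd h0 hQ.ne_top
      · rwa [Ideal.map_comap_of_surjective _ Ideal.Quotient.mk_surjective] at h0
    exact le_antisymm ((Ring.krullDimLE_iff).1 this) ringKrullDim_nonneg_of_nontrivial
  rw [h0, add_zero]

/-- Flat morphisms of irreducible schemes: the relative transcendence degree at a point generic in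
its fibre is `δX(ξ) - δY(η)`. -/
theorem delta_of_fibGeneric [IrreducibleSpace X] [IrreducibleSpace Y] {f : X ⟶ Y} [Flat f]
    {δX : X → ℤ} {δY : Y → ℤ} (hX : Cyc.IsSetup X δX) (hY : Cyc.IsSetup Y δY)
    {x : X} (hx : FibGeneric f x) :
    δX x = δY (f x) + (δX (genericPoint X) - δY (genericPoint Y)) := by
  have := hX.1
  have := hY.1
  have h1 := ringKrullDim_stalk_of_fibGeneric f hx
  obtain ⟨h2, h2'⟩ := ringKrullDim_stalk hX.2.2 x
  obtain ⟨h3, h3'⟩ := ringKrullDim_stalk hY.2.2 (f x)
  rw [h2, h3] at h1
  have h4 : (δX (genericPoint X) - δX x).toNat = (δY (genericPoint Y) - δY (f x)).toNat := by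
    exact_mod_cast h1
  omega

end K309.DimIrr
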