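import Groth.Agent.Cyc.K309.ProdInj
import Groth.Agent.CycA.ExtRat
import Groth.Agent.CycB.AffBundle
import Groth.Agent.Sga3C.GeomRedPerf
import Groth.Agent.S1863

/-!
# Divisor class groups of products with a rational variety: surjectivity
-/

set_option autoImplicit false
universe u
open AlgebraicGeometry CategoryTheory CategoryTheory.Limits TopologicalSpace Opposite Cyc
open Groth.Agent Groth.Agent.CycB
open K308.Grp K309.Gys K309.Bc K309.Dvr K309.FieldExt
open Groth.Agent.CycB.SetupDVR

namespace K309.ProdSurj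

theorem geometricallyIntegral {k : Type u} [Field k] [IsAlgClosed k] {Y : Scheme.{u}}
    (g : Y ⟶ Spec (CommRingCat.of k)) [IsIntegral Y] : GeometricallyIntegral g := by
  have := Fdesc.GeomAlgClosed.geometricallyIrreducible_of_irreducibleSpace g
  have := Sga3C.GeomRedPerf.geometricallyReduced_of_isReduced g
  exact .of_geometricallyReduced_of_geometricallyIrreducible _

/-- Affine space is flat over its base. -/
instance flat_affineSpace (n : Type u) (S : Scheme.{u}) : Flat (𝔸(n; S) ↘ S) := by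
  wlog hS : ∃ R, S = Spec R
  · refine (IsZariskiLocalAtTarget.iff_of_openCover
      (P := @AlgebraicGeometry.Flat) S.affineCover).mpr ?_
    intro i
    have := this n (S.affineCover.X i) ⟨_, rfl⟩
    rwa [← (AffineSpace.isPullback_map (n := n) (S.affineCover.f i)).isoPullback_hom_snd,
      MorphismProperty.cancel_left_of_respectsIso (P := @AlgebraicGeometry.Flat)] at this
  obtain ⟨R, rfl⟩ := hS
  rw [← MorphismProperty.cancel_left_of_respectsIso (P := @AlgebraicGeometry.Flat)
    (AffineSpace.SpecIso n R).inv, AffineSpace.SpecIso_inv_over, AlgebraicGeometry.Flat.SpecMap_iff]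
  exact RingHom.flat_algebraMap_iff.mpr (inferInstanceAs (Module.Flat R (MvPolynomial n R)))

/-- Surjectivity of the pullback to an affine space. -/
theorem exists_pull_affineSpace {Y : Scheme.{u}} {δY : Y → ℤ} (n : ℕ)
    {δQ : 𝔸(ULift.{u} (Fin n); Y) → ℤ} (hY : IsSetup Y δY)
    (hδ : DeltaCompat (𝔸(ULift.{u} (Fin n); Y) ↘ Y) δQ δY) {c : ℤ}
    (hc : Shift (𝔸(ULift.{u} (Fin n); Y) ↘ Y) δQ δY c) (l : ℤ)
    (β : AlgebraicCycle 𝔸(ULift.{u} (Fin n); Y) ℤ)
    (hβ : β ∈ Zk 𝔸(ULift.{u} (Fin n); Y) δQ (l + c)) :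
    ∃ (α : AlgebraicCycle Y ℤ) (β' : AlgebraicCycle 𝔸(ULift.{u} (Fin n); Y) ℤ), α ∈ Zk Y δY l ∧
      ⇑β' = pullFun (𝔸(ULift.{u} (Fin n); Y) ↘ Y) δQ δY c ⇑α ∧ RatEquiv δQ (l + c) β β' := by
  have hN := hY.1
  have i1 : Flat (𝔸(ULift.{u} (Fin n); Y) ↘ Y) := inferInstance
  have hQ : IsSetup 𝔸(ULift.{u} (Fin n); Y) δQ := SetupLft.isSetup_of_deltaCompat _ hY hδ
  have := hQ.1
  refine AffBundle.exists_pull_aux _ hQ.2.2 hY.2.2 hc (fun y => ?_) c.toNat β hβ fun x hx => ?_
  · exact (AffRT.RT_affineSpace _ n).of_iso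
      (AffRT.exists_fiberIso' (ULift.{u} (Fin n)) Y y).some.symm
  · obtain ⟨m, -, hm⟩ := hδ x
    have h3 : δQ x = l + c := by
      by_contra h; exact hx (hβ x h)
    omega


variable {k : Type u} [Field k] [IsAlgClosed k] {X Y P : Scheme.{u}}
  {f : X ⟶ Spec (CommRingCat.of k)} {g : Y ⟶ Spec (CommRingCat.of k)} {p : P ⟶ X} {q : P ⟶ Y}

open Groth.Agent.CycA.GenProd in
/-- If `X` contains a nonempty open subscheme isomorphic to an open subscheme of an affine space,
then every cycle on `X × Y` is rationally equivalent to the sum of a pullback from `Y` and a cycle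
supported over a proper closed subset of `X`. -/
theorem exists_decomp [IsIntegral X] [IsIntegral Y] [LocallyOfFiniteType f] [LocallyOfFiniteType g]
    (h : IsPullback p q f g) {δX : X → ℤ} {δY : Y → ℤ} {δP : P → ℤ}
    (hX : DeltaCompat f δX (fun _ => 0)) (hY : DeltaCompat g δY (fun _ => 0))
    (hP : DeltaCompat p δP δX) (U : X.Opens) (hU : (U : Set X).Nonempty) (n : ℕ)
    (φ : (U : Scheme.{u}) ⟶ 𝔸(ULift.{u} (Fin n); Spec (CommRingCat.of k))) [IsOpenImmersion φ]
    (hφ : φ ≫ (𝔸(ULift.{u} (Fin n); Spec (CommRingCat.of k)) ↘ Spec (CommRingCat.of k)) =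
      U.ι ≫ f) (l : ℤ) (γ : AlgebraicCycle P ℤ)
    (hγ : γ ∈ Zk P δP (l + δX (genericPoint X))) :
    ∃ β ∈ Zk Y δY l, ∃ (β' ε : AlgebraicCycle P ℤ),
      ⇑β' = pullFun q δP δY (δX (genericPoint X)) ⇑β ∧
      ε ∈ Zk P δP (l + δX (genericPoint X)) ∧ (∀ z, p z ∈ U → ε z = 0) ∧
      RatEquiv δP (l + δX (genericPoint X)) γ (β' + ε) := by
  have hfl : Flat f := inferInstance
  have hgl : Flat g := inferInstance
  have i1 : LocallyOfFiniteType p := MorphismProperty.of_isPullback (P := @LocallyOfFiniteType) h.flip inferInstance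
  have i2 : LocallyOfFiniteType q := MorphismProperty.of_isPullback (P := @LocallyOfFiniteType) h inferInstance
  have i3 : Flat p := MorphismProperty.of_isPullback (P := @AlgebraicGeometry.Flat) h.flip inferInstance
  have i4 : Flat q := MorphismProperty.of_isPullback (P := @AlgebraicGeometry.Flat) h inferInstance
  have hXs := SetupLft.isSetup_of_deltaCompat f (isSetup_spec_field k) hX
  have hYs := SetupLft.isSetup_of_deltaCompat g (isSetup_spec_field k) hY
  have hPs := SetupLft.isSetup_of_deltaCompat p hXs hP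
  have hPk : DeltaCompat (p ≫ f) δP (fun _ => 0) := RelDim.deltaCompat_comp hP hX
  have hsq : Shift q δP δY (δX (genericPoint X)) :=
    shift_of_isPullback h.flip (ProdInj.shift_structure f δX) hY hP
  -- the open subscheme
  have s1 := (isPullback_morphismRestrict p U).paste_vert h
  -- the affine space
  let A := 𝔸(ULift.{u} (Fin n); Spec (CommRingCat.of k))
  let Q := 𝔸(ULift.{u} (Fin n); Y)
  let a : A ⟶ Spec (CommRingCat.of k) := A ↘ Spec (CommRingCat.of k)
  let π : Q ⟶ Y := Q ↘ Y
  let m : Q ⟶ A := AffineSpace.map (ULift.{u} (Fin n)) g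
  have s2 : IsPullback m π a g := AffineSpace.isPullback_map g
  have i5 : LocallyOfFiniteType m :=
    MorphismProperty.of_isPullback (P := @LocallyOfFiniteType) s2.flip inferInstance
  have i6 : Flat π := flat_affineSpace _ _
  have i7 : Flat a := flat_affineSpace _ _
  obtain ⟨δA, hA⟩ := SetupLft.exists_deltaCompat a (fun _ => 0)
  obtain ⟨δQ, hQ⟩ := SetupLft.exists_deltaCompat m δA
  have hQk : DeltaCompat (π ≫ g) δQ (fun _ => 0) := by
    rw [← s2.w]
    exact RelDim.deltaCompat_comp hQ hA
  have hQ' : DeltaCompat π δQ δY := K930.PushPull.deltaCompat_of_comp π g hQk hY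
  have hQs : IsSetup Q δQ := SetupLft.isSetup_of_deltaCompat π hYs hQ'
  have hsπ : Shift π δQ δY (δA (genericPoint A)) :=
    shift_of_isPullback s2.flip (ProdInj.shift_structure a δA) hY hQ
  -- the open subscheme of the affine space over `Y`
  let j : ((p ⁻¹ᵁ U : P.Opens) : Scheme.{u}) ⟶ P := (p ⁻¹ᵁ U).ι
  have hw : ((p ∣_ U) ≫ φ) ≫ a = (j ≫ q) ≫ g := by
    rw [Category.assoc, hφ, ← Category.assoc, morphismRestrict_ι, Category.assoc, h.w,
      Category.assoc]
  let j' : ((p ⁻¹ᵁ U : P.Opens) : Scheme.{u}) ⟶ Q := s2.lift ((p ∣_ U) ≫ φ) (j ≫ q) hw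
  have hj1 : j' ≫ m = (p ∣_ U) ≫ φ := s2.lift_fst _ _ _
  have hj2 : j' ≫ π = j ≫ q := s2.lift_snd _ _ _
  have s3 : IsPullback j' (p ∣_ U) m φ := by
    refine IsPullback.of_right ?_ hj1 s2.flip
    rw [hj2, hφ]
    exact s1.flip
  have i8 : IsOpenImmersion j' :=
    MorphismProperty.of_isPullback (P := @IsOpenImmersion) s3.flip inferInstance
  have hQN := hQs.1
  have hδW : (fun w => δP (j w)) = fun w => δQ (j' w) := by
    have h1 : DeltaCompat ((j ≫ q) ≫ g) (fun w => δP (j w)) (fun _ => 0) := by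
      rw [Category.assoc, ← h.w]
      exact RelDim.deltaCompat_comp (K930.PushPull.deltaCompat_stalk j) hPk
    have h2 : DeltaCompat ((j ≫ q) ≫ g) (fun w => δQ (j' w)) (fun _ => 0) := by
      rw [← hj2, Category.assoc]
      exact RelDim.deltaCompat_comp (K930.PushPull.deltaCompat_stalk j') hQk
    exact SetupLft.deltaCompat_unique h1 h2
  -- the relative dimension
  have hc : δA (genericPoint A) = δX (genericPoint X) := by
    have hω : p (gen2 h (genericPoint X) (genericPoint Y)) ∈ U := by
      rw [p_gen2]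
      obtain ⟨x, hx⟩ := hU
      exact (genericPoint_specializes x).mem_open U.isOpen hx
    let w : ((p ⁻¹ᵁ U : P.Opens) : Scheme.{u}) := ⟨gen2 h (genericPoint X) (genericPoint Y), hω⟩
    have hjw : j w = gen2 h (genericPoint X) (genericPoint Y) := rfl
    have h1 : FlatDiv.FibGen π (j' w) := by
      intro y' _ hsp
      obtain ⟨w', rfl⟩ : y' ∈ Set.range ⇑j' :=
        hsp.mem_open j'.isOpenEmbedding.isOpen_range ⟨w, rfl⟩
      congr 1
      have h3 : w' ⤳ w := j'.isOpenEmbedding.isInducing.specializes_iff.1 hsp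
      have h4 := h3.map j.continuous
      apply j.isOpenEmbedding.injective
      refine (h4.antisymm ?_).eq
      rw [hjw, gen2_specializes_iff]
      exact ⟨genericPoint_specializes _, genericPoint_specializes _⟩
    have h2 := hsπ _ h1
    have h3 : δQ (j' w) = δP (j w) := congrFun hδW.symm w
    have h4 : π (j' w) = genericPoint Y := by
      rw [← Scheme.Hom.comp_apply, hj2, Scheme.Hom.comp_apply, hjw, q_gen2]
    rw [h3, h4, hjw, delta_gen2 h _ _ hX hY hPk] at h2
    omega
  rw [hc] at hsπ
  -- the cycle on the affine space over `Y`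
  let γW := RatTransport.comapCycle j j.isOpenEmbedding.injective γ
  let γQ := AlgebraicCycle.map j' (fun w => δQ (j' w)) δQ γW
  have hγQ : γQ ∈ Zk Q δQ (l + δX (genericPoint X)) := by
    intro z hz
    by_cases hz' : z ∈ Set.range ⇑j'
    · obtain ⟨w, rfl⟩ := hz'
      have e1 : γQ (j' w) = γW w := DivNat.map_apply_of_isPreimmersion j' _ _ _ _ rfl
      rw [e1]
      refine hγ _ ?_
      have h3 : δQ (j' w) = δP (j w) := congrFun hδW.symm w
      rwa [h3] at hz
    · exact DivNat.map_apply_notMem_range j' _ _ _ _ hz'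
  obtain ⟨β, β'Q, hβ, hβ'Q, hrat⟩ := exists_pull_affineSpace n hYs hQ' hsπ l γQ hγQ
  obtain ⟨β', hβ'⟩ := exists_pull hPs q hsq β
  have hβ'mem : β' ∈ Zk P δP (l + δX (genericPoint X)) := by
    intro z hz
    rw [hβ', FlatLength.pullFun_apply]
    split_ifs with h1
    · rw [hβ (q z) (by omega), zero_mul]
    · rfl
  obtain ⟨ε, hε, hε0, hrat'⟩ := Groth.Agent.S1863.result P δP hPs (p ⁻¹ᵁ U)
    (l + δX (genericPoint X)) γ β' hγ hβ'mem γW
    (RatTransport.comapCycle j j.isOpenEmbedding.injective β') (fun _ => rfl) (fun _ => rfl) (by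
      have h1 : RatEquiv (fun w => δQ (j' w)) (l + δX (genericPoint X)) γW
          (RatTransport.comapCycle j j.isOpenEmbedding.injective β') := by
        refine RatTransport.ratEquivZero_restrict j' δQ _ _ hrat _ fun w => ?_
        change γW w - β' (j w) = γQ (j' w) - β'Q (j' w)
        have e1 : γQ (j' w) = γW w := DivNat.map_apply_of_isPreimmersion j' _ _ _ _ rfl
        rw [e1, hβ', hβ'Q]
        congr 1
        have e2 := K930.OpenImm.pullFun_open_comp j (K930.PushPull.deltaCompat_stalk j) (δX := δP)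
          (δY := δY) q (δX (genericPoint X)) ⇑β w
        have e3 := K930.OpenImm.pullFun_open_comp j' (K930.PushPull.deltaCompat_stalk j')
          (δX := δQ) (δY := δY) π (δX (genericPoint X)) ⇑β w
        rw [← e2]
        refine Eq.trans ?_ e3
        rw [hj2, hδW]
      rw [← hδW] at h1
      exact h1)
  exact ⟨β, hβ, β', ε, hβ', hε, fun z hz => hε0 z hz, hrat'⟩

/-- A cycle of codimension one on `X × Y` supported over a proper closed subset of `X` is a
pullback. -/
theorem exists_fst [IsIntegral X] [IsIntegral Y] [LocallyOfFiniteType f] [LocallyOfFiniteType g]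
    [QuasiCompact g] (h : IsPullback p q f g) {δX : X → ℤ} {δY : Y → ℤ} {δP : P → ℤ}
    (hX : DeltaCompat f δX (fun _ => 0)) (hP : DeltaCompat p δP δX) (hP' : DeltaCompat q δP δY)
    (U : X.Opens) (hU : (U : Set X).Nonempty) (ε : AlgebraicCycle P ℤ)
    (hε : ε ∈ Zk P δP (δX (genericPoint X) - 1 + δY (genericPoint Y)))
    (h0 : ∀ z, p z ∈ U → ε z = 0) :
    ∃ α ∈ Zk X δX (δX (genericPoint X) - 1),
      ⇑ε = pullFun p δP δX (δY (genericPoint Y)) ⇑α := by
  have hgi := geometricallyIntegral g
  have hpi : GeometricallyIntegral p :=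
    MorphismProperty.of_isPullback (P := @GeometricallyIntegral) h.flip hgi
  have i1 : QuasiCompact p := MorphismProperty.of_isPullback (P := @QuasiCompact) h.flip inferInstance
  have i2 : LocallyOfFiniteType p := MorphismProperty.of_isPullback (P := @LocallyOfFiniteType) h.flip inferInstance
  have hfl : Flat f := inferInstance
  have hgl : Flat g := inferInstance
  have i3 : Flat p := MorphismProperty.of_isPullback (P := @Flat) h.flip inferInstance
  have hXs := SetupLft.isSetup_of_deltaCompat f (isSetup_spec_field k) hX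
  have hPs := SetupLft.isSetup_of_deltaCompat p hXs hP
  obtain ⟨α, hα, hα'⟩ := AffBundle.exists_base p hPs.2.2
    (shift_of_isPullback h (ProdInj.shift_structure g δY) hX hP') ε hε (fun z hz => by
      have h1 : p z ∉ U := fun h => hz (h0 z h)
      have h2 : genericPoint X ≠ p z := by
        rintro h2
        apply h1
        rw [← h2]
        obtain ⟨x, hx⟩ := hU
        exact (genericPoint_specializes x).mem_open U.isOpen hx
      have := (hXs.2.2 _ _ (genericPoint_specializes (p z)) h2).1
      omega)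
  exact ⟨α, hα, hα'⟩

end K309.ProdSurj
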