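import Groth.Agent.CycA.MovGeo
import Groth.Agent.CycB.RelDim3
import Groth.Agent.CycB.RelDim4
import Mathlib.AlgebraicGeometry.Morphisms.Proper

/-!
# Finite wide pullbacks as iterated pullbacks
-/

set_option autoImplicit false
universe u v w

open CategoryTheory CategoryTheory.Limits AlgebraicGeometry
open Groth.Agent.CycB Groth.Agent.CycB.RelDim

namespace K309.WidePb

section Cat

variable {C : Type w} [Category.{v} C] {X Q : C} (q : Q ⟶ X) (n : ℕ)
  [HasWidePullback X (fun _ : Fin n => Q) (fun _ => q)]
  [HasWidePullback X (fun _ : Fin (n + 1) => Q) (fun _ => q)]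

/-- forget the last coordinate -/
noncomputable def dropLast : widePullback X (fun _ : Fin (n + 1) => Q) (fun _ => q) ⟶
    widePullback X (fun _ : Fin n => Q) (fun _ => q) :=
  WidePullback.lift (WidePullback.base _) (fun i => WidePullback.π _ i.castSucc)
    (fun i => WidePullback.π_arrow _ _)

theorem isPullback_last :
    IsPullback (dropLast q n) (WidePullback.π (fun _ : Fin (n + 1) => q) (Fin.last n))
      (WidePullback.base (fun _ : Fin n => q)) q := by
  refine ⟨⟨?_⟩, ⟨PullbackCone.IsLimit.mk _
    (fun s => WidePullback.lift (s.fst ≫ WidePullback.base _)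
      (fun i => Fin.lastCases (motive := fun _ => s.pt ⟶ Q) s.snd
        (fun j => s.fst ≫ WidePullback.π _ j) i) ?_) ?_ ?_ ?_⟩⟩
  · rw [dropLast, WidePullback.lift_base, WidePullback.π_arrow]
  · intro i
    refine Fin.lastCases ?_ (fun j => ?_) i
    · rw [Fin.lastCases_last]; exact s.condition.symm
    · rw [Fin.lastCases_castSucc, Category.assoc, WidePullback.π_arrow]
  · intro s
    apply WidePullback.hom_ext
    · intro j
      rw [Category.assoc, dropLast, WidePullback.lift_π, WidePullback.lift_π,
        Fin.lastCases_castSucc]
    · rw [Category.assoc, dropLast, WidePullback.lift_base, WidePullback.lift_base]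
  · intro s
    rw [WidePullback.lift_π, Fin.lastCases_last]
  · intro s m h1 h2
    apply WidePullback.hom_ext
    · intro i
      rw [WidePullback.lift_π]
      refine Fin.lastCases ?_ (fun j => ?_) i
      · rw [Fin.lastCases_last]; exact h2
      · rw [Fin.lastCases_castSucc, ← h1, Category.assoc, dropLast, WidePullback.lift_π]
    · rw [WidePullback.lift_base, ← h1, Category.assoc, dropLast, WidePullback.lift_base]

theorem dropLast_base : dropLast q n ≫ WidePullback.base (fun _ : Fin n => q) =
    WidePullback.base (fun _ : Fin (n + 1) => q) := by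
  rw [dropLast, WidePullback.lift_base]

end Cat

/-- A morphism property holds for a finite wide fibre power. -/
theorem prop_base (P : MorphismProperty Scheme.{u}) [P.IsStableUnderBaseChange]
    [P.IsStableUnderComposition] [P.ContainsIdentities] {X Q : Scheme.{u}} (q : Q ⟶ X) (hq : P q) :
    ∀ n : ℕ, P (WidePullback.base (fun _ : Fin n => q)) := by
  intro n
  induction n with
  | zero =>
    have : IsIso (WidePullback.base (fun _ : Fin 0 => q)) := by
      refine ⟨WidePullback.lift (𝟙 X) (fun i => i.elim0) (fun i => i.elim0), ?_, ?_⟩
      · apply WidePullback.hom_ext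
        · intro j; exact j.elim0
        · rw [Category.assoc, WidePullback.lift_base, Category.comp_id, Category.id_comp]
      · rw [WidePullback.lift_base]
    exact MorphismProperty.of_isIso P _
  | succ n ih =>
    rw [← dropLast_base]
    refine P.comp_mem _ _ ?_ ih
    exact MorphismProperty.of_isPullback (isPullback_last q n).flip hq

/-- The relative transcendence degree of a finite fibre power. -/
theorem rtd_base_le {X Q : Scheme.{u}} (q : Q ⟶ X) [LocallyOfFiniteType q] (r : ℕ)
    (hr : Cyc.HasRelDim q r) :
    ∀ (n : ℕ) (x : ↥(widePullback X (fun _ : Fin n => Q) (fun _ => q))),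
      rtd (WidePullback.base (fun _ : Fin n => q)) x ≤ ((n * r : ℕ) : Cardinal.{u}) := by
  intro n
  induction n with
  | zero =>
    intro x
    have : IsIso (WidePullback.base (fun _ : Fin 0 => q)) := by
      refine ⟨WidePullback.lift (𝟙 X) (fun i => i.elim0) (fun i => i.elim0), ?_, ?_⟩
      · apply WidePullback.hom_ext
        · intro j; exact j.elim0
        · rw [Category.assoc, WidePullback.lift_base, Category.comp_id, Category.id_comp]
      · rw [WidePullback.lift_base]
    rw [rtd_eq_zero_of_isPreimmersion]
    exact zero_le
  | succ n ih =>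
    intro x
    rw [← dropLast_base, rtd_comp]
    have h1 := ih (dropLast q n x)
    have h2 : rtd (dropLast q n) x ≤ r := by
      have hpb := isPullback_last q n
      have h3 : dropLast q n = hpb.isoPullback.hom ≫
          pullback.fst (WidePullback.base (fun _ : Fin n => q)) q :=
        hpb.isoPullback_hom_fst.symm
      rw [h3, rtd_comp, rtd_eq_zero_of_isPreimmersion hpb.isoPullback.hom, add_zero]
      exact rtd_le (hasRelDim_fst hr) _
    refine (add_le_add h1 h2).trans ?_
    rw [← Nat.cast_add]
    exact_mod_cast (by ring_nf; exact le_refl _)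

end K309.WidePb
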