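import Groth.Agent.Cyc.K309.ZeroFun
import Groth.Agent.CycB.RelDim4
import Groth.Agent.CycB.SetupDVR

/-!
# Flat base change of Chow groups and specialisation

* `bc`: for `P = X ×_S S'` with `X → S` locally of finite type and `S' → S` flat with shift `c`, the
  flat pullback `G X → G P`;
* `bc_bc`: towers;
* `bc_eq_zero_iff`: independence of the chosen fibre product;
* `bc_specialise`: if `T₀ = V(t) ⊂ T` with complement `U`, then `bc_U a = 0` implies `bc_{T₀} a = 0`.
-/

set_option autoImplicit false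
universe u
open AlgebraicGeometry CategoryTheory CategoryTheory.Limits TopologicalSpace Opposite Cyc
open Groth.Agent Groth.Agent.CycB Groth.Agent.CycB.GysinCl
open K305.StructCap K308.Grp K309.Gys K309.ZeroFun

namespace K309.Bc

variable {S S' X P : Scheme.{u}} {δS : S → ℤ} {δS' : S' → ℤ} {δX : X → ℤ} {δP : P → ℤ}
variable {a : X ⟶ S} {g : S' ⟶ S} {p : P ⟶ X} {q : P ⟶ S'} {c : ℤ}

theorem shift_fst [LocallyOfFiniteType a] [Flat g] {δP : ↥(pullback a g) → ℤ}
    (hc : Shift g δS' δS c) (hX : DeltaCompat a δX δS)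
    (hP : DeltaCompat (pullback.snd a g) δP δS') : Shift (pullback.fst a g) δP δX c := by
  intro z hz
  have hfib : RelDim.FibGeneric (pullback.fst a g) z := hz
  have hs' := hc (pullback.snd a g z) hfib.snd
  obtain ⟨n, hn, hn'⟩ := RelDim.deltaCompat_iff.mp hP z
  obtain ⟨m, hm, hm'⟩ := RelDim.deltaCompat_iff.mp hX (pullback.fst a g z)
  have h1 := RelDim.rtd_snd_of_fibGeneric_fst hfib
  rw [hn, hm] at h1
  have h2 : n = m := by exact_mod_cast h1
  have h3 : g (pullback.snd a g z) = a (pullback.fst a g z) :=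
    congr($(pullback.condition (f := a) (g := g)) z).symm
  rw [hn', hs', h3, hm', h2]
  ring

/-- Transport of a compatible dimension function along an isomorphism. -/
theorem deltaCompat_inv_comp {P' : Scheme.{u}} (e : P' ≅ P) {q' : P' ⟶ S'} (he : e.inv ≫ q' = q)
    {δP' : P' → ℤ} (h : DeltaCompat q' δP' δS') : DeltaCompat q (fun z => δP' (e.inv z)) δS' := by
  rw [← he]
  exact RelDim.deltaCompat_comp (K930.PushPull.deltaCompat_stalk e.inv) h

theorem shift_iso {P' : Scheme.{u}} (e : P' ⟶ P) [IsIso e] {δP' : P' → ℤ}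
    (h : ∀ z, δP' z = δP (e z)) : Shift e δP' δP 0 := fun z _ => by rw [h z, add_zero]

/-- Shifts are stable under base change. -/
theorem shift_of_isPullback [LocallyOfFiniteType a] [Flat g] (h : IsPullback p q a g)
    (hc : Shift g δS' δS c) (hX : DeltaCompat a δX δS) (hP : DeltaCompat q δP δS') :
    Shift p δP δX c := by
  intro z hz
  have h1 : DeltaCompat (pullback.snd a g) (fun w => δP (h.isoPullback.inv w)) δS' :=
    deltaCompat_inv_comp h.isoPullback h.isoPullback_inv_snd hP
  have h2 := shift_fst hc hX h1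
  have e1 : ∀ w, p w = pullback.fst a g (h.isoPullback.hom w) := fun w => by
    rw [← Scheme.Hom.comp_apply, h.isoPullback_hom_fst]
  have e2 : ∀ w, h.isoPullback.inv (h.isoPullback.hom w) = w := fun w => by
    rw [← Scheme.Hom.comp_apply, Iso.hom_inv_id]; rfl
  have e3 : ∀ w, h.isoPullback.hom (h.isoPullback.inv w) = w := fun w => by
    rw [← Scheme.Hom.comp_apply, Iso.inv_hom_id]; rfl
  have h3 := h2 (h.isoPullback.hom z) (by
    intro y hy hyz
    have h4 := hz (h.isoPullback.inv y) (by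
      rw [e1, e3, hy, ← e1]) (by
      have := hyz.map h.isoPullback.inv.continuous
      rwa [e2] at this)
    rw [← e3 y, h4])
  rw [← e1] at h3
  dsimp only at h3
  rwa [e2] at h3

theorem flat_of_isPullback [Flat g] (h : IsPullback p q a g) : Flat p :=
  MorphismProperty.of_isPullback (P := @Flat) h.flip inferInstance

theorem lft_of_isPullback [LocallyOfFiniteType a] (h : IsPullback p q a g) :
    LocallyOfFiniteType q :=
  MorphismProperty.of_isPullback (P := @LocallyOfFiniteType) h inferInstance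

theorem setup_of_isPullback [LocallyOfFiniteType a] (hS' : IsSetup S' δS')
    (h : IsPullback p q a g) (hP : DeltaCompat q δP δS') : IsSetup P δP := by
  have := lft_of_isPullback h
  exact SetupLft.isSetup_of_deltaCompat q hS' hP

/-- Flat base change of Chow groups. -/
noncomputable def bc [LocallyOfFiniteType a] [Flat g] (hS : IsSetup S δS) (hS' : IsSetup S' δS')
    (hc : Shift g δS' δS c) (hX : DeltaCompat a δX δS) (h : IsPullback p q a g)
    (hP : DeltaCompat q δP δS') : G X δX →+ G P δP :=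
  haveI := flat_of_isPullback h
  pull (setup_of_isPullback hS' h hP) (SetupLft.isSetup_of_deltaCompat a hS hX) p
    (shift_of_isPullback h hc hX hP)

theorem bc_eq_pull [LocallyOfFiniteType a] [Flat g] [Flat p] (hS : IsSetup S δS)
    (hS' : IsSetup S' δS') (hc : Shift g δS' δS c) (hX : DeltaCompat a δX δS)
    (h : IsPullback p q a g) (hP : DeltaCompat q δP δS') (hXs : IsSetup X δX) (hPs : IsSetup P δP)
    (hp : Shift p δP δX c) (x : G X δX) :
    bc hS hS' hc hX h hP x = pull hPs hXs p hp x := rfl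

theorem bc_cl [LocallyOfFiniteType a] [Flat g] (hS : IsSetup S δS)
    (hS' : IsSetup S' δS') (hc : Shift g δS' δS c) (hX : DeltaCompat a δX δS)
    (h : IsPullback p q a g) (hP : DeltaCompat q δP δS') {α : AlgebraicCycle X ℤ}
    {β : AlgebraicCycle P ℤ} (hβ : ⇑β = pullFun p δP δX c ⇑α) :
    bc hS hS' hc hX h hP (cl δX α) = cl δP β := by
  have := flat_of_isPullback h
  exact pull_cl _ _ p _ hβ

/-- Towers. -/
theorem bc_bc {S'' P'' : Scheme.{u}} {δS'' : S'' → ℤ} {δP'' : P'' → ℤ} {g' : S'' ⟶ S'}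
    {g'' : S'' ⟶ S} {p' : P'' ⟶ P} {p'' : P'' ⟶ X} {q'' : P'' ⟶ S''} {c' c'' : ℤ}
    [LocallyOfFiniteType a] [LocallyOfFiniteType q] [Flat g] [Flat g'] [Flat g'']
    (hS : IsSetup S δS) (hS' : IsSetup S' δS') (hS'' : IsSetup S'' δS'')
    (hc : Shift g δS' δS c) (hc' : Shift g' δS'' δS' c') (hc'' : Shift g'' δS'' δS c'')
    (hX : DeltaCompat a δX δS) (h : IsPullback p q a g) (hP : DeltaCompat q δP δS')
    (h' : IsPullback p' q'' q g') (h'' : IsPullback p'' q'' a g'')
    (hP'' : DeltaCompat q'' δP'' δS'') (hp : p' ≫ p = p'') (hcc : c'' = c' + c) (x : G X δX) :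
    bc hS' hS'' hc' hP h' hP'' (bc hS hS' hc hX h hP x) = bc hS hS'' hc'' hX h'' hP'' x := by
  have := flat_of_isPullback h
  have := flat_of_isPullback h'
  have := flat_of_isPullback h''
  subst hp
  exact pull_pull _ _ _ p' p _ _ _ hcc x

/-- The vanishing of a base change does not depend on the chosen fibre product. -/
theorem bc_eq_zero_of [LocallyOfFiniteType a] [Flat g] (hS : IsSetup S δS)
    (hS' : IsSetup S' δS') (hc : Shift g δS' δS c) (hX : DeltaCompat a δX δS)
    (h : IsPullback p q a g) (hP : DeltaCompat q δP δS') {P' : Scheme.{u}} {δP' : P' → ℤ}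
    {p' : P' ⟶ X} {q' : P' ⟶ S'} (h' : IsPullback p' q' a g) (hP' : DeltaCompat q' δP' δS')
    (x : G X δX) (hx : bc hS hS' hc hX h hP x = 0) : bc hS hS' hc hX h' hP' x = 0 := by
  let e : P' ≅ P := h'.isoIsPullback _ _ h
  have e1 : e.hom ≫ p = p' := h'.isoIsPullback_hom_fst _ _ h
  have e2 : e.hom ≫ q = q' := h'.isoIsPullback_hom_snd _ _ h
  have := flat_of_isPullback h
  have := flat_of_isPullback h'
  have hδ : δP' = fun z => δP (e.hom z) := by
    refine SetupLft.deltaCompat_unique hP' ?_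
    rw [← e2]
    exact RelDim.deltaCompat_comp (K930.PushPull.deltaCompat_stalk e.hom) hP
  have hs : Shift e.hom δP' δP 0 := shift_iso e.hom fun z => by rw [hδ]
  have hs' : Shift (e.hom ≫ p) δP' δX c := by
    rw [e1]; exact shift_of_isPullback h' hc hX hP'
  have h3 : bc hS hS' hc hX h' hP' x = pull (setup_of_isPullback hS' h' hP')
      (setup_of_isPullback hS' h hP) e.hom hs (bc hS hS' hc hX h hP x) := by
    have h4 := pull_pull (setup_of_isPullback hS' h' hP') (setup_of_isPullback hS' h hP)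
      (SetupLft.isSetup_of_deltaCompat a hS hX) e.hom p hs (shift_of_isPullback h hc hX hP) hs'
      (by ring) x
    refine Eq.trans ?_ h4.symm
    exact pull_congr _ _ e1.symm _ _ x
  rw [h3, hx, map_zero]

theorem range_of_isPullback (h : IsPullback p q a g) : Set.range ⇑p = ⇑a ⁻¹' Set.range ⇑g := by
  rw [← h.isoPullback_hom_fst, Scheme.Hom.comp_base, TopCat.coe_comp, Set.range_comp,
    Set.range_eq_univ.2 h.isoPullback.hom.surjective, Set.image_univ, Scheme.Pullback.range_fst]

/-- Nonzerodivisors stay nonzerodivisors under flat pullback. -/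
theorem regular_germ_appTop (q : P ⟶ S') [Flat q] {t : Γ(S', ⊤)}
    (hreg : ∀ x : S', IsSMulRegular (S'.presheaf.stalk x) (S'.presheaf.germ ⊤ x trivial t))
    (x : P) : Function.Injective (fun b : P.presheaf.stalk x =>
      b • ((Coh.structureModule P).presheaf.germ ⊤ x trivial) (ZeroFun.sec (q.appTop t))) := by
  let _ := (q.stalkMap x).hom.toAlgebra
  have : Module.Flat (S'.presheaf.stalk (q x)) (P.presheaf.stalk x) := Flat.stalkMap q x
  have h1 : IsSMulRegular (P.presheaf.stalk x)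
      (algebraMap (S'.presheaf.stalk (q x)) (P.presheaf.stalk x)
        (S'.presheaf.germ ⊤ (q x) trivial t)) := (hreg (q x)).of_flat
  have h2 : algebraMap (S'.presheaf.stalk (q x)) (P.presheaf.stalk x)
      (S'.presheaf.germ ⊤ (q x) trivial t) = P.presheaf.germ ⊤ x trivial (q.appTop t) :=
    Scheme.Hom.germ_stalkMap_apply q ⊤ x trivial t
  rw [h2] at h1
  intro b b' hbb
  dsimp only at hbb
  rw [germ_sec, smul_smul, smul_smul] at hbb
  have h3 := (isGen_one x).1 hbb
  rw [mul_comm b, mul_comm b'] at h3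
  exact h1 h3

/-- **Specialisation.** Let `T → S` be flat, `T₀ = V(t) ⊂ T` with complement `U`. If the base
change to `U` of a class `x` on the flat `S`-scheme `X` vanishes, then so does its base change to
`T₀`. -/
theorem bc_specialise {T T₀ U X_T X_0 X_U : Scheme.{u}} {δT : T → ℤ} {δ₀ : T₀ → ℤ} {δU : U → ℤ}
    {gT : T ⟶ S} {i : T₀ ⟶ T} {j : U ⟶ T} {g₀ : T₀ ⟶ S} {gU : U ⟶ S}
    [LocallyOfFiniteType a] [Flat a] [Flat gT] [Flat g₀] [Flat gU]
    [IsClosedImmersion i] [IsOpenImmersion j]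
    (hji : Set.range ⇑j = (Set.range ⇑i)ᶜ)
    {t : Γ(T, ⊤)} (hi : VanFun i t)
    (hreg : ∀ x : T, IsSMulRegular (T.presheaf.stalk x) (T.presheaf.germ ⊤ x trivial t))
    (hig : i ≫ gT = g₀) (hjg : j ≫ gT = gU)
    (hS : IsSetup S δS) (hT : IsSetup T δT) (hT₀ : IsSetup T₀ δ₀) (hU : IsSetup U δU)
    {cT c₀ cU cj : ℤ} (hcc : cT = c₀ + 1) (hcj : cU = cj + cT)
    (hgT : Shift gT δT δS cT) (hg₀ : Shift g₀ δ₀ δS c₀) (hgU : Shift gU δU δS cU)
    (hiδ : DeltaCompat i δ₀ δT) (hj : Shift j δU δT cj)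
    (hX : DeltaCompat a δX δS)
    {pT : X_T ⟶ X} {qT : X_T ⟶ T} (sT : IsPullback pT qT a gT) {δXT : X_T → ℤ}
    (hXT : DeltaCompat qT δXT δT)
    {p₀ : X_0 ⟶ X} {q₀ : X_0 ⟶ T₀} (s₀ : IsPullback p₀ q₀ a g₀) {δX0 : X_0 → ℤ}
    (hX0 : DeltaCompat q₀ δX0 δ₀)
    {pU : X_U ⟶ X} {qU : X_U ⟶ U} (sU : IsPullback pU qU a gU) {δXU : X_U → ℤ}
    (hXU : DeltaCompat qU δXU δU)
    (x : G X δX) (hx : bc hS hU hgU hX sU hXU x = 0) : bc hS hT₀ hg₀ hX s₀ hX0 x = 0 := by
  have := flat_of_isPullback sT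
  have := flat_of_isPullback s₀
  have := flat_of_isPullback sU
  have := lft_of_isPullback sT
  have : Flat qT := MorphismProperty.of_isPullback (P := @Flat) sT inferInstance
  have hXs : IsSetup X δX := SetupLft.isSetup_of_deltaCompat a hS hX
  have hTs := setup_of_isPullback hT sT hXT
  -- the maps between the fibre products
  let i' : X_0 ⟶ X_T := sT.lift p₀ (q₀ ≫ i) (by rw [s₀.w, Category.assoc, hig])
  have i'1 : i' ≫ pT = p₀ := sT.lift_fst _ _ _
  have i'2 : i' ≫ qT = q₀ ≫ i := sT.lift_snd _ _ _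
  have si : IsPullback i' q₀ qT i := by
    refine IsPullback.of_right ?_ i'2 sT
    rw [i'1, hig]
    exact s₀
  let j' : X_U ⟶ X_T := sT.lift pU (qU ≫ j) (by rw [sU.w, Category.assoc, hjg])
  have j'1 : j' ≫ pT = pU := sT.lift_fst _ _ _
  have j'2 : j' ≫ qT = qU ≫ j := sT.lift_snd _ _ _
  have sj : IsPullback j' qU qT j := by
    refine IsPullback.of_right ?_ j'2 sT
    rw [j'1, hjg]
    exact sU
  have : IsClosedImmersion i' := MorphismProperty.of_isPullback (P := @IsClosedImmersion)
    si.flip inferInstance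
  have : IsOpenImmersion j' := MorphismProperty.of_isPullback (P := @IsOpenImmersion)
    sj.flip inferInstance
  have hi'δ : DeltaCompat i' δX0 δXT := by
    refine K930.PushPull.deltaCompat_of_comp i' qT ?_ hXT
    rw [i'2]
    exact RelDim.deltaCompat_comp hX0 hiδ
  have hv : IsZeroSchemeOf i' (Coh.structureModule X_T) (ZeroFun.sec (qT.appTop t)) :=
    (hi.of_isPullback si).isZero
  have hji' : Set.range ⇑j' = (Set.range ⇑i')ᶜ := by
    have h1 : Set.range ⇑j' = ⇑qT ⁻¹' Set.range ⇑j := range_of_isPullback sj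
    have h2 : Set.range ⇑i' = ⇑qT ⁻¹' Set.range ⇑i := range_of_isPullback si
    rw [h1, h2, hji, Set.preimage_compl]
  have hj' : Shift j' δXU δXT cj := shift_of_isPullback sj hj hXT hXU
  have hgys := gys_of_restrict hTs hi'δ hv (setup_of_isPullback hU sU hXU) j' hji' hj'
    (bc hS hT hgT hX sT hXT x) (by
      have h1 := bc_bc hS hT hU hgT hj hgU hX sT hXT sj sU hXU j'1 hcj x
      rw [hx] at h1
      exact h1)
  have hflat : Flat (i' ≫ pT) := by rw [i'1]; infer_instance
  have hq : Shift (i' ≫ pT) δX0 δX c₀ := by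
    rw [i'1]
    exact shift_of_isPullback s₀ hg₀ hX hX0
  have hpull := gys_pull hTs hXs (setup_of_isPullback hT₀ s₀ hX0) (p := pT) hi'δ
    (isInvertible_structureModule X_T) hv hcc (shift_of_isPullback sT hgT hX hXT) hq
    (regular_germ_appTop qT hreg) x
  have h2 : bc hS hT₀ hg₀ hX s₀ hX0 x = pull (setup_of_isPullback hT₀ s₀ hX0) hXs (i' ≫ pT) hq x :=
    pull_congr _ _ i'1.symm _ _ x
  rw [h2, ← hpull]
  exact hgys

end K309.Bc
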