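import Groth.Agent.Cyc.K308.Ops
import Groth.Agent.Cyc.K305.StructCap
import Groth.Agent.Bivar.K930.ZeroSch
import Groth.Agent.Bivar.K930.OpenImm
import Groth.Agent.CycB.KeyGysin
import Groth.Agent.S1863

/-!
# The Gysin homomorphism of a zero scheme on ungraded Chow groups

For `i : D ⟶ X` the zero scheme of a section `s` of an invertible module `L`:

* `gys : G X δ →+ G D (δ ∘ i)`;
* `gys_cl`: any nowhere zero fallback sections may be used;
* `gys_push_self`: `i^* i_* a = c₁(i^*L) ∩ a`;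
* `gys_of_restrict`: if `L` is trivial and `a` restricts to zero on the complement of `D` then
  `i^* a = 0`;
* `gys_push`: compatibility with proper pushforward;
* `gys_pull`: if `p : X ⟶ Y` and `i ≫ p` are flat, `i^* p^* = (i ≫ p)^*`.
-/

set_option autoImplicit false
universe u
open AlgebraicGeometry CategoryTheory CategoryTheory.Limits TopologicalSpace Opposite Cyc
open Groth.Agent.CycB Groth.Agent.CycB.DivFun Groth.Agent.CycB.GysinCl
open K308.Grp

namespace K309.Gys

variable {X D : Scheme.{u}} {δ : X → ℤ} {L : X.Modules} {s : L.presheaf.obj (op ⊤)} {i : D ⟶ X}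
variable {k : ℤ}

theorem exists_gys (hX : IsSetup X δ) (hL : PicF.IsInvertible L) (s : L.presheaf.obj (op ⊤))
    (i : D ⟶ X) [IsClosedImmersion i] (α : AlgebraicCycle X ℤ)
    {w : (ξ : X) → secFibre L ξ} (hw : ∀ ξ, w ξ ≠ 0) :
    ∃ γ : AlgebraicCycle D ℤ, ∀ d, γ d = c1CapFun δ L ⇑α (gysinChoice L s w) (i d) := by
  obtain ⟨Γ, hΓ⟩ := exists_cap hX hL α (gysinChoice_ne_zero s hw)
  exact ⟨RatTransport.comapCycle i i.isClosedEmbedding.injective Γ, fun d => by
    rw [RatTransport.comapCycle_apply, hΓ]⟩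

/-- The Gysin pullback of a cycle. -/
noncomputable def gysCycle (hX : IsSetup X δ) (hL : PicF.IsInvertible L)
    (s : L.presheaf.obj (op ⊤)) (i : D ⟶ X) [IsClosedImmersion i] (α : AlgebraicCycle X ℤ) :
    AlgebraicCycle D ℤ := (exists_gys hX hL s i α (sec_ne_zero hL)).choose

theorem gysCycle_apply (hX : IsSetup X δ) (hL : PicF.IsInvertible L)
    (s : L.presheaf.obj (op ⊤)) (i : D ⟶ X) [IsClosedImmersion i] (α : AlgebraicCycle X ℤ)
    (d : D) : gysCycle hX hL s i α d = c1CapFun δ L ⇑α (gysinChoice L s (sec hL)) (i d) :=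
  (exists_gys hX hL s i α (sec_ne_zero hL)).choose_spec d

noncomputable def gysHom (hX : IsSetup X δ) (hL : PicF.IsInvertible L)
    (s : L.presheaf.obj (op ⊤)) (i : D ⟶ X) [IsClosedImmersion i] :
    AlgebraicCycle X ℤ →+ AlgebraicCycle D ℤ :=
  AddMonoidHom.mk' (gysCycle hX hL s i) fun α β => by
    ext d
    rw [Function.locallyFinsuppWithin.coe_add, Pi.add_apply, gysCycle_apply, gysCycle_apply,
      gysCycle_apply, Function.locallyFinsuppWithin.coe_add, C1Cap.c1CapFun_add, Pi.add_apply]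

/-- The homogeneous parts of a Gysin pullback. -/
theorem part_gys {w : (ξ : X) → secFibre L ξ} (α : AlgebraicCycle X ℤ) (γ : AlgebraicCycle D ℤ)
    (hγ : ∀ d, γ d = c1CapFun δ L ⇑α w (i d)) (k : ℤ) (d : D) :
    part (fun d => δ (i d)) k γ d = c1CapFun δ L ⇑(part δ (k + 1) α) w (i d) := by
  rw [part_apply, hγ, C1Cap.c1CapFun_apply, C1Cap.c1CapFun_apply]
  by_cases h : δ (i d) = k
  · rw [if_pos h]
    refine finsum_congr fun ξ => ?_
    rw [part_apply]
    split_ifs with h'
    · rfl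
    · have : secDivFun δ L ξ (w ξ) (i d) = 0 := by
        unfold secDivFun
        rw [dif_neg]
        rintro ⟨-, h2⟩
        exact h' (by omega)
      rw [this, mul_zero, mul_zero]
  · rw [if_neg h]
    symm
    refine finsum_eq_zero_of_forall_eq_zero fun ξ => ?_
    rw [part_apply]
    split_ifs with h'
    · have : secDivFun δ L ξ (w ξ) (i d) = 0 := by
        unfold secDivFun
        rw [dif_neg]
        rintro ⟨-, h2⟩
        exact h (by omega)
      rw [this, mul_zero]
    · rw [zero_mul]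

variable {δD : D → ℤ}

theorem part_gys' [IsClosedImmersion i] (hi : DeltaCompat i δD δ) {w : (ξ : X) → secFibre L ξ}
    (α : AlgebraicCycle X ℤ) (γ : AlgebraicCycle D ℤ)
    (hγ : ∀ d, γ d = c1CapFun δ L ⇑α w (i d)) (k : ℤ) (d : D) :
    part δD k γ d = c1CapFun δ L ⇑(part δ (k + 1) α) w (i d) := by
  obtain rfl := K930.PushPull.deltaCompat_eq_comp i hi
  exact part_gys α γ hγ k d

theorem cl_gys_eq_zero (hX : IsSetup X δ) (hL : PicF.IsInvertible L)
    [IsClosedImmersion i] (hi : DeltaCompat i δD δ)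
    (hD : IsZeroSchemeOf i L s) {α : AlgebraicCycle X ℤ}
    (h : cl δ α = 0) {w : (ξ : X) → secFibre L ξ} (hw : ∀ ξ, w ξ ≠ 0) {γ : AlgebraicCycle D ℤ}
    (hγ : ∀ d, γ d = c1CapFun δ L ⇑α (gysinChoice L s w) (i d)) : cl δD γ = 0 := by
  have := hX.1
  obtain rfl := K930.PushPull.deltaCompat_eq_comp i hi
  rw [cl_eq_zero_iff'] at h ⊢
  intro k
  exact KeyGysin.ratEquivZero_gysin hX.2.2 hL hD (h (k + 1)) hw _ (part_gys α γ hγ k)

/-- The Gysin homomorphism. -/
noncomputable def gys (hX : IsSetup X δ) (hL : PicF.IsInvertible L)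
    [IsClosedImmersion i] (hi : DeltaCompat i δD δ) (hD : IsZeroSchemeOf i L s) :
    G X δ →+ G D δD :=
  QuotientAddGroup.lift (R X δ) ((cl δD).comp (gysHom hX hL s i)) fun α hα =>
    cl_gys_eq_zero hX hL hi hD (cl_eq_zero_iff'.2 hα) (sec_ne_zero hL) (gysCycle_apply hX hL s i α)

theorem gys_cl_gysCycle (hX : IsSetup X δ) (hL : PicF.IsInvertible L)
    [IsClosedImmersion i] (hi : DeltaCompat i δD δ) (hD : IsZeroSchemeOf i L s)
    (α : AlgebraicCycle X ℤ) :
    gys hX hL hi hD (cl δ α) = cl _ (gysCycle hX hL s i α) := rfl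

/-- The part of a cycle supported in a subset. -/
noncomputable def onSet (T : Set X) (α : AlgebraicCycle X ℤ) : AlgebraicCycle X ℤ where
  toFun x := by classical exact if x ∈ T then α x else 0
  supportWithinDomain' := by simp
  supportLocallyFiniteWithinDomain' z _ := by
    obtain ⟨t, ht, hfin⟩ := α.supportLocallyFiniteWithinDomain' z (by trivial)
    refine ⟨t, ht, hfin.subset ?_⟩
    rintro y ⟨hy1, hy2⟩
    refine ⟨hy1, ?_⟩
    simp only [Function.mem_support] at hy2 ⊢
    intro h0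
    apply hy2
    classical
    change (if y ∈ T then α y else 0) = 0
    split_ifs
    · exact h0
    · rfl

theorem onSet_mem {T : Set X} {α : AlgebraicCycle X ℤ} {x : X} (hx : x ∈ T) :
    onSet T α x = α x := by
  classical
  change (if x ∈ T then α x else 0) = _
  rw [if_pos hx]

theorem onSet_notMem {T : Set X} {α : AlgebraicCycle X ℤ} {x : X} (hx : x ∉ T) :
    onSet T α x = 0 := by
  classical
  change (if x ∈ T then α x else 0) = _
  rw [if_neg hx]

theorem onSet_add_compl (T : Set X) (α : AlgebraicCycle X ℤ) : onSet T α + onSet Tᶜ α = α := by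
  ext x
  rw [Function.locallyFinsuppWithin.coe_add, Pi.add_apply]
  by_cases hx : x ∈ T
  · rw [onSet_mem hx, onSet_notMem (Set.notMem_compl_iff.2 hx), add_zero]
  · rw [onSet_notMem hx, onSet_mem (show x ∈ Tᶜ from hx), zero_add]

theorem gysinChoice_congr (w w' : (ξ : X) → secFibre L ξ) (hD : IsZeroSchemeOf i L s) {ξ : X}
    (hξ : ξ ∉ Set.range ⇑i) : gysinChoice L s w ξ = gysinChoice L s w' ξ := by
  have h : val L s ξ ≠ 0 := fun h => hξ ((mem_range_iff hD ξ).2 h)
  rw [gysinChoice_of_ne s w h, gysinChoice_of_ne s w' h]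

theorem c1CapFun_congr {α : X → ℤ} {w w' : (ξ : X) → secFibre L ξ}
    (h : ∀ ξ, α ξ ≠ 0 → w ξ = w' ξ) : c1CapFun δ L α w = c1CapFun δ L α w' := by
  funext x
  rw [C1Cap.c1CapFun_apply, C1Cap.c1CapFun_apply]
  refine finsum_congr fun ξ => ?_
  by_cases h0 : α ξ = 0
  · rw [h0, zero_mul, zero_mul]
  · rw [h ξ h0]

/-- The Gysin homomorphism is computed with any fallback sections. -/
theorem gys_cl (hX : IsSetup X δ) (hL : PicF.IsInvertible L)
    [IsClosedImmersion i] (hi : DeltaCompat i δD δ)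
    (hD : IsZeroSchemeOf i L s) {α : AlgebraicCycle X ℤ}
    {w : (ξ : X) → secFibre L ξ} (hw : ∀ ξ, w ξ ≠ 0) {γ : AlgebraicCycle D ℤ}
    (hγ : ∀ d, γ d = c1CapFun δ L ⇑α (gysinChoice L s w) (i d)) :
    gys hX hL hi hD (cl δ α) = cl _ γ := by
  have := hX.1
  obtain rfl := K930.PushPull.deltaCompat_eq_comp i hi
  have hw0 := sec_ne_zero hL
  have hLi := C1Pull.isInvertible_pullback i hL
  set T : Set X := Set.range ⇑i with hT
  rw [gys_cl_gysCycle]
  obtain ⟨γ₁, h₁⟩ := exists_gys hX hL s i (onSet T α) hw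
  obtain ⟨γ₂, h₂⟩ := exists_gys hX hL s i (onSet Tᶜ α) hw
  obtain ⟨γ₃, h₃⟩ := exists_gys hX hL s i (onSet T α) hw0
  have e1 : γ = γ₁ + γ₂ := by
    ext d
    rw [Function.locallyFinsuppWithin.coe_add, Pi.add_apply, h₁, h₂, ← Pi.add_apply,
      ← C1Cap.c1CapFun_add, ← Function.locallyFinsuppWithin.coe_add, onSet_add_compl, hγ]
  have e2 : gysCycle hX hL s i α = γ₃ + γ₂ := by
    ext d
    have h4 : c1CapFun δ L ⇑(onSet Tᶜ α) (gysinChoice L s w) =
        c1CapFun δ L ⇑(onSet Tᶜ α) (gysinChoice L s (sec hL)) := by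
      refine c1CapFun_congr fun ξ hξ => gysinChoice_congr w _ hD fun hξT => hξ ?_
      exact onSet_notMem (Set.notMem_compl_iff.2 hξT)
    rw [Function.locallyFinsuppWithin.coe_add, Pi.add_apply, h₃, h₂, h4, ← Pi.add_apply,
      ← C1Cap.c1CapFun_add, ← Function.locallyFinsuppWithin.coe_add, onSet_add_compl,
      gysCycle_apply]
  rw [e1, e2, map_add, map_add]
  congr 1
  have key : ∀ (v : (ξ : X) → secFibre L ξ), (∀ ξ, v ξ ≠ 0) → ∀ d : D,
      c1CapFun δ L ⇑(onSet T α) (gysinChoice L s v) (i d) = c1CapFun (fun d => δ (i d))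
        ((Scheme.Modules.pullback i).obj L)
        ⇑(RatTransport.comapCycle i i.isClosedEmbedding.injective (onSet T α))
        (fun ξ => C1Pull.fib i L ξ (gysinChoice L s v (i ξ))) d := by
    intro v hv d
    exact C1Fin.c1CapFun_closedImmersion i hL δ _ (fun x hx => onSet_notMem hx) _
      (fun ξ _ => gysinChoice_ne_zero s hv ξ) d
  refine cl_eq_of_cap (α := RatTransport.comapCycle i i.isClosedEmbedding.injective (onSet T α))
    hLi (fun ξ _ => C1Pull.fib_ne_zero i hL (gysinChoice_ne_zero s hw0 (i ξ)))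
    (fun ξ _ => C1Pull.fib_ne_zero i hL (gysinChoice_ne_zero s hw (i ξ))) ?_ ?_
  · funext d
    rw [h₃, key _ hw0]
  · funext d
    rw [h₁, key _ hw]

section Trivial

open K305.StructCap

variable {t : (Coh.structureModule X).presheaf.obj (op ⊤)}

/-- The class of a cycle supported on `D` has Gysin pullback zero if the module is trivial. -/
theorem gys_onSet (hX : IsSetup X δ) [IsClosedImmersion i] (hi : DeltaCompat i δD δ)
    (hD : IsZeroSchemeOf i (Coh.structureModule X) t) {α : AlgebraicCycle X ℤ}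
    (hα : ∀ x, x ∉ Set.range ⇑i → α x = 0) :
    gys hX (isInvertible_structureModule X) hi hD (cl δ α) = 0 := by
  have h1 : ∀ ξ : X, C1Basic.cl (Coh.structureModule X) ξ (one ξ) ≠ 0 := fun ξ =>
    C1Basic.cl_ne_zero (isGen_one ξ)
  rw [gys_cl hX (isInvertible_structureModule X) hi hD h1 (γ := 0) fun d => ?_, map_zero]
  have h2 : c1CapFun δ (Coh.structureModule X) ⇑α
      (gysinChoice (Coh.structureModule X) t fun ξ => C1Basic.cl _ ξ (one ξ)) =
      c1CapFun δ (Coh.structureModule X) ⇑α (fun ξ => C1Basic.cl _ ξ (one ξ)) := by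
    refine c1CapFun_congr fun ξ hξ => gysinChoice_of_eq _ _ ((mem_range_iff hD ξ).1 ?_)
    by_contra hcon
    exact hξ (hα ξ hcon)
  rw [h2, c1CapFun_one]
  rfl

theorem pull_congr {Y : Scheme.{u}} {δY : Y → ℤ} (hX : IsSetup X δ) (hY : IsSetup Y δY)
    {f g : X ⟶ Y} [Flat f] [Flat g] (e : f = g) {c : ℤ} (hf : Shift f δ δY c)
    (hg : Shift g δ δY c) (a : G Y δY) : pull hX hY f hf a = pull hX hY g hg a := by
  subst e
  rfl

/-- If `a` restricts to zero on the complement of the zero scheme of a function, its Gysin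
pullback is zero. -/
theorem gys_of_restrict (hX : IsSetup X δ) [IsClosedImmersion i] (hi : DeltaCompat i δD δ)
    (hD : IsZeroSchemeOf i (Coh.structureModule X) t) {U : Scheme.{u}} {δU : U → ℤ}
    (hU : IsSetup U δU) (j : U ⟶ X) [IsOpenImmersion j] (hji : Set.range ⇑j = (Set.range ⇑i)ᶜ)
    {c : ℤ} (hj : Shift j δU δ c) (a : G X δ) (ha : pull hU hX j hj a = 0) :
    gys hX (isInvertible_structureModule X) hi hD a = 0 := by
  obtain ⟨α, rfl⟩ := cl_surjective δ a
  -- the open subscheme given by the range of `j`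
  let V : X.Opens := j.opensRange
  let δV : ↥(↑V : Scheme.{u}) → ℤ := fun v => δ (V.ι v)
  have hVc : DeltaCompat V.ι δV δ := K930.PushPull.deltaCompat_stalk V.ι
  have hV : IsSetup (V : Scheme.{u}) δV := SetupLft.isSetup_of_deltaCompat V.ι hX hVc
  have hVs : Shift V.ι δV δ 0 := K930.OpenImm.shift_open V.ι hVc
  have he : j.isoOpensRange.inv ≫ j = V.ι := j.isoOpensRange_inv_comp
  have hes : Shift j.isoOpensRange.inv δV δU (-c) := by
    intro v _
    have h2 : FlatDiv.FibGen j (j.isoOpensRange.inv v) := fun y hy _ =>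
      j.isOpenEmbedding.injective hy
    have h1 := hj _ h2
    have h3 : j (j.isoOpensRange.inv v) = V.ι v := by
      rw [← he]; rfl
    rw [h3] at h1
    change δ (V.ι v) = _
    omega
  have hVs' : Shift (j.isoOpensRange.inv ≫ j) δV δ 0 := by rw [he]; exact hVs
  have hz : pull hV hX (j.isoOpensRange.inv ≫ j) hVs' (cl δ α) = 0 := by
    rw [← pull_pull hV hU hX j.isoOpensRange.inv j hes hj hVs' (by ring) (cl δ α), ha, map_zero]
  have hz' : pull hV hX V.ι hVs (cl δ α) = 0 := by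
    rw [pull_congr hV hX he.symm hVs hVs', hz]
  let β : AlgebraicCycle (V : Scheme.{u}) ℤ :=
    RatTransport.comapCycle V.ι V.ι.isOpenEmbedding.injective α
  have hβ : ⇑β = pullFun V.ι δV δ 0 ⇑α := by
    funext v
    rw [K930.OpenImm.pullFun_open V.ι hVc]
    rfl
  rw [pull_cl hV hX V.ι hVs hβ, cl_eq_zero_iff'] at hz'
  rw [gys_cl_gysCycle, cl_eq_zero_iff']
  intro l
  have hpart : ∀ d, part δD l (gysCycle hX (isInvertible_structureModule X) t i α) d =
      c1CapFun δ (Coh.structureModule X) ⇑(part δ (l + 1) α)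
        (gysinChoice _ t (sec (isInvertible_structureModule X))) (i d) :=
    part_gys' hi α _ (gysCycle_apply hX (isInvertible_structureModule X) t i α) l
  rw [← cl_eq_zero_iff (part_mem _ _ _), ← gys_cl hX (isInvertible_structureModule X) hi hD
    (sec_ne_zero _) hpart]
  have hres : ∀ u : ↥(↑V : Scheme.{u}), part δV (l + 1) β u = part δ (l + 1) α (V.ι u) := by
    intro u
    rw [part_apply, part_apply]
    rfl
  obtain ⟨γ, -, hγ0, hγ⟩ := Groth.Agent.S1863.result X δ hX V (l + 1) (part δ (l + 1) α) 0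
    (part_mem _ _ _) (fun _ _ => rfl) (part δV (l + 1) β) 0 hres (fun _ => rfl)
    (ratEquiv_zero_iff.2 (hz' (l + 1)))
  rw [zero_add] at hγ
  rw [cl_eq_of_ratEquiv hγ]
  refine gys_onSet hX hi hD fun x hx => hγ0 x ?_
  have hx' : x ∈ Set.range ⇑j := by rw [hji]; exact hx
  exact hx'

end Trivial

section Push

variable {X' D' : Scheme.{u}} {δ' : X' → ℤ} {δD' : D' → ℤ} {f : X' ⟶ X} {i' : D' ⟶ X'}
  {g : D' ⟶ D} {L' : X'.Modules} {s' : L'.presheaf.obj (op ⊤)}

/-- Gysin maps commute with proper pushforward. -/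
theorem gys_push (hX : IsSetup X δ) (hX' : IsSetup X' δ') (hDs : IsSetup D δD)
    (hDs' : IsSetup D' δD') [IsProper f] [IsProper g] [IsClosedImmersion i]
    [IsClosedImmersion i'] (h : IsPullback i' g f i)
    (hf : DeltaCompat f δ' δ) (hi : DeltaCompat i δD δ) (hi' : DeltaCompat i' δD' δ')
    (hg : DeltaCompat g δD' δD) (hL : PicF.IsInvertible L) (hL' : PicF.IsInvertible L')
    (hD : IsZeroSchemeOf i L s) (hD' : IsZeroSchemeOf i' L' s')
    (e : (Scheme.Modules.pullback f).obj L ≅ L') (a : G X' δ') :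
    gys hX hL hi hD (push hX' hX f hf a) = push hDs' hDs g hg (gys hX' hL' hi' hD' a) := by
  obtain ⟨α, rfl⟩ := cl_surjective δ' a
  rw [push_cl, gys_cl_gysCycle, gys_cl_gysCycle, push_cl, cl_eq_iff']
  intro l
  have h1 : ∀ d, part δD l (gysCycle hX hL s i (AlgebraicCycle.map f δ' δ α)) d =
      c1CapFun δ L ⇑(part δ (l + 1) (AlgebraicCycle.map f δ' δ α))
        (gysinChoice _ s (sec hL)) (i d) :=
    part_gys' hi _ _ (gysCycle_apply hX hL s i _) l
  have h2 : ∀ d, part δD' l (gysCycle hX' hL' s' i' α) d =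
      c1CapFun δ' L' ⇑(part δ' (l + 1) α) (gysinChoice _ s' (sec hL')) (i' d) :=
    part_gys' hi' _ _ (gysCycle_apply hX' hL' s' i' _) l
  rw [part_map] at h1
  rw [part_map]
  have key := K930.ZeroSch.gysCH_pushCH h hX hX' hDs hf hi hi' hg hL hL' hD hD' e
    (k := l + 1) (l := l) rfl (ChowOps.cl (part δ' (l + 1) α) (part_mem _ _ _))
  rw [K930.PushPull.pushCH_cl,
    K930.Gysin.gysCH_cl hX hi hL hD rfl _ _ _ (sec_ne_zero hL) _ h1 (part_mem _ _ _),
    K930.Gysin.gysCH_cl hX' hi' hL' hD' rfl _ _ _ (sec_ne_zero hL') _ h2 (part_mem _ _ _),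
    K930.PushPull.pushCH_cl] at key
  exact (K930.Chow.cl_eq_cl _ _).1 key

end Push

section Pull

variable {Y : Scheme.{u}} {δY : Y → ℤ} {p : X ⟶ Y}

/-- Coefficientwise form of `i^* p^* = (i ≫ p)^*`. -/
theorem c1CapFun_pullFun (hX : IsSetup X δ) (hY : IsDimFun Y δY) [Flat p]
    [IsClosedImmersion i] (hL : PicF.IsInvertible L) (hD : IsZeroSchemeOf i L s)
    [Flat (i ≫ p)] {c : ℤ}
    (h1 : ∀ x : X, δ x ≤ δY (p x) + (c + 1)) (h2 : ∀ d : D, δ (i d) ≤ δY (p (i d)) + c)
    (hreg : ∀ x : X, Function.Injective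
      (fun a : X.presheaf.stalk x => a • (L.presheaf.germ ⊤ x trivial) s))
    (w : (ξ : X) → secFibre L ξ) (α : Y → ℤ) (d : D) :
    c1CapFun δ L (pullFun p δ δY (c + 1) α) (gysinChoice L s w) (i d) =
      pullFun (i ≫ p) (fun d => δ (i d)) δY c α d := by
  classical
  have := hX.1
  have hδX := hX.2.2
  obtain ⟨t, f, ht, hs, hk⟩ := hD.2 d
  have htg := ModStalk.isGen_of_span_eq_top hL ht
  have hf : Function.Injective (fun b : X.presheaf.stalk (i d) => b * f) := by
    intro a b hab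
    apply hreg (i d)
    have hab' : a * f = b * f := hab
    change a • (L.presheaf.germ ⊤ (i d) trivial) s = b • (L.presheaf.germ ⊤ (i d) trivial) s
    rw [hs, smul_smul, smul_smul, hab']
  have hle : δ (i d) ≤ δY (p (i d)) + c := h2 d
  have hcontr : ∀ ξ : X, ξ ⤳ i d → δ (i d) + 1 = δ ξ →
      pullFun p δ δY (c + 1) α ξ ≠ 0 →
        p ξ = p (i d) ∧ δ (i d) = δY (p (i d)) + c := by
    intro ξ hξ hdξ hne
    unfold Cyc.pullFun at hne
    split_ifs at hne with h1
    · have h3 : δY (p (i d)) ≤ δY (p ξ) := LocQuot.le_of_specializes hY (hξ.map p.continuous)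
      have h4 : δY (p (i d)) = δY (p ξ) := by omega
      exact ⟨LocQuot.eq_of_specializes_of_eq hY (hξ.map p.continuous) h4, by omega⟩
    · exact absurd rfl hne
  unfold Cyc.pullFun at hcontr ⊢
  by_cases hd : δ (i d) = δY (p (i d)) + c
  · rw [if_pos (show δ (i d) = δY ((i ≫ p) d) + c from hd)]
    have hlen := GysinFib.length_quot_fib p i d f hk
    rw [GysinLen.c1CapFun_gysin hδX hL s w _ (i d) htg hs
      (X.presheaf.stalk (i d) ⧸ FiberStalk.fibIdeal p (i d)) ?_
      (GysinFib.injective_smul_fib p i d f hk hf) (α (p (i d))) ?_, ← hlen]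
    · rfl
    · intro ξ h hξ
      rw [GysinFib.mem_support_fib_iff] at hξ
      have := h1 ξ
      rw [hξ] at this
      omega
    · intro ξ h hdξ
      by_cases hpξ : p ξ = p (i d)
      · rw [GysinFib.locLen_fib p h hpξ, if_pos (by rw [hpξ]; omega),
          show α (p (i d)) = α (p ξ) from congrArg α hpξ.symm]
      · have h0 : StalkLen.locLen (LocQuot.primeOf h)
            (X.presheaf.stalk (i d) ⧸ FiberStalk.fibIdeal p (i d)) = 0 := by
          rw [StalkLen.locLen_eq_zero_iff, GysinFib.mem_support_fib_iff]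
          exact hpξ
        rw [h0]
        by_contra hcon
        exact hpξ (hcontr ξ h hdξ (by simpa using hcon)).1
  · rw [if_neg (show ¬ δ (i d) = δY ((i ≫ p) d) + c from hd), Cyc.c1CapFun]
    refine finsum_eq_zero_of_forall_eq_zero fun ξ => ?_
    by_cases h1 : ξ ⤳ i d ∧ δ (i d) + 1 = δ ξ
    · by_contra hcon
      exact hd (hcontr ξ h1.1 h1.2 (left_ne_zero_of_mul hcon)).2
    · unfold Cyc.secDivFun
      rw [dif_neg h1, mul_zero]

/-- `i^* p^* = (i ≫ p)^*` for flat `p` and `i ≫ p`. -/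
theorem gys_pull (hX : IsSetup X δ) (hY : IsSetup Y δY) (hDs : IsSetup D δD) [Flat p]
    [IsClosedImmersion i] (hi : DeltaCompat i δD δ) (hL : PicF.IsInvertible L)
    (hD : IsZeroSchemeOf i L s) [Flat (i ≫ p)] {b c : ℤ} (hb : b = c + 1)
    (hp : Shift p δ δY b) (hq : Shift (i ≫ p) δD δY c)
    (hreg : ∀ x : X, Function.Injective
      (fun a : X.presheaf.stalk x => a • (L.presheaf.germ ⊤ x trivial) s)) (a : G Y δY) :
    gys hX hL hi hD (pull hX hY p hp a) = pull hDs hY (i ≫ p) hq a := by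
  subst hb
  obtain rfl := K930.PushPull.deltaCompat_eq_comp i hi
  obtain ⟨α, rfl⟩ := cl_surjective δY a
  rw [pull_cl_pullCycle]
  rw [gys_cl hX hL hi hD (sec_ne_zero hL) (γ := pullCycle hDs (i ≫ p) hq α)]
  · rfl
  · intro d
    rw [coe_pullCycle, coe_pullCycle]
    symm
    exact c1CapFun_pullFun hX hY.2.2 hL hD (fun x => FlatDiv.delta_le p _ hX.2.2 hp x)
      (fun d => FlatDiv.delta_le (i ≫ p) _ hDs.2.2 hq d) hreg _ _ d

end Pull

end K309.Gys
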