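import Groth.Agent.Cyc.K309.Dvr
import Groth.Prelude.Def_ChowOps
import Mathlib.AlgebraicGeometry.AlgClosed.Basic

/-!
# Zero-cycles of degree zero

* `mem_of_forall`: a zero-cycle of degree zero over an algebraically closed field is a combination of
  differences of closed points;
* `degH`: the degree homomorphism `G X δ →+ ℤ`;
* `cl_eq_zero_of_div`.
-/

set_option autoImplicit false
universe u
open AlgebraicGeometry CategoryTheory CategoryTheory.Limits TopologicalSpace Opposite Cyc
open Groth.Agent Groth.Agent.CycB Groth.Agent.CycB.RelDim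
open K308.Grp K309.Dvr
open Groth.Agent.CycB.SetupDVR

namespace K309.ZeroDeg

variable {k : Type u} [Field k] {X : Scheme.{u}}

theorem isClosed_of_rtd_eq_zero (p : X ⟶ Spec (CommRingCat.of k)) [LocallyOfFiniteType p] (x : X)
    (h : rtd p x = 0) : IsClosed ({x} : Set X) := by
  have hsub : Subsingleton ↥(Spec (CommRingCat.of k)) :=
    inferInstanceAs (Subsingleton (PrimeSpectrum k))
  rw [← closure_subset_iff_isClosed]
  intro y hy
  have h1 : x ⤳ y := specializes_iff_mem_closure.2 hy
  by_contra hne
  have h2 := rtd_lt_of_specializes p h1 (Ne.symm hne) (Subsingleton.elim _ _)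
  rw [h] at h2
  exact not_lt_zero h2

theorem delta_nonneg {p : X ⟶ Spec (CommRingCat.of k)} {δ : X → ℤ}
    (hδ : DeltaCompat p δ (fun _ => 0)) (x : X) : 0 ≤ δ x := by
  obtain ⟨n, -, hn⟩ := hδ x
  rw [hn, zero_add]
  exact Int.natCast_nonneg n

/-- The points of weight zero are the closed points. -/
theorem isClosed_of_delta {p : X ⟶ Spec (CommRingCat.of k)} [LocallyOfFiniteType p] {δ : X → ℤ}
    (hδ : DeltaCompat p δ (fun _ => 0)) {x : X} (h1 : δ x = 0) : IsClosed ({x} : Set X) := by
  obtain ⟨n, hn, hn'⟩ := deltaCompat_iff.1 hδ x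
  have h2 : n = 0 := by
    rw [h1, zero_add] at hn'
    exact_mod_cast hn'.symm
  rw [h2, Nat.cast_zero] at hn
  exact isClosed_of_rtd_eq_zero p x hn

theorem residueDegree_eq_one [IsAlgClosed k] (p : X ⟶ Spec (CommRingCat.of k))
    [LocallyOfFiniteType p] (x : X) (hx : IsClosed ({x} : Set X)) : p.residueDegree x = 1 := by
  have h1 := SpecMap_residueFieldIsoBase_inv p x hx
  rw [← p.SpecMap_residueFieldMap_fromSpecResidueField, ← Spec.map_preimage
    ((Spec (CommRingCat.of k)).fromSpecResidueField (p x)), ← Spec.map_comp] at h1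
  have h2 := Spec.map_injective h1
  have hs : Function.Surjective (p.residueFieldMap x).hom := by
    intro a
    obtain ⟨b, hb⟩ := (residueFieldIsoBase p x hx).symm.commRingCatIsoToRingEquiv.surjective a
    have h3 : (residueFieldIsoBase p x hx).inv.hom b = a := hb
    rw [h2] at h3
    exact ⟨_, h3⟩
  let _ := (p.residueFieldMap x).hom.toAlgebra
  have hb : Function.Bijective
      (algebraMap ((Spec (CommRingCat.of k)).residueField (p x)) (X.residueField x)) :=
    ⟨(p.residueFieldMap x).hom.injective, hs⟩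
  change Module.finrank ((Spec (CommRingCat.of k)).residueField (p x)) (X.residueField x) = 1
  rw [← Module.finrank_self ((Spec (CommRingCat.of k)).residueField (p x))]
  exact (LinearEquiv.ofBijective (Algebra.linearMap ((Spec (CommRingCat.of k)).residueField (p x))
    (X.residueField x)) hb).finrank_eq.symm

/-- A zero-cycle of degree zero is a combination of differences of closed points. -/
theorem mem_of_forall [IsAlgClosed k] (p : X ⟶ Spec (CommRingCat.of k)) [QuasiCompact p]
    [LocallyOfFiniteType p] [DecidableEq ↥X] (S : AddSubgroup (AlgebraicCycle X ℤ))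
    (h : ∀ x y : X, IsClosed ({x} : Set X) → IsClosed ({y} : Set X) →
      (Function.locallyFinsuppWithin.single x (1 : ℤ) -
        Function.locallyFinsuppWithin.single y (1 : ℤ) : AlgebraicCycle X ℤ) ∈ S)
    (δ : ↥X → ℤ) (hδ : Cyc.DeltaCompat p δ (fun _ => 0)) (α : AlgebraicCycle X ℤ)
    (hα : α ∈ Cyc.Zk X δ 0) (hdeg : ChowOps.deg p δ α = 0) : α ∈ S := by
  have hsub : Subsingleton ↥(Spec (CommRingCat.of k)) :=
    inferInstanceAs (Subsingleton (PrimeSpectrum k))
  have hX : CompactSpace X := QuasiCompact.compactSpace_of_compactSpace p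
  have hfin : (Function.support α).Finite := by
    have := α.locallyFiniteSupport.finite_inter_support_of_isCompact (isCompact_univ (X := X))
    rwa [Set.univ_inter] at this
  have hcl : ∀ x, α x ≠ 0 → IsClosed ({x} : Set X) ∧ δ x = 0 := by
    intro x hx
    have h1 : δ x = 0 := by
      by_contra hne
      exact hx (hα x hne)
    exact ⟨isClosed_of_delta hδ h1, h1⟩
  have hdeg' : ∑ x ∈ hfin.toFinset, α x = 0 := by
    rw [← hdeg]
    change _ = ∑ᶠ x ∈ p ⁻¹' {IsLocalRing.closedPoint k},
      α x * (AlgebraicCycle.mapCoeff p δ (fun _ => (0 : ℤ)) x : ℤ)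
    have h3 : p ⁻¹' {IsLocalRing.closedPoint k} = Set.univ := by
      ext x
      simp only [Set.mem_preimage, Set.mem_univ, iff_true]
      exact Subsingleton.elim _ _
    rw [h3, finsum_mem_univ]
    rw [finsum_eq_sum_of_support_subset (s := hfin.toFinset)]
    · refine Finset.sum_congr rfl fun x hx => ?_
      have hx' : α x ≠ 0 := by simpa using hx
      obtain ⟨h4, h5⟩ := hcl x hx'
      unfold AlgebraicCycle.mapCoeff
      rw [if_pos h5, residueDegree_eq_one p x h4, Nat.cast_one, mul_one]
    · intro x hx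
      rw [Function.mem_support] at hx
      have : α x ≠ 0 := left_ne_zero_of_mul hx
      simpa using this
  have hsum : α = ∑ x ∈ hfin.toFinset, α x • Function.locallyFinsuppWithin.single x (1 : ℤ) := by
    apply Function.locallyFinsuppWithin.ext
    intro a
    rw [Function.locallyFinsuppWithin.coe_sum, Finset.sum_apply]
    simp only [Function.locallyFinsuppWithin.coe_zsmul, Pi.smul_apply,
      Function.locallyFinsuppWithin.single_apply, smul_eq_mul, mul_ite, mul_one, mul_zero]
    rw [Finset.sum_ite_eq]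
    split_ifs with hh
    · rfl
    · simpa using hh
  by_cases hne : (hfin.toFinset : Finset X).Nonempty
  · obtain ⟨x₀, hx₀⟩ := hne
    have hx₀' : α x₀ ≠ 0 := by simpa using hx₀
    have h6 : α = ∑ x ∈ hfin.toFinset, α x • (Function.locallyFinsuppWithin.single x (1 : ℤ) -
        Function.locallyFinsuppWithin.single x₀ (1 : ℤ)) := by
      simp only [smul_sub, Finset.sum_sub_distrib, ← Finset.sum_smul]
      rw [hdeg', zero_smul, sub_zero]
      exact hsum
    rw [h6]
    refine AddSubgroup.sum_mem _ fun x hx => AddSubgroup.zsmul_mem _ (h x x₀ (hcl x ?_).1 (hcl x₀ hx₀').1) _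
    simpa using hx
  · rw [Finset.not_nonempty_iff_eq_empty] at hne
    rw [hsum, hne, Finset.sum_empty]
    exact AddSubgroup.zero_mem _

/-! ### the degree homomorphism -/

/-- On the spectrum of a field rationally trivial cycles are zero. -/
theorem eq_zero_of_cl_spec {c : AlgebraicCycle (Spec (CommRingCat.of k)) ℤ}
    (h : cl (fun _ => 0) c = 0) (z : ↥(Spec (CommRingCat.of k))) : c z = 0 := by
  rw [cl_eq_zero_iff'] at h
  obtain ⟨ι, ξ, f, h1, -, -, h4⟩ := h 0
  have h5 := h4 z
  rw [part_apply, if_pos rfl] at h5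
  rw [h5]
  refine finsum_eq_zero_of_forall_eq_zero fun i => ?_
  exact absurd (h1 i) (by norm_num)

/-- The coefficient at the point of the spectrum of a field. -/
noncomputable def ev : G (Spec (CommRingCat.of k)) (fun _ => 0) →+ ℤ :=
  QuotientAddGroup.lift (R (Spec (CommRingCat.of k)) (fun _ => 0))
    { toFun := fun c => c (IsLocalRing.closedPoint k)
      map_zero' := rfl
      map_add' := fun _ _ => rfl } fun _ hc => eq_zero_of_cl_spec (cl_eq_zero_iff'.2 hc) _

theorem ev_cl (c : AlgebraicCycle (Spec (CommRingCat.of k)) ℤ) :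
    ev (cl (fun _ => 0) c) = c (IsLocalRing.closedPoint k) := rfl

/-- The degree homomorphism. -/
noncomputable def degH (p : X ⟶ Spec (CommRingCat.of k)) [IsProper p] {δ : X → ℤ}
    (hδ : DeltaCompat p δ (fun _ => 0)) : G X δ →+ ℤ :=
  ev.comp (push (SetupLft.isSetup_of_deltaCompat p (isSetup_spec_field k) hδ)
    (isSetup_spec_field k) p hδ)

theorem degH_cl (p : X ⟶ Spec (CommRingCat.of k)) [IsProper p] {δ : X → ℤ}
    (hδ : DeltaCompat p δ (fun _ => 0)) (α : AlgebraicCycle X ℤ) :
    degH p hδ (cl δ α) = ChowOps.deg p δ α := rfl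

theorem deg_single [IsAlgClosed k] [DecidableEq ↥X] (p : X ⟶ Spec (CommRingCat.of k)) [IsProper p]
    {δ : X → ℤ} {x : X} (hx : IsClosed ({x} : Set X)) (hx0 : δ x = 0) :
    ChowOps.deg p δ (Function.locallyFinsuppWithin.single x (1 : ℤ)) = 1 := by
  have hsub : Subsingleton ↥(Spec (CommRingCat.of k)) :=
    inferInstanceAs (Subsingleton (PrimeSpectrum k))
  change ∑ᶠ z ∈ p ⁻¹' {IsLocalRing.closedPoint k},
      (Function.locallyFinsuppWithin.single x (1 : ℤ) : AlgebraicCycle X ℤ) z *
        (AlgebraicCycle.mapCoeff p δ (fun _ => (0 : ℤ)) z : ℤ) = 1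
  have h3 : p ⁻¹' {IsLocalRing.closedPoint k} = Set.univ := by
    ext x
    simp only [Set.mem_preimage, Set.mem_univ, iff_true]
    exact Subsingleton.elim _ _
  rw [h3, finsum_mem_univ, finsum_eq_single _ x]
  · rw [Function.locallyFinsuppWithin.single_apply, if_pos rfl, one_mul]
    unfold AlgebraicCycle.mapCoeff
    rw [if_pos hx0, residueDegree_eq_one p x hx, Nat.cast_one]
  · intro z hz
    rw [Function.locallyFinsuppWithin.single_apply, if_neg hz, zero_mul]

/-- Closed points have weight zero. -/
theorem delta_of_isClosed [IsAlgClosed k] (p : X ⟶ Spec (CommRingCat.of k))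
    [LocallyOfFiniteType p] {δ : X → ℤ} (hδ : DeltaCompat p δ (fun _ => 0)) {x : X}
    (hx : IsClosed ({x} : Set X)) : δ x = 0 := by
  have h1 : (pointOfClosedPoint p x hx) ≫ p = 𝟙 _ := pointOfClosedPoint_comp p x hx
  have h2 : IsClosedImmersion (pointOfClosedPoint p x hx) := by
    exact isClosedImmersion_of_comp_eq_id _ _ h1
  have h3 : DeltaCompat (pointOfClosedPoint p x hx) (fun _ => 0) δ := by
    refine K930.PushPull.deltaCompat_of_comp _ p ?_ hδ
    rw [h1]
    exact K930.PushPull.deltaCompat_stalk (δY := fun _ => 0) (𝟙 (Spec (CommRingCat.of k)))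
  have h4 := congrFun (K930.PushPull.deltaCompat_eq_comp _ h3) (IsLocalRing.closedPoint k)
  rw [pointOfClosedPoint_apply] at h4
  exact h4.symm

/-- If `N [x]` does not depend on the closed point `x` and differences of closed points are
divisible by `N`, zero-cycles of degree zero are rationally equivalent to zero. -/
theorem cl_eq_zero_of_div [IsAlgClosed k] [DecidableEq ↥X] (p : X ⟶ Spec (CommRingCat.of k))
    [IsProper p] {δ : X → ℤ} (hδ : DeltaCompat p δ (fun _ => 0)) {N : ℕ} (hN : 1 ≤ N)
    (B : G X δ)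
    (hB : ∀ x : X, IsClosed ({x} : Set X) →
      N • cl δ (Function.locallyFinsuppWithin.single x (1 : ℤ)) = B)
    (hdiv : ∀ x y : X, IsClosed ({x} : Set X) → IsClosed ({y} : Set X) →
      ∃ α' ∈ Zk X δ 0, cl δ (Function.locallyFinsuppWithin.single x (1 : ℤ) -
        Function.locallyFinsuppWithin.single y (1 : ℤ)) = N • cl δ α')
    (α : AlgebraicCycle X ℤ) (hα : α ∈ Zk X δ 0) (hdeg : ChowOps.deg p δ α = 0) :
    cl δ α = 0 := by
  have key : ∀ α' ∈ Zk X δ 0, ChowOps.deg p δ α' = 0 → N • cl δ α' = 0 := by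
    intro α' hα' hd
    let S : AddSubgroup (AlgebraicCycle X ℤ) :=
      ((AddMonoidHom.mk' (fun a : G X δ => N • a) fun a b => smul_add N a b).comp (cl δ)).ker
    have h1 : α' ∈ S := by
      refine mem_of_forall p S (fun x y hx hy => ?_) δ hδ α' hα' hd
      change N • cl δ _ = 0
      rw [map_sub, smul_sub, hB x hx, hB y hy, sub_self]
    exact h1
  have h2 : α ∈ (cl δ).ker := by
    refine mem_of_forall p _ (fun x y hx hy => ?_) δ hδ α hα hdeg
    obtain ⟨α', hα', he⟩ := hdiv x y hx hy
    change cl δ _ = 0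
    rw [he]
    apply key α' hα'
    have h3 := congrArg (degH p hδ) he
    rw [map_sub, map_nsmul, map_sub, degH_cl, degH_cl, degH_cl,
      deg_single p hx (delta_of_isClosed p hδ hx), deg_single p hy (delta_of_isClosed p hδ hy),
      sub_self] at h3
    have h4 : (N : ℤ) * ChowOps.deg p δ α' = 0 := by
      rw [← nsmul_eq_mul]
      exact h3.symm
    rcases mul_eq_zero.1 h4 with h5 | h5
    · omega
    · exact h5
  exact h2

end K309.ZeroDeg
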