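import Groth.Agent.Cyc.K309.DiagDec
import Groth.Agent.Cyc.K309.ZeroDeg
import Groth.Agent.Cyc.K309.DimIrr
import Groth.Agent.S1535

/-!
# Closed points of the base change to an algebraically closed field
-/

set_option autoImplicit false
universe u
open AlgebraicGeometry CategoryTheory CategoryTheory.Limits TopologicalSpace Opposite Cyc
open Groth.Agent Groth.Agent.CycB Groth.Agent.CycB.GysinCl
open K305.StructCap K308.Grp K309.Gys K309.ZeroFun K309.Bc K309.Dvr K309.Graph K309.DiagDec
open Groth.Agent.CycB.SetupDVR

namespace K309.ClosedPt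

theorem mult_generic {F : Type u} [Field F] {T : Scheme.{u}} [IsIntegral T]
    (f : T ⟶ Spec (CommRingCat.of F)) : FlatLength.mult f (genericPoint T) = 1 := by
  have h1 : IsField (T.presheaf.stalk (genericPoint T)) := Field.toIsField T.functionField
  have h2 : IsField ((Spec (CommRingCat.of F)).presheaf.stalk (f (genericPoint T))) := by
    have : f (genericPoint T) = genericPoint ↥(Spec (CommRingCat.of F)) :=
      Subsingleton.elim (α := PrimeSpectrum F) _ _
    rw [this]
    exact Field.toIsField (Spec (CommRingCat.of F)).functionField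
  unfold FlatLength.mult
  rw [(IsLocalRing.isField_iff_maximalIdeal_eq).1 h2, Ideal.map_bot]
  have h4 : (IsLocalRing.maximalIdeal (T.presheaf.stalk (genericPoint T))) = ⊥ :=
    (IsLocalRing.isField_iff_maximalIdeal_eq).1 h1
  have : IsSimpleModule (T.presheaf.stalk (genericPoint T))
      (T.presheaf.stalk (genericPoint T) ⧸ (⊥ : Ideal (T.presheaf.stalk (genericPoint T)))) := by
    rw [← h4]
    exact isSimpleModule_iff_isCoatom.2 (IsLocalRing.maximalIdeal.isMaximal _).out
  exact Module.length_eq_one _ _

section

variable {k : Type u} [Field k] {V : Scheme.{u}} {p : V ⟶ Spec (CommRingCat.of k)}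
  [LocallyOfFiniteType p] [IsSeparated p] {δV : V → ℤ} {hV : DeltaCompat p δV (fun _ => 0)}
  {o : G (Spec (CommRingCat.of k)) (fun _ => 0)} {x : G V δV}

theorem GrEq.apply {K : Type u} [Field K] {y : Spec (CommRingCat.of K) ⟶ V}
    (hy : GrEq p hV o x K y) {g : Spec (CommRingCat.of K) ⟶ Spec (CommRingCat.of k)}
    (hg : y ≫ p = g) {P : Scheme.{u}} {pP : P ⟶ V} {qP : P ⟶ Spec (CommRingCat.of K)} {δP : P → ℤ}
    (h : IsPullback pP qP p g) (hP : DeltaCompat qP δP (fun _ => 0)) :
    gr (isSetup_spec_field k) (isSetup_spec_field K) (shift_zero _ fun _ => rfl) h hP y hg o =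
      bc (isSetup_spec_field k) (isSetup_spec_field K) (shift_zero _ fun _ => rfl) hV h hP x := by
  subst hg
  exact hy _ _ _ _ h hP

end

variable {F : Type u} [Field F] {V : Scheme.{u}} (p : V ⟶ Spec (CommRingCat.of F))
  [IsIntegral V] [LocallyOfFiniteType p] [IsSeparated p]

theorem pull_one {Ω : Type u} [Field Ω] (w : Spec (CommRingCat.of Ω) ⟶ Spec (CommRingCat.of F))
    (hw : Shift w (fun _ => 0) (fun _ => 0) 0) :
    pull (isSetup_spec_field Ω) (isSetup_spec_field F) w hw (cl (fun _ => 0) (one F)) =
      cl (fun _ => 0) (one Ω) := by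
  apply pull_cl
  funext z
  have h : z = genericPoint ↥(Spec (CommRingCat.of Ω)) :=
    Subsingleton.elim (α := PrimeSpectrum Ω) _ _
  rw [FlatLength.pullFun_apply, if_pos (by ring), one_apply, one_apply, one_mul, h, mult_generic]
  rfl

theorem map_point {Ω : Type u} [Field Ω] {X : Scheme.{u}} [DecidableEq ↥X]
    {δ : X → ℤ} (pt : Spec (CommRingCat.of Ω) ⟶ X)
    [IsClosedImmersion pt] (hpt : DeltaCompat pt (fun _ => 0) δ) (x : X) (hx : ∀ z, pt z = x) :
    AlgebraicCycle.map pt (fun _ => 0) δ (one Ω) =
      Function.locallyFinsuppWithin.single x (1 : ℤ) := by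
  apply Function.locallyFinsuppWithin.ext
  intro w
  rw [Function.locallyFinsuppWithin.single_apply]
  by_cases h : w = x
  · rw [if_pos h, h, ← hx (IsLocalRing.closedPoint Ω), DivNat.map_apply_of_isPreimmersion,
      one_apply]
    exact congrFun (K930.PushPull.deltaCompat_eq_comp _ hpt) _
  · rw [if_neg h, DivNat.map_apply_notMem_range]
    rintro ⟨z, rfl⟩
    exact h (hx z)

/-- `N [x]` is independent of the closed point `x`. -/
theorem exists_const [Smooth p] [GeometricallyIntegral p] [QuasiCompact p]
    {δV : V → ℤ} {hV : DeltaCompat p δV (fun _ => 0)} {N : ℕ} {β : G V δV}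
    (hgen : ∀ (K : Type u) [Field K] (y : Spec (CommRingCat.of K) ⟶ V),
      (∀ z, y z = genericPoint V) → GrEq p hV (N • cl (fun _ => 0) (one F)) β K y)
    {Ω : Type u} [Field Ω] [IsAlgClosed Ω]
    (w : Spec (CommRingCat.of Ω) ⟶ Spec (CommRingCat.of F))
    [DecidableEq ↥(pullback p w)] {δΩ : ↥(pullback p w) → ℤ}
    (hδΩ : DeltaCompat (pullback.snd p w) δΩ (fun _ => 0)) :
    ∃ B : G (pullback p w) δΩ, ∀ x : ↥(pullback p w), IsClosed ({x} : Set ↥(pullback p w)) →
      N • cl δΩ (Function.locallyFinsuppWithin.single x (1 : ℤ)) = B := by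
  have hwf : Flat w := inferInstance
  have h0 := IsPullback.of_hasPullback p w
  refine ⟨bc (isSetup_spec_field F) (isSetup_spec_field Ω) (shift_zero _ fun _ => rfl) hV h0 hδΩ β,
    fun x hx => ?_⟩
  have hint : IsIntegral (pullback p w) :=
    GeometricallyIntegral.geometrically_isIntegral _ _ _ h0
  have hreg : IsRegularLocalRing ((pullback p w).presheaf.stalk x) := by
    let _ : (pullback p w).Over (Spec (CommRingCat.of Ω)) := ⟨pullback.snd p w⟩
    have : Smooth ((pullback p w) ↘ (Spec (CommRingCat.of Ω))) :=
      inferInstanceAs (Smooth (pullback.snd p w))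
    exact Groth.Agent.S1535.result Ω (pullback p w) x
  let _ : Algebra ((pullback p w).presheaf.stalk x) ((pullback p w).residueField x) :=
    ((pullback p w).residue x).hom.toAlgebra
  -- the generic point
  have h1 : GrEq p hV (N • cl (fun _ => 0) (one F)) β (pullback p w).functionField
      (Spec.map (CommRingCat.ofHom (algebraMap ((pullback p w).presheaf.stalk x)
        (pullback p w).functionField)) ≫ ((pullback p w).fromSpecStalk x ≫ pullback.fst p w)) := by
    apply hgen
    intro z
    have e1 : (Spec.map (CommRingCat.ofHom (algebraMap ((pullback p w).presheaf.stalk x)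
        (pullback p w).functionField)) ≫ ((pullback p w).fromSpecStalk x ≫ pullback.fst p w)) =
        (pullback p w).fromSpecStalk (genericPoint ↥(pullback p w)) ≫ pullback.fst p w := by
      rw [← Category.assoc]
      congr 1
      exact (pullback p w).SpecMap_stalkSpecializes_fromSpecStalk (genericPoint_specializes x)
    rw [e1, Scheme.Hom.comp_apply]
    have e2 : (pullback p w).fromSpecStalk (genericPoint ↥(pullback p w)) z =
        genericPoint ↥(pullback p w) := by
      have h2 : (pullback p w).fromSpecStalk (genericPoint ↥(pullback p w)) z ∈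
          Set.range ((pullback p w).fromSpecStalk (genericPoint ↥(pullback p w))) := ⟨_, rfl⟩
      rw [Scheme.range_fromSpecStalk] at h2
      exact ((genericPoint_specializes _).antisymm h2).eq.symm
    rw [e2]
    exact DimIrr.map_genericPoint_of_flat (pullback.fst p w)
  -- the residue field
  have h2 := GrEq.regular (κ := (pullback p w).residueField x)
    ((pullback p w).residue_surjective x) _ h1
  -- the point over `Ω`
  have h3 := GrEq.up (residueFieldIsoBase (pullback.snd p w) x hx).hom.hom h2
  have e3 : Spec.map (CommRingCat.ofHom (residueFieldIsoBase (pullback.snd p w) x hx).hom.hom) ≫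
      Spec.map (CommRingCat.ofHom (algebraMap ((pullback p w).presheaf.stalk x)
        ((pullback p w).residueField x))) ≫ ((pullback p w).fromSpecStalk x ≫ pullback.fst p w) =
      pointOfClosedPoint (pullback.snd p w) x hx ≫ pullback.fst p w := by
    unfold pointOfClosedPoint
    rw [Category.assoc]
    rfl
  rw [e3] at h3
  have e4 : (pointOfClosedPoint (pullback.snd p w) x hx ≫ pullback.fst p w) ≫ p = w := by
    rw [Category.assoc, pullback.condition, pointOfClosedPoint_comp_assoc]
  have h4 := GrEq.apply h3 e4 h0 hδΩ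
  rw [← h4]
  have hpt := pointOfClosedPoint_comp (pullback.snd p w) x hx
  have hcl : IsClosedImmersion (pointOfClosedPoint (pullback.snd p w) x hx) :=
    isClosedImmersion_of_comp_eq_id _ _ hpt
  have e5 : sec h0 (pointOfClosedPoint (pullback.snd p w) x hx ≫ pullback.fst p w) e4 =
      pointOfClosedPoint (pullback.snd p w) x hx := by
    apply h0.hom_ext
    · rw [sec_fst]
    · rw [sec_snd, hpt]
  have hδ := deltaCompat_sec h0 _ e4 hδΩ
  have hcl' := isClosedImmersion_sec h0 _ e4
  unfold gr
  rw [map_nsmul, map_nsmul, pull_one, push_cl, map_point _ hδ x fun z => ?_]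
  rw [e5]
  exact pointOfClosedPoint_apply (pullback.snd p w) x hx z

end K309.ClosedPt
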