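import Groth.Agent.Pi1.H419.HypConn
import Groth.Agent.Pi1.H386.ProperInduction
import Groth.Agent.Gaga.H565.CurveOfDomain
import Groth.Agent.An.K824.TopChain
import Mathlib.AlgebraicGeometry.AlgClosed.Basic

/-!
# Connecting closed points of a connected proper scheme by smooth proper curves

`rel`: a transitive reflexive relation on the points of a connected proper scheme over an algebraically
closed field which relates the images of any two closed points of any smooth proper curve mapping to it
relates all closed points.  (The induction is that of `K824.AlgConn`.)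
-/

set_option autoImplicit false
universe u

open AlgebraicGeometry CategoryTheory CategoryTheory.Limits TopologicalSpace

namespace K309.Conn

open Groth.Agent

variable (k : Type u) [Field k]

/-- The hypothesis on curves. -/
def CurveHyp {X : Scheme.{u}} (p : X ⟶ Spec (CommRingCat.of k)) (Rel : X → X → Prop) : Prop :=
  ∀ (Z : Scheme.{u}) (q : Z ⟶ Spec (CommRingCat.of k)) (_ : IsProper q) (_ : IsIntegral Z)
    (_ : Smooth q) (_ : topologicalKrullDim Z = 1) (h : Z ⟶ X) (_ : h ≫ p = q) (z₁ z₂ : Z)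
    (_ : IsClosed ({z₁} : Set Z)) (_ : IsClosed ({z₂} : Set Z)), Rel (h z₁) (h z₂)

/-- The case of curves. -/
theorem rel_of_dim_le_one [IsAlgClosed k] {X Z : Scheme.{u}}
    (p : X ⟶ Spec (CommRingCat.of k)) (Rel : X → X → Prop) (hrefl : ∀ x, Rel x x)
    (hcurve : CurveHyp k p Rel) (q : Z ⟶ Spec (CommRingCat.of k)) [IsProper q]
    [IsIntegral Z] (hZ : Pi1.IsNormalScheme Z)
    (hdim : topologicalKrullDim Z ≤ 1) (h : Z ⟶ X) (hh : h ≫ p = q) (z₁ z₂ : Z)
    (h₁ : IsClosed ({z₁} : Set Z)) (h₂ : IsClosed ({z₂} : Set Z)) : Rel (h z₁) (h z₂) := by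
  by_cases hη : IsClosed ({genericPoint Z} : Set Z)
  · have hall : ∀ z : Z, z = genericPoint Z := by
      intro z
      have h3 := genericPoint_specializes z
      rw [specializes_iff_mem_closure, hη.closure_eq] at h3
      exact h3
    rw [hall z₁, hall z₂]
    exact hrefl _
  · let _ : Z.Over (Spec (CommRingCat.of k)) := ⟨q⟩
    have hq : IsProper (Z ↘ Spec (CommRingCat.of k)) := ‹IsProper q›
    have h1 := Pi1.H386.LefStep.one_le_dim_closure hη
    have hd1 : topologicalKrullDim Z = 1 := by
      refine le_antisymm hdim (h1.trans (le_of_eq ?_))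
      rw [genericPoint_closure]
      exact IsHomeomorph.topologicalKrullDim_eq _ (Homeomorph.Set.univ Z).isHomeomorph
    have hd2 : ∀ x : Z, IsClosed ({x} : Set Z) → ringKrullDim (Z.presheaf.stalk x) = 1 := by
      intro x hx
      have hloc := VarietyB.DimSch.localDim_eq k x
      rw [VarietyB.DimSch.localDim_eq_of_irreducible k x, ← VarietyB.DimSch.topologicalKrullDim_eq_trd k,
        VarietyB.DimSch.trd_eq_zero_of_isClosed k hx, Nat.cast_zero, add_zero, hd1] at hloc
      exact hloc.symm
    have hsm := Gaga.H565.CurveOfDomain.smoothOfRelativeDimension_one k Z hZ hd2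
    have hs : Smooth q := SmoothOfRelativeDimension.smooth 1 (Z ↘ Spec (CommRingCat.of k))
    exact hcurve Z q inferInstance inferInstance hs hd1 h hh z₁ z₂ h₁ h₂

/-- On a normal projective variety of dimension at least two, any proper closed subset is contained in a
connected closed subscheme of smaller dimension. -/
theorem exists_section_through {X : Scheme.{u}} (pX : X ⟶ Spec (CommRingCat.of k)) [IsProper pX]
    [IsIntegral X] (hX : Pi1.IsNormalScheme X) (hdim : 2 ≤ topologicalKrullDim X) {A : X.Modules}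
    (hA : CohB1.IsAmple A) (n : ℕ) (hn : topologicalKrullDim X ≤ (n : WithBot ℕ∞)) (F : Set X)
    (hF : IsClosed F) (hηF : genericPoint X ∉ F) :
    ∃ (Y : Scheme.{u}) (i : Y ⟶ X) (_ : IsClosedImmersion i), ConnectedSpace Y ∧
      topologicalKrullDim Y < (n : WithBot ℕ∞) ∧ F ⊆ Set.range i := by
  obtain ⟨m, s, hgen, hle, -⟩ := Fdesc.LocGen.IsAmple.exists_genLocus_le hA
    (W := (⟨Fᶜ, hF.isOpen_compl⟩ : X.Opens)) (x := genericPoint X) hηF
  have hL : CohB1.IsAmple (CohB1.tensorPow A (m + 1)) :=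
    Divis.NormAmple.isAmple_tensorPow hA (Nat.succ_pos m)
  have hconn := Pi1.H419.HypConn.isConnected_compl_genLocus pX hX hdim hL s
  let C : Closeds X := ⟨(CohB1.genLocus _ s : Set X)ᶜ, (CohB1.genLocus _ s).isOpen.isClosed_compl⟩
  let I := Scheme.IdealSheafData.vanishingIdeal C
  have hrange : Set.range I.subschemeι = (CohB1.genLocus _ s : Set X)ᶜ := by
    rw [Scheme.IdealSheafData.range_subschemeι, Scheme.IdealSheafData.coe_support_vanishingIdeal]
    rfl
  have hconnY : ConnectedSpace I.subscheme := by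
    have e : I.subscheme ≃ₜ Set.range I.subschemeι :=
      I.subschemeι.isClosedEmbedding.isEmbedding.toHomeomorph
    have h1 : ConnectedSpace (Set.range I.subschemeι) := by
      rw [hrange]
      exact isConnected_iff_connectedSpace.mp hconn
    exact e.symm.surjective.connectedSpace e.symm.continuous
  refine ⟨I.subscheme, I.subschemeι, inferInstance, hconnY, ?_, ?_⟩
  · refine Flat2B.DimFibre.topologicalKrullDim_lt n hn I.subschemeι I.subschemeι.isClosedEmbedding
      (genericPoint X) (fun y => genericPoint_specializes _) (fun y hy => ?_)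
    have h1 : genericPoint X ∈ Set.range I.subschemeι := ⟨y, hy⟩
    rw [hrange] at h1
    exact h1 hgen
  · rw [hrange]
    intro x hx hx'
    exact hle hx' hx

/-- closed points lift to closed points along morphisms from compact schemes -/
theorem exists_closed_lift {W Y : Scheme.{u}} [CompactSpace W] (g : W ⟶ Y) (y : Y)
    (hy : IsClosed ({y} : Set Y)) (hr : y ∈ Set.range g) : ∃ w : W, IsClosed ({w} : Set W) ∧ g w = y := by
  obtain ⟨w₀, hw₀⟩ := hr
  obtain ⟨w, hw, hwc⟩ := (hy.preimage g.continuous).exists_closed_singleton ⟨w₀, hw₀⟩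
  exact ⟨w, hwc, hw⟩

theorem rel_of_cover [IsAlgClosed k] {X Y : Scheme.{u}} (Rel : X → X → Prop)
    (htrans : ∀ x y z, Rel x y → Rel y z → Rel x z)
    (r : Y ⟶ Spec (CommRingCat.of k)) [IsProper r]
    [ConnectedSpace Y] (f : Y ⟶ X) (m : ℕ) (W : Fin m → Scheme.{u}) (g : ∀ i, W i ⟶ Y)
    [∀ i, IsProper (g i)] (hcov : ∀ y : Y, ∃ i, y ∈ Set.range (g i))
    (h : ∀ i, ∀ w₁ w₂ : W i, IsClosed ({w₁} : Set (W i)) → IsClosed ({w₂} : Set (W i)) →
      Rel (f (g i w₁)) (f (g i w₂)))
    (y₁ y₂ : Y) (h₁ : IsClosed ({y₁} : Set Y)) (h₂ : IsClosed ({y₂} : Set Y)) :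
    Rel (f y₁) (f y₂) := by
  have hY : CompactSpace Y := QuasiCompact.compactSpace_of_compactSpace r
  have hW : ∀ i, CompactSpace (W i) := fun i => QuasiCompact.compactSpace_of_compactSpace (g i)
  refine K824.TopChain.chain (fun i => Set.range (g i)) (fun i => (g i).isClosedMap.isClosed_range)
    hcov (fun x y => Rel (f x) (f y)) (fun _ _ _ => htrans _ _ _) ?_ y₁ y₂ h₁ h₂
  intro i x hx y hy hxc hyc
  obtain ⟨w₁, hw₁, rfl⟩ := exists_closed_lift (g i) x hxc hx
  obtain ⟨w₂, hw₂, rfl⟩ := exists_closed_lift (g i) y hyc hy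
  exact h i w₁ w₂ hw₁ hw₂

theorem rel_of_normal [IsAlgClosed k] {X : Scheme.{u}}
    (p : X ⟶ Spec (CommRingCat.of k)) (Rel : X → X → Prop) (hrefl : ∀ x, Rel x x)
    (htrans : ∀ x y z, Rel x y → Rel y z → Rel x z) (hcurve : CurveHyp k p Rel) (n : ℕ) :
    ∀ {Z : Scheme.{u}} (q : Z ⟶ Spec (CommRingCat.of k)) [IsProper q] [IsIntegral Z]
      (_ : Pi1.IsNormalScheme Z) (_ : ∃ A : Z.Modules, CohB1.IsAmple A)
      (_ : topologicalKrullDim Z ≤ (n : WithBot ℕ∞)) (h : Z ⟶ X) (_ : h ≫ p = q) (z₁ z₂ : Z)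
      (_ : IsClosed ({z₁} : Set Z)) (_ : IsClosed ({z₂} : Set Z)), Rel (h z₁) (h z₂) := by
  induction n with
  | zero =>
    intro Z q _ _ hZ hA hd h hh z₁ z₂ h₁ h₂
    exact rel_of_dim_le_one k p Rel hrefl hcurve q hZ (hd.trans (by norm_num)) h hh z₁ z₂ h₁ h₂
  | succ n ih =>
    intro Z q _ _ hZ hA hd h hh z₁ z₂ h₁ h₂
    by_cases h2 : topologicalKrullDim Z ≤ 1
    · exact rel_of_dim_le_one k p Rel hrefl hcurve q hZ h2 h hh z₁ z₂ h₁ h₂
    have h2' : 2 ≤ topologicalKrullDim Z := by
      by_contra hcon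
      rw [not_le] at hcon
      apply h2
      have h3 : topologicalKrullDim Z ≤ ((1 : ℕ) : WithBot ℕ∞) := by
        rw [← ENat.WithBot.lt_add_one_iff]
        refine lt_of_lt_of_le hcon (le_of_eq ?_)
        norm_num
      exact h3
    obtain ⟨A, hA⟩ := hA
    have hη : ¬ IsClosed ({genericPoint Z} : Set Z) := by
      intro hη
      have hall : ∀ z : Z, z = genericPoint Z := by
        intro z
        have h3 := genericPoint_specializes z
        rw [specializes_iff_mem_closure, hη.closure_eq] at h3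
        exact h3
      have hss : Subsingleton Z := ⟨fun a b => (hall a).trans (hall b).symm⟩
      have h4 : topologicalKrullDim Z ≤ 0 := by
        have : Subsingleton (IrreducibleCloseds Z) := by
          refine ⟨fun a b => ?_⟩
          ext1
          have ha : (a : Set Z) = Set.univ := by
            obtain ⟨x, hx⟩ := a.isIrreducible.nonempty
            exact Set.eq_univ_of_forall fun y => by rw [Subsingleton.elim y x]; exact hx
          have hb : (b : Set Z) = Set.univ := by
            obtain ⟨x, hx⟩ := b.isIrreducible.nonempty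
            exact Set.eq_univ_of_forall fun y => by rw [Subsingleton.elim y x]; exact hx
          rw [ha, hb]
        exact Order.krullDim_nonpos_of_subsingleton
      exact absurd (h2'.trans h4) (by norm_num)
    have hclF : IsClosed ({z₁, z₂} : Set Z) := by
      rw [Set.insert_eq]
      exact h₁.union h₂
    have hηF : genericPoint Z ∉ ({z₁, z₂} : Set Z) := by
      intro hmem
      rcases hmem with h3 | h3
      · exact hη (h3 ▸ h₁)
      · exact hη ((show genericPoint Z = z₂ from h3) ▸ h₂)
    obtain ⟨Y, i, hi, hYc, hYd, hYF⟩ :=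
      exists_section_through k q hZ h2' hA (n + 1) hd {z₁, z₂} hclF hηF
    obtain ⟨m, W, g, hg, hW, hWn, hWA, hWd, hWs⟩ :=
      Pi1.H386.ProperInduction.exists_cover k (i ≫ q)
    obtain ⟨y₁, hy₁⟩ := hYF (Set.mem_insert z₁ {z₂})
    obtain ⟨y₂, hy₂⟩ := hYF (Set.mem_insert_of_mem z₁ (Set.mem_singleton z₂))
    have hyc : ∀ y : Y, IsClosed ({i y} : Set Z) → IsClosed ({y} : Set Y) := by
      intro y hy
      have h5 := hy.preimage i.continuous
      have h6 : i ⁻¹' {i y} = {y} := by
        ext w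
        simp only [Set.mem_preimage, Set.mem_singleton_iff]
        exact i.isClosedEmbedding.injective.eq_iff
      rwa [h6] at h5
    have key := rel_of_cover k Rel htrans (i ≫ q) (i ≫ h) m W g hWs (fun j w₁ w₂ hw₁ hw₂ => by
      have h7 := ih (g j ≫ i ≫ q) (hWn j) (hWA j) ((hWd j).trans (by
        rw [← ENat.WithBot.lt_add_one_iff]
        exact_mod_cast hYd)) (g j ≫ i ≫ h) (by rw [Category.assoc, Category.assoc, hh]) w₁ w₂ hw₁ hw₂
      exact h7) y₁ y₂ (hyc y₁ (by rw [hy₁]; exact h₁)) (hyc y₂ (by rw [hy₂]; exact h₂))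
    have h8 : (i ≫ h) y₁ = h z₁ := by rw [← hy₁]; rfl
    have h9 : (i ≫ h) y₂ = h z₂ := by rw [← hy₂]; rfl
    rwa [h8, h9] at key

/-- A relation as above relates any two closed points of a connected proper scheme over an
algebraically closed field. -/
theorem rel [IsAlgClosed k] {X : Scheme.{u}} (p : X ⟶ Spec (CommRingCat.of k))
    [IsProper p] [ConnectedSpace X] (Rel : X → X → Prop) (hrefl : ∀ x, Rel x x)
    (htrans : ∀ x y z, Rel x y → Rel y z → Rel x z) (hcurve : CurveHyp k p Rel)
    (x y : X) (hx : IsClosed ({x} : Set X))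
    (hy : IsClosed ({y} : Set X)) : Rel x y := by
  obtain ⟨m, W, g, hg, hW, hWn, hWA, hWd, hWs⟩ := Pi1.H386.ProperInduction.exists_cover k p
  refine rel_of_cover k Rel htrans p (𝟙 X) m W g hWs (fun j w₁ w₂ hw₁ hw₂ => ?_) x y hx hy
  let _ : (W j).Over (Spec (CommRingCat.of k)) := ⟨g j ≫ p⟩
  have : LocallyOfFiniteType ((W j) ↘ Spec (CommRingCat.of k)) :=
    inferInstanceAs (LocallyOfFiniteType (g j ≫ p))
  exact rel_of_normal k p Rel hrefl htrans hcurve _ (g j ≫ p) (hWn j) (hWA j)
    (VarietyB.DimSch.topologicalKrullDim_eq_trd k (X := W j)).le (g j) rfl w₁ w₂ hw₁ hw₂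

end K309.Conn
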