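import Groth.Agent.Cyc.K308.C1Tensor
import Groth.Agent.Grpsch.PicGrp

/-!
# The first Chern class as a homomorphism from the Picard group

* `C1P δ c`: the operator of a class in `Pic X`; `C1P_mul`, `C1P_pow`.
* `C1P_cl_one`: on an integral curve the operator evaluated at the fundamental class is the divisor
  of any nonzero rational section.
-/

set_option autoImplicit false
universe u v
open AlgebraicGeometry CategoryTheory CategoryTheory.Limits TopologicalSpace Opposite Cyc
open Groth.Agent.CycB Groth.Agent.CycB.C1Pull K308.Grp
open Groth.Agent.Grpsch.PicGrp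

namespace K309.PicC1

variable {X : Scheme.{u}} (δ : X → ℤ)

/-- The first Chern class operator of a Picard class. -/
noncomputable def C1P (c : Pic X) : AddMonoid.End (G X δ) :=
  Quotient.lift (s := isoSetoid X) (fun L => C1 δ L.1) (fun _ _ ⟨e⟩ => C1_congr δ e) c

theorem C1P_mk {L : X.Modules} (hL : PicF.IsInvertible L) : C1P δ (mk L hL) = C1 δ L := rfl

variable {δ}

theorem C1P_mul (hX : IsSetup X δ) (a b : Pic X) : C1P δ (a * b) = C1P δ a + C1P δ b := by
  induction a using ind with | _ L hL => ?_
  induction b using ind with | _ N hN => ?_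
  exact C1_tensor hX hL hN

theorem C1P_one (hX : IsSetup X δ) : C1P δ (1 : Pic X) = 0 := C1_structure hX

theorem C1P_pow (hX : IsSetup X δ) (a : Pic X) (n : ℕ) : C1P δ (a ^ n) = n • C1P δ a := by
  induction n with
  | zero => rw [pow_zero, C1P_one hX, zero_nsmul]
  | succ n ih => rw [pow_succ, C1P_mul hX, ih, succ_nsmul]

/-- On an integral scheme the operator evaluated at the fundamental class is the divisor of any nonzero
rational section. -/
theorem C1_cl_single [IrreducibleSpace X] [DecidableEq ↥X] (hX : IsSetup X δ) {L : X.Modules}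
    (hL : PicF.IsInvertible L) (ξ : X) {s : secFibre L ξ} (hs : s ≠ 0)
    (γ : AlgebraicCycle X ℤ) (hγ : ⇑γ = secDivFun δ L ξ s) :
    C1 δ L (cl δ (Function.locallyFinsuppWithin.single ξ (1 : ℤ))) = cl δ γ := by
  rw [C1_eq hX hL]
  refine c1_cl hX hL (s := Function.update (sec hL) ξ s) (fun x hx => ?_) ?_
  · have h1 : x = ξ := by
      by_contra hne
      rw [Function.locallyFinsuppWithin.single_apply, if_neg hne] at hx
      exact hx rfl
    subst h1
    rw [Function.update_self]
    exact hs
  · rw [hγ]
    funext x
    unfold c1CapFun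
    rw [finsum_eq_single _ ξ]
    · rw [Function.locallyFinsuppWithin.single_apply, if_pos rfl, one_mul, Function.update_self]
    · intro y hy
      rw [Function.locallyFinsuppWithin.single_apply, if_neg hy, zero_mul]

end K309.PicC1
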