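import Groth.Agent.Cyc.K309.PicDiv
import Groth.Agent.Cyc.K309.PicC1
import Groth.Agent.Cyc.K309.ZeroDeg
import Groth.Agent.CycB.DegCurve
import Groth.Agent.S5105
import Groth.Agent.S1535
import Groth.Agent.S2821

/-!
# Divisibility of differences of points on a smooth proper curve

`curve_step`: on a smooth proper curve over an algebraically closed field the difference of two closed
points is `N` times a zero-cycle up to rational equivalence.
-/

set_option autoImplicit false
universe u
open AlgebraicGeometry CategoryTheory CategoryTheory.Limits TopologicalSpace Opposite Cyc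
open Groth.Agent Groth.Agent.CycB Groth.Agent.CycB.RelDim
open K308.Grp K309.Dvr K309.PicC1
open Groth.Agent.CycB.SetupDVR
open Groth.Agent.Grpsch.PicGrp

namespace K309.CurveStep

variable {k : Type u} [Field k]

theorem coheight_eq_one {C : Scheme.{u}} [IsIntegral C]
    (hcl : ∀ x : C, x ≠ genericPoint C → IsClosed ({x} : Set C)) {x : C} (hx : x ≠ genericPoint C) :
    Order.coheight x = 1 := by
  have hmax : IsMax (genericPoint C) := by
    intro y hy
    rw [Scheme.le_iff_specializes] at hy ⊢
    exact genericPoint_specializes y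
  have hnle : ¬ genericPoint C ≤ x := by
    intro h
    rw [Scheme.le_iff_specializes] at h
    exact hx (h.antisymm (genericPoint_specializes x)).eq
  have hle : x ≤ genericPoint C := Scheme.le_iff_specializes.2 (genericPoint_specializes x)
  apply le_antisymm
  · have h1 : Order.coheight x ≤ (1 : ℕ) := by
      rw [Order.coheight_le_coe_iff]
      intro y hy
      have h2 : y = genericPoint C := by
        by_contra hne
        have h3 : y ⤳ x := Scheme.le_iff_specializes.1 hy.le
        rw [specializes_iff_mem_closure, (hcl y hne).closure_eq] at h3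
        exact hy.ne h3
      rw [h2, Order.coheight_eq_zero.2 hmax]
      norm_num
    exact_mod_cast h1
  · rw [ENat.one_le_iff_ne_zero, ne_eq, Order.coheight_eq_zero]
    intro h
    exact hnle (h hle)

theorem curve_step [IsAlgClosed k] {C : Scheme.{u}} [IsIntegral C]
    [DecidableEq ↥C] (f : C ⟶ Spec (CommRingCat.of k)) [IsProper f] [Smooth f]
    (hdim : topologicalKrullDim C = 1) {δ : C → ℤ} (hδ : DeltaCompat f δ (fun _ => 0)) {N : ℕ}
    (hN : 1 ≤ N) (z₁ z₂ : C) (h₁ : IsClosed ({z₁} : Set C)) (h₂ : IsClosed ({z₂} : Set C)) :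
    ∃ β ∈ Zk C δ 0, cl δ (Function.locallyFinsuppWithin.single z₁ (1 : ℤ) -
      Function.locallyFinsuppWithin.single z₂ (1 : ℤ)) = N • cl δ β := by
  let _ : C.Over (Spec (CommRingCat.of k)) := ⟨f⟩
  have hsm : Smooth (C ↘ Spec (CommRingCat.of k)) := ‹Smooth f›
  have hpr : IsProper (C ↘ Spec (CommRingCat.of k)) := ‹IsProper f›
  have hδ' : DeltaCompat (C ↘ Spec (CommRingCat.of k)) δ (fun _ => 0) := hδ
  have hX : IsSetup C δ := SetupLft.isSetup_of_deltaCompat f (isSetup_spec_field k) hδ
  have hln : IsLocallyNoetherian C := hX.1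
  obtain ⟨hdf, hη, hlt, hcl, hnc, hfin⟩ := DegCurve.points k C hdim δ hδ'
  have hreg : ∀ x : C, IsRegularLocalRing (C.presheaf.stalk x) := fun x => S1535.result k C x
  have hufd : ∀ x : C, UniqueFactorizationMonoid (C.presheaf.stalk x) := fun x => by
    have := hreg x
    exact (S2821.result _).2
  have hnorm : Pi1.IsNormalScheme C := fun x => by
    have := hreg x
    have h1 := (S2821.result (C.presheaf.stalk x)).1
    have := hufd x
    exact ⟨h1, inferInstance⟩
  have hne₁ : z₁ ≠ genericPoint C := fun h => hnc (h ▸ h₁)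
  have hne₂ : z₂ ≠ genericPoint C := fun h => hnc (h ▸ h₂)
  set γ : AlgebraicCycle C ℤ := Function.locallyFinsuppWithin.single z₁ (1 : ℤ) -
      Function.locallyFinsuppWithin.single z₂ (1 : ℤ) with hγ
  have hγη : γ (genericPoint C) = 0 := by
    rw [hγ, Function.locallyFinsuppWithin.coe_sub, Pi.sub_apply,
      Function.locallyFinsuppWithin.single_apply, Function.locallyFinsuppWithin.single_apply,
      if_neg hne₁.symm, if_neg hne₂.symm, sub_zero]
  obtain ⟨L, hL, s, hs, hsd⟩ := (S5105.result C hnorm).2 hufd γ (fun x hx => by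
    by_contra h
    apply hx
    refine coheight_eq_one hcl ?_
    rintro rfl
    exact h hγη) (fun x => by
    have hc : CompactSpace C := QuasiCompact.compactSpace_of_compactSpace f
    refine ⟨⊤, trivial, ?_⟩
    have h1 := γ.locallyFiniteSupport.finite_inter_support_of_isCompact (isCompact_univ (X := C))
    refine h1.subset fun z hz => ⟨trivial, hz.2⟩)
  have hsec : ⇑γ = secDivFun δ L (genericPoint C) s := by
    funext x
    unfold secDivFun
    by_cases hx : x = genericPoint C
    · subst hx
      rw [hγη, dif_neg]
      rintro ⟨-, h⟩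
      omega
    · rw [dif_pos ⟨genericPoint_specializes x, by rw [hlt x hx, hη]; rfl⟩]
      exact (hsd x (coheight_eq_one hcl hx)).symm
  -- the degree
  have hdg : Etcore.DegZero.dg k C (mk L hL) = 0 := by
    rw [Etcore.DegZero.dg_mk, Etcore.DegZero.eulerCharLE_eq k C hdim,
      Etcore.DegZero.eulerCharLE_eq k C hdim]
    have h3 := DegCurve.deg_eq k C hdim δ hδ' L hL s hs
    rw [Curv2.deg, Nat.cast_one, one_mul] at h3
    rw [h3, ← hsec]
    have h4 : ∀ x, (((C ↘ Spec (CommRingCat.of k)).residueDegree x : ℕ) : ℤ) * γ x =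
        (if x = z₁ then 1 else 0) + (if x = z₂ then -1 else 0) := by
      intro x
      by_cases hx : x = genericPoint C
      · subst hx
        rw [hγη, mul_zero, if_neg hne₁.symm, if_neg hne₂.symm, add_zero]
      · have h5 : (C ↘ Spec (CommRingCat.of k)).residueDegree x = 1 :=
          ZeroDeg.residueDegree_eq_one _ x (hcl x hx)
        rw [h5, Nat.cast_one, one_mul, hγ, Function.locallyFinsuppWithin.coe_sub, Pi.sub_apply,
          Function.locallyFinsuppWithin.single_apply, Function.locallyFinsuppWithin.single_apply,
          sub_eq_add_neg]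
        congr 1
        split_ifs <;> simp
    rw [finsum_congr h4, finsum_add_distrib, finsum_eq_single _ z₁ (fun x hx => if_neg hx),
      finsum_eq_single _ z₂ (fun x hx => if_neg hx), if_pos rfl, if_pos rfl]
    · norm_num
    · exact (Set.finite_singleton z₁).subset fun x hx => by
        by_contra hne
        exact hx (if_neg hne)
    · exact (Set.finite_singleton z₂).subset fun x hx => by
        by_contra hne
        exact hx (if_neg hne)
  obtain ⟨b, hb⟩ := PicDiv.exists_pow_eq C f hdim rfl N hN (mk L hL) hdg
  obtain ⟨M, hM, rfl⟩ := exists_mk b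
  refine ⟨capCycle hX hM (Function.locallyFinsuppWithin.single (genericPoint C) (1 : ℤ)), ?_, ?_⟩
  · intro x hx
    rw [coe_capCycle]
    unfold c1CapFun
    rw [finsum_eq_single _ (genericPoint C)]
    · rw [Function.locallyFinsuppWithin.single_apply, if_pos rfl, one_mul]
      unfold secDivFun
      rw [dif_neg]
      rintro ⟨-, h⟩
      apply hx
      omega
    · intro y hy
      rw [Function.locallyFinsuppWithin.single_apply, if_neg hy, zero_mul]
  · rw [← C1_cl_single hX hL (genericPoint C) hs γ hsec, ← C1P_mk δ hL, ← hb, C1P_pow hX,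
      C1P_mk, C1_eq hX hM]
    rfl

end K309.CurveStep
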