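import Groth.Agent.Cyc.K309.FieldExt
import Groth.Agent.VarietyA.RegPoint

/-!
# Descent from function fields of varieties over algebraically closed fields

* `eq_zero_of_zeroAt_functionField`: a class on `Y/k` killed by the extension `k → k(X)` vanishes,
  `k` algebraically closed;
* `eq_zero_of_prod`: if `p₁^*α + p₂^*β ~ 0` on `X × Y` and `α` is zero at the generic point of `X`,
  then `β ~ 0`.
-/

set_option autoImplicit false
universe u
open AlgebraicGeometry CategoryTheory CategoryTheory.Limits TopologicalSpace Opposite Cyc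
open Groth.Agent Groth.Agent.CycB
open K308.Grp K309.Gys K309.Bc K309.Dvr K309.FieldExt
open Groth.Agent.CycB.SetupDVR

namespace K309.ProdInj

instance flat_fromSpecStalk (Y : Scheme.{u}) (y : Y) : Flat (Y.fromSpecStalk y) := by
  let U : Y.Opens := (Y.affineCover.f (Y.affineCover.idx y)).opensRange
  have hU : IsAffineOpen U := isAffineOpen_opensRange _
  have hy : y ∈ U := Y.affineCover.covers y
  have e : Y.fromSpecStalk y = Spec.map (Y.presheaf.germ U y hy) ≫ hU.fromSpec := rfl
  rw [e]
  have : Flat (Spec.map (Y.presheaf.germ U y hy)) := by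
    rw [Flat.SpecMap_iff]
    let _ : Algebra Γ(Y, U) (Y.presheaf.stalk y) := (Y.presheaf.germ U y hy).hom.toAlgebra
    have := hU.isLocalization_stalk ⟨y, hy⟩
    exact IsLocalization.flat (Y.presheaf.stalk y) (hU.primeIdealOf ⟨y, hy⟩).asIdeal.primeCompl
  have : IsOpenImmersion hU.fromSpec := hU.isOpenImmersion_fromSpec
  have : Flat hU.fromSpec := inferInstance
  exact inferInstance

variable {k : Type u} [Field k] {X : Scheme.{u}} (f : X ⟶ Spec (CommRingCat.of k))

/-- The structure map to a local ring. -/
noncomputable def toStalk (x : X) : k →+* X.presheaf.stalk x :=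
  (Spec.preimage (X.fromSpecStalk x ≫ f)).hom

theorem spec_toStalk (x : X) :
    Spec.map (CommRingCat.ofHom (toStalk f x)) = X.fromSpecStalk x ≫ f :=
  Spec.map_preimage _

theorem stalkSpecializes_toStalk {x y : X} (h : x ⤳ y) :
    (X.presheaf.stalkSpecializes h).hom.comp (toStalk f y) = toStalk f x := by
  have : CommRingCat.ofHom (toStalk f y) ≫ X.presheaf.stalkSpecializes h =
      CommRingCat.ofHom (toStalk f x) := by
    apply Spec.map_injective
    rw [Spec.map_comp, spec_toStalk, spec_toStalk,
      Scheme.SpecMap_stalkSpecializes_fromSpecStalk_assoc]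
  exact congrArg CommRingCat.Hom.hom this

/-- The structure map to the function field. -/
noncomputable def toFF [IsIntegral X] : k →+* X.functionField :=
  (Spec.preimage (X.fromSpecStalk (genericPoint X) ≫ f)).hom

theorem spec_toFF [IsIntegral X] : Spec.map (CommRingCat.ofHom (toFF f)) =
    X.fromSpecStalk (genericPoint X) ≫ f :=
  Spec.map_preimage _

/-- A class on `Y/k` killed by the extension `k → k(X)` vanishes, `k` algebraically closed. -/
theorem eq_zero_of_zeroAt_functionField [IsAlgClosed k] [IsIntegral X] [LocallyOfFiniteType f]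
    {Y : Scheme.{u}} {g : Y ⟶ Spec (CommRingCat.of k)} [LocallyOfFiniteType g] {δ : Y → ℤ}
    {hδ : DeltaCompat g δ (fun _ => 0)} {a : G Y δ}
    (ha : ZeroAt g hδ a (toFF f)) : a = 0 := by
  obtain ⟨x, -, hc, hreg⟩ := VarietyA.RegPoint.exists_regular_closedPoint k f ⊤
    ⟨genericPoint X, trivial⟩
  let _ : Algebra (X.presheaf.stalk x) (X.residueField x) := (X.residue x).hom.toAlgebra
  have h1 : ZeroAt g hδ a ((algebraMap (X.presheaf.stalk x) (X.residueField x)).comp
      (toStalk f x)) := by
    refine ZeroAt.regular (K := X.functionField) (toStalk f x) ?_ ?_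
    · exact X.residue_surjective x
    · have : (algebraMap (X.presheaf.stalk x) X.functionField).comp (toStalk f x) =
        toFF f := stalkSpecializes_toStalk f _
      rwa [this]
  rw [← zeroAt_id_iff (f := g) (hδ := hδ)]
  refine ZeroAt.up (ψ := (residueFieldIsoBase f x hc).hom.hom) ?_ h1
  have h2 : CommRingCat.ofHom (toStalk f x) ≫ X.residue x = (residueFieldIsoBase f x hc).inv := by
    apply Spec.map_injective
    rw [SpecMap_residueFieldIsoBase_inv, Spec.map_comp, spec_toStalk]
    rfl
  have h3 : CommRingCat.ofHom (toStalk f x) ≫ X.residue x ≫ (residueFieldIsoBase f x hc).hom =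
      𝟙 _ := by
    rw [← Category.assoc, h2, Iso.inv_hom_id]
  exact congrArg CommRingCat.Hom.hom h3

theorem shift_fromSpecStalk [IsIntegral X] (δ : X → ℤ) :
    Shift (X.fromSpecStalk (genericPoint X)) (fun _ => 0) δ (- δ (genericPoint X)) := by
  intro z _
  have h1 : X.fromSpecStalk (genericPoint X) z = genericPoint X := by
    have h2 : X.fromSpecStalk (genericPoint X) z ∈ Set.range (X.fromSpecStalk (genericPoint X)) :=
      ⟨z, rfl⟩
    rw [Scheme.range_fromSpecStalk] at h2
    exact ((genericPoint_specializes _).antisymm h2).eq.symm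
  rw [h1, add_neg_cancel]

theorem shift_structure [IsIntegral X] (δ : X → ℤ) :
    Shift f δ (fun _ => 0) (δ (genericPoint X)) := by
  intro x hx
  have h1 : genericPoint X = x :=
    hx _ (Subsingleton.elim (α := PrimeSpectrum k) _ _) (genericPoint_specializes x)
  rw [← h1, zero_add]

/-- If `p₁^*α + p₂^*β ~ 0` on `X ×_k Y` and `α` is zero at the generic point of `X`, then
`β ~ 0`. -/
theorem eq_zero_of_prod [IsAlgClosed k] [IsIntegral X] [LocallyOfFiniteType f]
    {Y P : Scheme.{u}} {g : Y ⟶ Spec (CommRingCat.of k)} [LocallyOfFiniteType g]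
    {p : P ⟶ X} {q : P ⟶ Y} (h : IsPullback p q f g)
    {δX : X → ℤ} {δY : Y → ℤ} {δP : P → ℤ}
    (hX : DeltaCompat f δX (fun _ => 0)) (hY : DeltaCompat g δY (fun _ => 0))
    (hP : DeltaCompat p δP δX) {c : ℤ} (hc : Shift p δP δX c) {α : X → ℤ} (hα : α (genericPoint X) = 0)
    {β : AlgebraicCycle Y ℤ} {γ : AlgebraicCycle P ℤ}
    (hγ : ∀ z, γ z = pullFun p δP δX c α z + pullFun q δP δY (δX (genericPoint X)) β z)
    (hz : cl δP γ = 0) : cl δY β = 0 := by
  have hfl : Flat f := inferInstance
  have hgl : Flat g := inferInstance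
  have i1 : LocallyOfFiniteType p := MorphismProperty.of_isPullback (P := @LocallyOfFiniteType) h.flip inferInstance
  have i2 : LocallyOfFiniteType q := MorphismProperty.of_isPullback (P := @LocallyOfFiniteType) h inferInstance
  have i3 : Flat p := MorphismProperty.of_isPullback (P := @Flat) h.flip inferInstance
  have i4 : Flat q := MorphismProperty.of_isPullback (P := @Flat) h inferInstance
  have hXs := SetupLft.isSetup_of_deltaCompat f (isSetup_spec_field k) hX
  have hYs := SetupLft.isSetup_of_deltaCompat g (isSetup_spec_field k) hY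
  have hPs := SetupLft.isSetup_of_deltaCompat p hXs hP
  have hφ := flat_spec_of_field (CommRingCat.ofHom (toFF f))
  have h0 := IsPullback.of_hasPullback p (X.fromSpecStalk (genericPoint X))
  have i5 := lft_of_isPullback h0
  have i6 := flat_of_isPullback h0
  obtain ⟨δ', hδ'⟩ := SetupLft.exists_deltaCompat
    (pullback.snd p (X.fromSpecStalk (genericPoint X))) (fun _ => 0)
  have h1 : IsPullback (pullback.fst p (X.fromSpecStalk (genericPoint X)) ≫ q)
      (pullback.snd p (X.fromSpecStalk (genericPoint X))) g
      (Spec.map (CommRingCat.ofHom (toFF f))) := by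
    exact (congrArg (IsPullback (pullback.fst p (X.fromSpecStalk (genericPoint X)) ≫ q)
      (pullback.snd p (X.fromSpecStalk (genericPoint X))) g) (spec_toFF f)).mpr
      (h0.flip.paste_vert h).flip
  have hP's : IsSetup (pullback p (X.fromSpecStalk (genericPoint X))) δ' :=
    SetupLft.isSetup_of_deltaCompat _ (isSetup_spec_field X.functionField) hδ'
  have hsq : Shift q δP δY (δX (genericPoint X)) := shift_of_isPullback h.flip (shift_structure f δX) hY hP
  have hsp := shift_of_isPullback h0 (shift_fromSpecStalk δX) hP hδ'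
  have hsh : Shift (pullback.fst p (X.fromSpecStalk (genericPoint X)) ≫ q) δ' δY 0 := by
    have := hsp.comp hsq
    rwa [neg_add_cancel] at this
  refine eq_zero_of_zeroAt_functionField f (g := g) (hδ := hY) (zeroAt_of h1 hδ' ?_)
  obtain ⟨β', hβ'⟩ := exists_pull hP's _ hsh β
  obtain ⟨γ', hγ'⟩ := exists_pull hP's _ hsp γ
  have h2 : cl δ' γ' = 0 := cl_pull_eq_zero hP's hPs _ hsp hz hγ'
  have h3 : γ' = β' := by
    apply DFunLike.coe_injective
    rw [hγ', hβ']
    have h4 : ⇑γ = pullFun p δP δX c α + pullFun q δP δY (δX (genericPoint X)) ⇑β := funext hγ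
    rw [h4, pullFun_add', pullFun_pullFun hP's.2.2 hPs.2.2 _ _ hsp hsq,
      pullFun_pullFun hP's.2.2 hPs.2.2 _ _ hsp hc, neg_add_cancel]
    have h5 : pullFun (pullback.fst p (X.fromSpecStalk (genericPoint X)) ≫ p) δ' δX
        (-δX (genericPoint X) + c) α = 0 := by
      funext z
      have h6 : (pullback.fst p (X.fromSpecStalk (genericPoint X)) ≫ p) z = genericPoint X := by
        rw [pullback.condition]
        have h2 : X.fromSpecStalk (genericPoint X) (pullback.snd p _ z) ∈
            Set.range (X.fromSpecStalk (genericPoint X)) := ⟨_, rfl⟩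
        rw [Scheme.range_fromSpecStalk] at h2
        exact ((genericPoint_specializes _).antisymm h2).eq.symm
      rw [FlatLength.pullFun_apply, h6, hα, zero_mul, ite_self]
      rfl
    rw [h5, zero_add]
  have h4 : bcF g hY (toFF f) h1 hδ' (cl δY β) = cl δ' β' :=
    bc_cl _ _ _ _ h1 hδ' hβ'
  rw [h4, ← h3, h2]

end K309.ProdInj
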