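import Groth.Agent.Cyc.K309.Graph2
import Groth.Agent.Cyc.K309.ProdInj
import Groth.Agent.CycB.AffBundle

/-!
# Decomposition of the diagonal and graphs of generic points
-/

set_option autoImplicit false
universe u
open AlgebraicGeometry CategoryTheory CategoryTheory.Limits TopologicalSpace Opposite Cyc
open Groth.Agent Groth.Agent.CycB Groth.Agent.CycB.GysinCl
open K305.StructCap K308.Grp K309.Gys K309.ZeroFun K309.Bc K309.Dvr K309.Graph
open Groth.Agent.CycB.SetupDVR

namespace K309.DiagDec

/-- The fundamental cycle of the spectrum of a field. -/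
noncomputable def one (k : Type u) [Field k] : AlgebraicCycle (Spec (CommRingCat.of k)) ℤ where
  toFun _ := 1
  supportWithinDomain' := by simp
  supportLocallyFiniteWithinDomain' z _ := by
    refine ⟨Set.univ, Filter.univ_mem, ?_⟩
    have : Subsingleton ↥(Spec (CommRingCat.of k)) :=
      inferInstanceAs (Subsingleton (PrimeSpectrum k))
    exact Set.toFinite _

@[simp]
theorem one_apply (k : Type u) [Field k] (z : ↥(Spec (CommRingCat.of k))) : one k z = 1 := rfl

theorem flat_of_generic {V T : Scheme.{u}} [IsIntegral V] (y : T ⟶ V)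
    (hy : ∀ z, y z = genericPoint V) : Flat y := by
  apply Flat.of_stalkMap
  intro x
  have hf : IsField (V.presheaf.stalk (y x)) := by
    rw [hy x]
    exact Field.toIsField V.functionField
  let _ := (y.stalkMap x).hom.toAlgebra
  let _ := hf.toField
  exact (inferInstance : Module.Flat (V.presheaf.stalk (y x)) (T.presheaf.stalk x))


variable {F : Type u} [Field F] {V : Scheme.{u}} {p : V ⟶ Spec (CommRingCat.of F)}
  [IsIntegral V] [LocallyOfFiniteType p]

open Classical in
/-- The class of `V` as a pullback. -/
theorem pullFun_one {δV : V → ℤ} (hV : DeltaCompat p δV (fun _ => 0)) (v : V) :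
    pullFun p δV (fun _ => 0) (δV (genericPoint V)) (one F) v =
      if v = genericPoint V then 1 else 0 := by
  have hVs := SetupLft.isSetup_of_deltaCompat p (isSetup_spec_field F) hV
  rw [FlatLength.pullFun_apply]
  by_cases hv : v = genericPoint V
  · subst hv
    rw [if_pos (by rw [zero_add]), if_pos rfl, one_apply, one_mul]
    have h1 : IsField (V.presheaf.stalk (genericPoint V)) := Field.toIsField V.functionField
    have h2 : IsField ((Spec (CommRingCat.of F)).presheaf.stalk (p (genericPoint V))) := by
      have : p (genericPoint V) = genericPoint ↥(Spec (CommRingCat.of F)) :=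
        Subsingleton.elim (α := PrimeSpectrum F) _ _
      rw [this]
      exact Field.toIsField (Spec (CommRingCat.of F)).functionField
    have h3 : FlatLength.mult p (genericPoint V) = 1 := by
      unfold FlatLength.mult
      rw [(IsLocalRing.isField_iff_maximalIdeal_eq).1 h2, Ideal.map_bot]
      have h4 : (IsLocalRing.maximalIdeal (V.presheaf.stalk (genericPoint V))) = ⊥ :=
        (IsLocalRing.isField_iff_maximalIdeal_eq).1 h1
      have : IsSimpleModule (V.presheaf.stalk (genericPoint V))
          (V.presheaf.stalk (genericPoint V) ⧸ (⊥ : Ideal (V.presheaf.stalk (genericPoint V)))) := by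
        rw [← h4]
        exact isSimpleModule_iff_isCoatom.2 (IsLocalRing.maximalIdeal.isMaximal _).out
      exact Module.length_eq_one _ _
    rw [h3]
    rfl
  · rw [if_neg hv, if_neg]
    intro h
    rw [zero_add] at h
    exact hv (LocQuot.eq_of_specializes_of_eq hVs.2.2 (genericPoint_specializes v) h).symm

/-- The cycle of the diagonal. -/
theorem map_diagonal [IsSeparated p] {δV : V → ℤ} (hV : DeltaCompat p δV (fun _ => 0))
    {δ : ↥(pullback p p) → ℤ} (hΔ : DeltaCompat (pullback.diagonal p) δV δ)
    (c : AlgebraicCycle V ℤ)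
    (hc : ⇑c = pullFun p δV (fun _ => 0) (δV (genericPoint V)) (one F)) :
    ⇑(AlgebraicCycle.map (pullback.diagonal p) δV δ c) =
      subschemeFun δ (δV (genericPoint V)) (pullback.diagonal p) := by
  have hVs := SetupLft.isSetup_of_deltaCompat p (isSetup_spec_field F) hV
  have hδ : ∀ v, δV v = δ (pullback.diagonal p v) := fun v =>
    congrFun (K930.PushPull.deltaCompat_eq_comp _ hΔ) v
  funext w
  by_cases hw : w ∈ Set.range ⇑(pullback.diagonal p)
  · obtain ⟨v, rfl⟩ := hw
    rw [DivNat.map_apply_of_isPreimmersion _ _ _ _ _ (hδ v), hc, pullFun_one hV]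
    unfold subschemeFun
    have h1 : {z : V | pullback.diagonal p z = pullback.diagonal p v} = {v} := by
      ext z
      simp only [Set.mem_ofPred_eq, Set.mem_singleton_iff]
      exact (pullback.diagonal p).isEmbedding.injective.eq_iff
    rw [h1, finsum_mem_singleton, ← hδ v]
    by_cases hv : v = genericPoint V
    · subst hv
      rw [if_pos rfl, if_pos rfl]
      have h2 : IsField (V.presheaf.stalk (genericPoint V)) := Field.toIsField V.functionField
      have : IsSimpleModule (V.presheaf.stalk (genericPoint V))
          (V.presheaf.stalk (genericPoint V)) := by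
        let _ := h2.toField
        exact (inferInstance : IsSimpleModule (V.presheaf.stalk (genericPoint V))
          (V.presheaf.stalk (genericPoint V)))
      rw [Module.length_eq_one]
      rfl
    · rw [if_neg hv, if_neg]
      intro h
      exact hv (LocQuot.eq_of_specializes_of_eq hVs.2.2 (genericPoint_specializes v) h).symm
  · rw [DivNat.map_apply_notMem_range _ _ _ _ _ hw]
    unfold subschemeFun
    have h1 : {z : V | pullback.diagonal p z = w} = ∅ := by
      ext z
      simp only [Set.mem_ofPred_eq, Set.mem_empty_iff_false, iff_false]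
      exact fun h => hw ⟨z, h⟩
    rw [h1, finsum_mem_empty, ite_self]

/-- **The generic point.** A decomposition of the diagonal implies that the graph classes of all
the points over the generic point are constant. -/
theorem grEq_generic [IsSeparated p] [GeometricallyIntegral p] [QuasiCompact p]
    {δV : V → ℤ} (hV : DeltaCompat p δV (fun _ => 0)) {v : V} (hv : δV v = 0)
    {δ : ↥(pullback p p) → ℤ} (hδ : DeltaCompat (pullback.fst p p ≫ p) δ (fun _ => 0))
    {d : ℤ} (hd : δV (genericPoint V) = d)
    {cΔ : AlgebraicCycle (pullback p p) ℤ} (hcΔ : ⇑cΔ = subschemeFun δ d (pullback.diagonal p))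
    (N : ℕ) {Γ₁ Γ₂ : AlgebraicCycle (pullback p p) ℤ} (hΓ₁ : Γ₁ ∈ Zk (pullback p p) δ d)
    (hsupp₁ : ∀ x : ↥(pullback p p), Γ₁ x ≠ 0 → pullback.snd p p x = v)
    {D : Set V} (hD : IsClosed D) (hDne : D ≠ Set.univ)
    (hsupp₂ : ∀ x : ↥(pullback p p), Γ₂ x ≠ 0 → pullback.fst p p x ∈ D)
    (hdec : RatEquiv δ d (N • cΔ) (Γ₁ + Γ₂)) :
    ∃ β₀ : AlgebraicCycle V ℤ, ∀ (K : Type u) [Field K] (y : Spec (CommRingCat.of K) ⟶ V),
      (∀ z, y z = genericPoint V) →
        GrEq p hV (N • cl (fun _ => 0) (one F)) (cl δV β₀) K y := by
  have hVs := SetupLft.isSetup_of_deltaCompat p (isSetup_spec_field F) hV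
  have h1 : DeltaCompat (pullback.fst p p) δ δV :=
    K930.PushPull.deltaCompat_of_comp (pullback.fst p p) p hδ hV
  have h2 : DeltaCompat (pullback.snd p p) δ δV := by
    refine K930.PushPull.deltaCompat_of_comp (pullback.snd p p) p ?_ hV
    rw [← pullback.condition]
    exact hδ
  have hWs : IsSetup (pullback p p) δ := SetupLft.isSetup_of_deltaCompat _ hVs h1
  have hΔ : DeltaCompat (pullback.diagonal p) δV δ := by
    refine K930.PushPull.deltaCompat_of_comp (pullback.diagonal p) (pullback.fst p p ≫ p) ?_ hδ
    rw [pullback.diagonal_fst_assoc]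
    exact hV
  have hsV : Shift p δV (fun _ => 0) d := by
    intro x hx
    have h3 : genericPoint V = x :=
      hx _ (Subsingleton.elim (α := PrimeSpectrum F) _ _) (genericPoint_specializes x)
    rw [← h3, zero_add, hd]
  have hfl : Flat p := inferInstance
  have sq0 := IsPullback.of_hasPullback p p
  have hs2 : Shift (pullback.snd p p) δ δV d := shift_of_isPullback sq0.flip hsV hV h1
  -- `Γ₁` is a pullback
  obtain ⟨β₀, -, hβ₀⟩ := AffBundle.exists_base (pullback.snd p p) hWs.2.2 hs2 (k := 0) Γ₁
    (by rwa [zero_add]) (fun x hx => by rw [hsupp₁ x hx, hv])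
  refine ⟨β₀, fun K _ y hy P pP qP δP h hP => ?_⟩
  have hPs := setup_of_isPullback (isSetup_spec_field K) h hP
  have hflP := flat_of_isPullback h
  have hyf : Flat y := flat_of_generic y hy
  have hys : Shift y (fun _ => 0) δV (-d) := fun z _ => by rw [hy z, hd, add_neg_cancel]
  -- the map `V_K → V × V`
  let g : P ⟶ pullback p p := pullback.lift (qP ≫ y) pP (by rw [Category.assoc, h.w])
  have g1 : g ≫ pullback.fst p p = qP ≫ y := pullback.lift_fst _ _ _
  have g2 : g ≫ pullback.snd p p = pP := pullback.lift_snd _ _ _
  have sg : IsPullback g qP (pullback.fst p p) y := by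
    refine IsPullback.of_right ?_ g1 sq0.flip
    rw [g2]
    exact h
  have hgf : Flat g := flat_of_isPullback sg
  have hgs : Shift g δP δ (-d) := shift_of_isPullback sg hys h1 hP
  have hcl := isClosedImmersion_sec h y rfl
  -- the graph
  have hsec : IsPullback (sec h y rfl) y g (pullback.diagonal p) := by
    have hc : sec h y rfl ≫ g = y ≫ pullback.diagonal p := by
      apply pullback.hom_ext
      · rw [Category.assoc, g1, sec_snd_assoc, Category.assoc, pullback.diagonal_fst,
          Category.comp_id]
      · rw [Category.assoc, g2, sec_fst, Category.assoc, pullback.diagonal_snd,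
          Category.comp_id]
    refine IsPullback.of_right ?_ hc sg.flip
    rw [sec_snd, pullback.diagonal_fst]
    exact IsPullback.of_horiz_isIso ⟨by rw [Category.id_comp, Category.comp_id]⟩
  -- the class of the diagonal
  have hdiag : cl δ cΔ = push hVs hWs (pullback.diagonal p) hΔ
      (pull hVs (isSetup_spec_field F) p hsV (cl (fun _ => 0) (one F))) := by
    rw [pull_cl_pullCycle, push_cl]
    congr 1
    apply DFunLike.coe_injective
    rw [hcΔ]
    subst hd
    exact (map_diagonal hV hΔ _ (coe_pullCycle hVs p hsV (one F))).symm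
  have hsyp : Shift (y ≫ p) (fun _ => 0) (fun _ => 0) 0 := shift_zero _ fun _ => rfl
  have hA : pull hPs hWs g hgs (cl δ cΔ) =
      gr (isSetup_spec_field F) (isSetup_spec_field K) hsyp h hP y rfl
        (cl (fun _ => 0) (one F)) := by
    rw [hdiag, pull_push hVs hWs (isSetup_spec_field K) hPs hsec hΔ (deltaCompat_sec h y rfl hP)
      hgs hys, pull_pull (isSetup_spec_field K) hVs (isSetup_spec_field F) y p hys hsV hsyp
      (by ring)]
    rfl
  have hB : pull hPs hWs g hgs (cl δ Γ₂) = 0 := by
    rw [pull_cl_pullCycle]
    have h3 : pullCycle hPs g hgs Γ₂ = 0 := by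
      apply DFunLike.coe_injective
      rw [coe_pullCycle]
      funext z
      rw [FlatLength.pullFun_apply]
      have h4 : Γ₂ (g z) = 0 := by
        by_contra h5
        have h6 := hsupp₂ _ h5
        have h7 : pullback.fst p p (g z) = genericPoint V := by
          rw [← Scheme.Hom.comp_apply, g1, Scheme.Hom.comp_apply, hy]
        rw [h7] at h6
        apply hDne
        rw [Set.eq_univ_iff_forall]
        intro w
        exact (genericPoint_specializes w).mem_closed hD h6
      rw [h4, zero_mul, ite_self]
      rfl
    rw [h3, map_zero]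
  have hC : pull hPs hWs g hgs (cl δ Γ₁) =
      bc (isSetup_spec_field F) (isSetup_spec_field K) hsyp hV h hP (cl δV β₀) := by
    have h3 : cl δ Γ₁ = pull hWs hVs (pullback.snd p p) hs2 (cl δV β₀) :=
      (pull_cl hWs hVs _ hs2 hβ₀).symm
    have hsP : Shift (g ≫ pullback.snd p p) δP δV 0 := by
      rw [g2]
      exact shift_of_isPullback h hsyp hV hP
    have hflg : Flat (g ≫ pullback.snd p p) := inferInstance
    rw [h3, pull_pull hPs hWs hVs g (pullback.snd p p) hgs hs2 hsP (by ring)]
    exact pull_congr hPs hVs g2 hsP (shift_of_isPullback h hsyp hV hP) _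
  have hfin := congrArg (pull hPs hWs g hgs) (cl_eq_of_ratEquiv hdec)
  rw [map_add, map_add, map_nsmul, map_nsmul, hA, hB, hC, add_zero] at hfin
  rw [← hfin]
  unfold gr
  rw [map_nsmul, map_nsmul]

end K309.DiagDec
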