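import Groth.Agent.Cyc.K309.Conn
import Groth.Agent.Cyc.K309.CurveStep
import Groth.Agent.Cyc.K309.ClosedPt
import Groth.Agent.Cyc.K309.Base

/-!
# Differences of closed points are divisible

`exists_div`: on a connected proper scheme over an algebraically closed field, the difference of two
closed points is, up to rational equivalence, `N` times a zero-cycle.
-/

set_option autoImplicit false
universe u
open AlgebraicGeometry CategoryTheory CategoryTheory.Limits TopologicalSpace Opposite Cyc
open Groth.Agent Groth.Agent.CycB Groth.Agent.CycB.RelDim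
open K308.Grp K309.Dvr
open Groth.Agent.CycB.SetupDVR

namespace K309.DivPt

variable {k : Type u} [Field k]

/-- Push forward of a closed point. -/
theorem map_single [IsAlgClosed k] {X Z : Scheme.{u}} [DecidableEq ↥X] [DecidableEq ↥Z]
    (q : Z ⟶ Spec (CommRingCat.of k)) [LocallyOfFiniteType q] [IsSeparated q]
    (p : X ⟶ Spec (CommRingCat.of k)) [LocallyOfFiniteType p] [IsSeparated p] (h : Z ⟶ X)
    [IsProper h] (hh : h ≫ p = q) {δZ : Z → ℤ} {δX : X → ℤ} (hZ : DeltaCompat q δZ (fun _ => 0))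
    (hX : DeltaCompat p δX (fun _ => 0)) (z : Z) (hz : IsClosed ({z} : Set Z)) :
    AlgebraicCycle.map h δZ δX (Function.locallyFinsuppWithin.single z (1 : ℤ)) =
      Function.locallyFinsuppWithin.single (h z) (1 : ℤ) := by
  have h1 : pointOfClosedPoint q z hz ≫ q = 𝟙 _ := pointOfClosedPoint_comp q z hz
  have h2 : IsClosedImmersion (pointOfClosedPoint q z hz) := isClosedImmersion_of_comp_eq_id _ _ h1
  have h3 : (pointOfClosedPoint q z hz ≫ h) ≫ p = 𝟙 _ := by rw [Category.assoc, hh, h1]
  have h4 : IsClosedImmersion (pointOfClosedPoint q z hz ≫ h) :=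
    isClosedImmersion_of_comp_eq_id _ _ h3
  have h0 : DeltaCompat (𝟙 (Spec (CommRingCat.of k))) (fun _ => 0) (fun _ => 0) :=
    K930.PushPull.deltaCompat_stalk (δY := fun _ => 0) (𝟙 (Spec (CommRingCat.of k)))
  have h5 : DeltaCompat (pointOfClosedPoint q z hz) (fun _ => 0) δZ := by
    refine K930.PushPull.deltaCompat_of_comp _ q ?_ hZ
    rw [h1]
    exact h0
  have h6 : DeltaCompat (pointOfClosedPoint q z hz ≫ h) (fun _ => 0) δX := by
    refine K930.PushPull.deltaCompat_of_comp _ p ?_ hX
    rw [h3]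
    exact h0
  have h7 : DeltaCompat h δZ δX := by
    refine K930.PushPull.deltaCompat_of_comp _ p ?_ hX
    rw [hh]
    exact hZ
  rw [← ClosedPt.map_point _ h5 z (fun a => pointOfClosedPoint_apply q z hz a),
    Push.map_map (fun _ => 0) δZ δX _ h h5 h7,
    ClosedPt.map_point _ h6 (h z) (fun a => congrArg h (pointOfClosedPoint_apply q z hz a))]

/-- Differences of closed points are divisible. -/
theorem exists_div [IsAlgClosed k] {X : Scheme.{u}} [DecidableEq ↥X]
    (p : X ⟶ Spec (CommRingCat.of k)) [IsProper p] [ConnectedSpace X] {δ : X → ℤ}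
    (hδ : DeltaCompat p δ (fun _ => 0)) {N : ℕ} (hN : 1 ≤ N) (x y : X)
    (hx : IsClosed ({x} : Set X)) (hy : IsClosed ({y} : Set X)) :
    ∃ α' ∈ Zk X δ 0, cl δ (Function.locallyFinsuppWithin.single x (1 : ℤ) -
        Function.locallyFinsuppWithin.single y (1 : ℤ)) = N • cl δ α' := by
  classical
  refine Conn.rel k p (fun x y => ∃ α' ∈ Zk X δ 0,
    cl δ (Function.locallyFinsuppWithin.single x (1 : ℤ) -
        Function.locallyFinsuppWithin.single y (1 : ℤ)) = N • cl δ α') (fun x => ?_)
    (fun x y z => ?_) ?_ x y hx hy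
  · refine ⟨0, fun _ _ => rfl, ?_⟩
    rw [sub_self, map_zero, smul_zero]
  · rintro ⟨a, ha, ha'⟩ ⟨b, hb, hb'⟩
    refine ⟨a + b, (ChowOps.zk X δ 0).add_mem ha hb, ?_⟩
    rw [map_add, smul_add, ← ha', ← hb', ← map_add, sub_add_sub_cancel]
  · intro Z q hq hZi hqs hdim h hh z₁ z₂ hz₁ hz₂
    obtain ⟨δZ, hZ⟩ := SetupLft.exists_deltaCompat q (fun _ => 0)
    have hpr : IsProper h := by
      have : IsProper (h ≫ p) := by rw [hh]; exact hq
      exact IsProper.of_comp h p
    have h7 : DeltaCompat h δZ δ := by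
      refine K930.PushPull.deltaCompat_of_comp _ p ?_ hδ
      rw [hh]
      exact hZ
    have sZ : IsSetup Z δZ := SetupLft.isSetup_of_deltaCompat q (isSetup_spec_field k) hZ
    have sX : IsSetup X δ := SetupLft.isSetup_of_deltaCompat p (isSetup_spec_field k) hδ
    obtain ⟨β, hβ, he⟩ := CurveStep.curve_step q hdim hZ hN z₁ z₂ hz₁ hz₂
    refine ⟨AlgebraicCycle.map h δZ δ β, Base.map_mem_Zk h hβ, ?_⟩
    have h8 := congrArg (push sZ sX h h7) he
    rw [map_nsmul, map_sub, map_sub, push_cl, push_cl, push_cl, map_single q p h hh hZ hδ z₁ hz₁,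
      map_single q p h hh hZ hδ z₂ hz₂, ← map_sub] at h8
    exact h8

end K309.DivPt
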