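import Groth.Agent.Cyc.K309.Bc

/-!
# Field extensions and discrete valuation rings

* `ZeroAt f hδ x φ`: the class `x` on `X/k` becomes zero after the extension `φ : k → K`;
* `ZeroAt.dvr`: for a DVR `R` over `k`, vanishing over `Frac R` implies vanishing over the residue
  field;
* `ZeroAt.up`, `zeroAt_id`.
-/

set_option autoImplicit false
universe u
open AlgebraicGeometry CategoryTheory CategoryTheory.Limits TopologicalSpace Opposite Cyc
open Groth.Agent Groth.Agent.CycB Groth.Agent.CycB.GysinCl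
open K305.StructCap K308.Grp K309.Gys K309.ZeroFun K309.Bc

namespace K309.Dvr

open Groth.Agent.CycB.SetupDVR

theorem flat_spec_of_field {k : Type u} [Field k] {R : CommRingCat.{u}}
    (φ : CommRingCat.of k ⟶ R) : Flat (Spec.map φ) := by
  rw [HasRingHomProperty.Spec_iff (P := @Flat)]
  let _ := φ.hom.toAlgebra
  exact (inferInstance : Module.Flat k R)

theorem shift_zero {K : Type u} [Field K] {S : Scheme.{u}} {δS : S → ℤ}
    (g : Spec (CommRingCat.of K) ⟶ S) (h : ∀ x, δS (g x) = 0) :
    Shift g (fun _ => 0) δS 0 := fun x _ => by rw [h x, add_zero]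

section ZeroAt

variable {k : Type u} [Field k] {X : Scheme.{u}} (f : X ⟶ Spec (CommRingCat.of k))
  [LocallyOfFiniteType f] {δ : X → ℤ} (hδ : DeltaCompat f δ (fun _ => 0))

/-- The base change of Chow groups along a field extension. -/
noncomputable def bcF {K : Type u} [Field K] (φ : k →+* K) {P : Scheme.{u}} {p : P ⟶ X}
    {q : P ⟶ Spec (CommRingCat.of K)} {δP : P → ℤ}
    (h : IsPullback p q f (Spec.map (CommRingCat.ofHom φ)))
    (hP : DeltaCompat q δP (fun _ => 0)) : G X δ →+ G P δP :=
  haveI := flat_spec_of_field (CommRingCat.ofHom φ)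
  bc (isSetup_spec_field k) (isSetup_spec_field K) (shift_zero _ fun _ => rfl) hδ h hP

/-- The class `x` becomes zero over the extension `φ`. -/
def ZeroAt (x : G X δ) {K : Type u} [Field K] (φ : k →+* K) : Prop :=
  ∀ (P : Scheme.{u}) (p : P ⟶ X) (q : P ⟶ Spec (CommRingCat.of K)) (δP : P → ℤ)
    (h : IsPullback p q f (Spec.map (CommRingCat.ofHom φ)))
    (hP : DeltaCompat q δP (fun _ => 0)), bcF f hδ φ h hP x = 0

variable {f hδ}

theorem zeroAt_of {x : G X δ} {K : Type u} [Field K] {φ : k →+* K} {P : Scheme.{u}} {p : P ⟶ X}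
    {q : P ⟶ Spec (CommRingCat.of K)} {δP : P → ℤ}
    (h : IsPullback p q f (Spec.map (CommRingCat.ofHom φ)))
    (hP : DeltaCompat q δP (fun _ => 0)) (hx : bcF f hδ φ h hP x = 0) : ZeroAt f hδ x φ := by
  intro P' p' q' δP' h' hP'
  have := flat_spec_of_field (CommRingCat.ofHom φ)
  exact bc_eq_zero_of _ _ _ _ h hP h' hP' x hx

theorem exists_square {K : Type u} [Field K] (f : X ⟶ Spec (CommRingCat.of k))
    [LocallyOfFiniteType f] (φ : k →+* K) : ∃ (P : Scheme.{u}) (p : P ⟶ X)
      (q : P ⟶ Spec (CommRingCat.of K)) (δP : P → ℤ),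
      IsPullback p q f (Spec.map (CommRingCat.ofHom φ)) ∧ DeltaCompat q δP (fun _ => 0) := by
  obtain ⟨δP, hδP⟩ := SetupLft.exists_deltaCompat
    (pullback.snd f (Spec.map (CommRingCat.ofHom φ))) (fun _ => 0)
  exact ⟨_, _, _, δP, IsPullback.of_hasPullback _ _, hδP⟩

theorem ZeroAt.up {x : G X δ} {K L : Type u} [Field K] [Field L] {φ : k →+* K} {ψ : K →+* L}
    {χ : k →+* L} (hχ : ψ.comp φ = χ) (hx : ZeroAt f hδ x φ) : ZeroAt f hδ x χ := by
  have h1 := flat_spec_of_field (CommRingCat.ofHom φ)
  have h2 := flat_spec_of_field (CommRingCat.ofHom ψ)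
  have h3 := flat_spec_of_field (CommRingCat.ofHom χ)
  obtain ⟨P, p, q, δP, h, hP⟩ := exists_square f φ
  have := lft_of_isPullback h
  obtain ⟨P', p', q', δP', h', hP'⟩ := exists_square q ψ
  have h'' : IsPullback (p' ≫ p) q' f (Spec.map (CommRingCat.ofHom χ)) := by
    have h4 := h'.paste_horiz h
    rwa [← Spec.map_comp, ← CommRingCat.ofHom_comp, hχ] at h4
  refine zeroAt_of h'' hP' ?_
  have h5 := bc_bc (isSetup_spec_field k) (isSetup_spec_field K) (isSetup_spec_field L)
    (shift_zero _ fun _ => rfl) (shift_zero _ fun _ => rfl) (shift_zero _ fun _ => rfl) hδ h hP h'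
    h'' hP' rfl (by ring) x
  have h6 := hx P p q δP h hP
  unfold bcF at h6 ⊢
  rw [← h5, h6, map_zero]

theorem zeroAt_id_iff {x : G X δ} : ZeroAt f hδ x (RingHom.id k) ↔ x = 0 := by
  have h : IsPullback (𝟙 X) f f (Spec.map (CommRingCat.ofHom (RingHom.id k))) := by
    have e : Spec.map (CommRingCat.ofHom (RingHom.id k)) = 𝟙 _ := by
      rw [CommRingCat.ofHom_id, Spec.map_id]
    rw [e]
    exact IsPullback.of_horiz_isIso ⟨by rw [Category.id_comp, Category.comp_id]⟩
  have hXs : IsSetup X δ := SetupLft.isSetup_of_deltaCompat f (isSetup_spec_field k) hδ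
  have h1 : ∀ y : G X δ, bcF f hδ (RingHom.id k) h hδ y = y := by
    intro y
    obtain ⟨α, rfl⟩ := cl_surjective δ y
    have := flat_spec_of_field (CommRingCat.ofHom (RingHom.id k))
    refine bc_cl _ _ _ _ h hδ ?_
    funext z
    have h2 := K930.OpenImm.pullFun_open (𝟙 X) (δU := δ) (δX := δ)
      (K930.PushPull.deltaCompat_stalk (𝟙 X)) ⇑α z
    exact h2.symm
  constructor
  · intro hx
    rw [← h1 x]
    exact hx _ _ _ _ h hδ
  · intro hx
    exact zeroAt_of h hδ (by rw [h1, hx])

theorem ZeroAt.add {x y : G X δ} {K : Type u} [Field K] {φ : k →+* K} (hx : ZeroAt f hδ x φ)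
    (hy : ZeroAt f hδ y φ) : ZeroAt f hδ (x + y) φ := fun P p q δP h hP => by
  rw [map_add, hx P p q δP h hP, hy P p q δP h hP, add_zero]

theorem ZeroAt.zsmul {x : G X δ} {K : Type u} [Field K] {φ : k →+* K} (hx : ZeroAt f hδ x φ)
    (n : ℤ) : ZeroAt f hδ (n • x) φ := fun P p q δP h hP => by
  rw [map_zsmul, hx P p q δP h hP, smul_zero]

end ZeroAt

section DVR

variable (R : Type u) [CommRing R] [IsDomain R] [IsDiscreteValuationRing R]
  (K : Type u) [Field K] [Algebra R K] [IsFractionRing R K]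
  (κ : Type u) [Field κ] [Algebra R κ]

theorem isLocalizationAway (t : R) (ht : Irreducible t) : IsLocalization.Away t K := by
  refine (IsLocalization.iff_of_le_of_exists_dvd (M := Submonoid.powers t) (S := K)
    (nonZeroDivisors R) ?_ ?_).2 inferInstance
  · rw [Submonoid.powers_le]
    exact mem_nonZeroDivisors_of_ne_zero ht.ne_zero
  · intro n hn
    obtain ⟨k, hk⟩ := IsDiscreteValuationRing.associated_pow_irreducible
      (nonZeroDivisors.ne_zero hn) ht
    exact ⟨t ^ k, ⟨k, rfl⟩, hk.dvd⟩

theorem isOpenImmersion_fractionRing :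
    IsOpenImmersion (Spec.map (CommRingCat.ofHom (algebraMap R K))) := by
  obtain ⟨t, ht⟩ := IsDiscreteValuationRing.exists_irreducible R
  have := isLocalizationAway R K t ht
  exact IsOpenImmersion.of_isLocalization t

variable {κ}

omit [IsDomain R] [IsDiscreteValuationRing R] in
theorem isClosedImmersion_residue (hκ : Function.Surjective (algebraMap R κ)) :
    IsClosedImmersion (Spec.map (CommRingCat.ofHom (algebraMap R κ))) :=
  IsClosedImmersion.spec_of_surjective _ hκ

omit [IsDomain R] [IsDiscreteValuationRing R] in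
theorem ker_residue [IsLocalRing R] (hκ : Function.Surjective (algebraMap R κ)) :
    RingHom.ker (algebraMap R κ) = IsLocalRing.maximalIdeal R :=
  IsLocalRing.eq_maximalIdeal (RingHom.ker_isMaximal_of_surjective _ hκ)

theorem apply_residue (hκ : Function.Surjective (algebraMap R κ))
    (x : ↥(Spec (CommRingCat.of κ))) :
    Spec.map (CommRingCat.ofHom (algebraMap R κ)) x = IsLocalRing.closedPoint R := by
  have h1 : x = (⊥ : PrimeSpectrum κ) := Subsingleton.elim (α := PrimeSpectrum κ) _ _
  subst h1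
  apply PrimeSpectrum.ext
  exact ker_residue R hκ

theorem apply_fraction (x : ↥(Spec (CommRingCat.of K))) :
    Spec.map (CommRingCat.ofHom (algebraMap R K)) x ≠ IsLocalRing.closedPoint R := by
  have h1 : x = (⊥ : PrimeSpectrum K) := Subsingleton.elim (α := PrimeSpectrum K) _ _
  subst h1
  intro h
  have h2 := congrArg PrimeSpectrum.asIdeal h
  have h3 : RingHom.ker (algebraMap R K) = IsLocalRing.maximalIdeal R := h2
  rw [(RingHom.injective_iff_ker_eq_bot _).1 (IsFractionRing.injective R K)] at h3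
  exact IsDiscreteValuationRing.not_a_field R h3.symm

theorem range_compl (hκ : Function.Surjective (algebraMap R κ)) :
    Set.range ⇑(Spec.map (CommRingCat.ofHom (algebraMap R K))) =
      (Set.range ⇑(Spec.map (CommRingCat.ofHom (algebraMap R κ))))ᶜ := by
  ext y
  constructor
  · rintro ⟨x, rfl⟩ ⟨z, hz⟩
    rw [apply_residue R hκ] at hz
    exact apply_fraction R K x hz.symm
  · intro hy
    have hy' : y ≠ IsLocalRing.closedPoint R := fun h =>
      hy ⟨(⊥ : PrimeSpectrum κ), (apply_residue R hκ _).trans h.symm⟩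
    refine ⟨(⊥ : PrimeSpectrum K), ?_⟩
    rw [SpDVR.eq_genericPoint_of_ne R y hy']
    exact SpDVR.eq_genericPoint_of_ne R _ (apply_fraction R K _)

theorem shift_dvr {S : Scheme.{u}} (g : Spec (CommRingCat.of R) ⟶ S) {δS : S → ℤ}
    (hS : ∀ x, δS (g x) = 0) (hg : ∀ x y, g x = g y) : Shift g (dR R) δS 1 := by
  intro x hx
  rw [hS, zero_add]
  have h1 : genericPoint ↥(Spec (CommRingCat.of R)) = x :=
    hx _ (hg _ _) (genericPoint_specializes x)
  rw [← h1, dR_genericPoint]

theorem shift_fraction : Shift (Spec.map (CommRingCat.ofHom (algebraMap R K)))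
    (fun _ => 0) (dR R) (-1) := by
  intro x _
  rw [SpDVR.eq_genericPoint_of_ne R _ (apply_fraction R K x), dR_genericPoint]
  norm_num

theorem deltaCompat_residue (hκ : Function.Surjective (algebraMap R κ)) :
    DeltaCompat (Spec.map (CommRingCat.ofHom (algebraMap R κ))) (fun _ => 0) (dR R) := by
  have := isClosedImmersion_residue R hκ
  have h1 : (fun _ => 0 : ↥(Spec (CommRingCat.of κ)) → ℤ) =
      fun x => dR R (Spec.map (CommRingCat.ofHom (algebraMap R κ)) x) := by
    funext x
    rw [apply_residue R hκ, dR_closedPoint]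
  rw [h1]
  exact K930.PushPull.deltaCompat_stalk _

omit [IsDiscreteValuationRing R] in
theorem regular_uniformizer (t : R) (ht : t ≠ 0) (x : ↥(Spec (CommRingCat.of R))) :
    IsSMulRegular ((Spec (CommRingCat.of R)).presheaf.stalk x)
      ((Spec (CommRingCat.of R)).presheaf.germ ⊤ x trivial
        ((Scheme.ΓSpecIso (CommRingCat.of R)).inv t)) := by
  have h0 : (Spec (CommRingCat.of R)).presheaf.germ ⊤ x trivial
        ((Scheme.ΓSpecIso (CommRingCat.of R)).inv t) ≠ 0 := by
    intro h
    have h1 := (map_eq_zero_iff ((Spec (CommRingCat.of R)).presheaf.germ ⊤ x trivial).hom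
      (germ_injective_of_isIntegral _ (U := ⊤) x trivial)).1 h
    have h2 := (map_eq_zero_iff (Scheme.ΓSpecIso (CommRingCat.of R)).inv.hom
      (ConcreteCategory.bijective_of_isIso (Scheme.ΓSpecIso (CommRingCat.of R)).inv).1).1 h1
    exact ht h2
  intro a b hab
  exact mul_left_cancel₀ h0 hab

variable {R K}

/-- **Specialisation along a discrete valuation ring.** -/
theorem ZeroAt.dvr {k : Type u} [Field k] {X : Scheme.{u}} {f : X ⟶ Spec (CommRingCat.of k)}
    [LocallyOfFiniteType f] {δ : X → ℤ} {hδ : DeltaCompat f δ (fun _ => 0)} {x : G X δ}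
    (ρ : k →+* R) (hκ : Function.Surjective (algebraMap R κ))
    (hx : ZeroAt f hδ x ((algebraMap R K).comp ρ)) :
    ZeroAt f hδ x ((algebraMap R κ).comp ρ) := by
  obtain ⟨t, ht⟩ := IsDiscreteValuationRing.exists_irreducible R
  have i1 := isOpenImmersion_fractionRing R K
  have i2 := isClosedImmersion_residue R hκ
  have i3 := flat_spec_of_field (CommRingCat.ofHom ((algebraMap R K).comp ρ))
  have i4 := flat_spec_of_field (CommRingCat.ofHom ((algebraMap R κ).comp ρ))
  have i5 := flat_spec_of_field (CommRingCat.ofHom ρ)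
  have i6 : Flat f := inferInstance
  intro P p q δP h hP
  obtain ⟨δU, hδU⟩ := SetupLft.exists_deltaCompat
    (pullback.snd f (Spec.map (CommRingCat.ofHom ((algebraMap R K).comp ρ)))) (fun _ => 0)
  obtain ⟨δT, hδT⟩ := SetupLft.exists_deltaCompat
    (pullback.snd f (Spec.map (CommRingCat.ofHom ρ))) (dR R)
  have hker : RingHom.ker (CommRingCat.ofHom (algebraMap R κ)).hom = Ideal.span {t} := by
    rw [CommRingCat.hom_ofHom, ker_residue R hκ]
    exact ht.maximalIdeal_eq
  refine bc_specialise (range_compl R K hκ) (vanFun_spec (CommRingCat.ofHom (algebraMap R κ)) hκ t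
    hker) (regular_uniformizer R t ht.ne_zero)
    (gT := Spec.map (CommRingCat.ofHom ρ)) ?_ ?_ (isSetup_spec_field k) (isSetup_spec_dvr R)
    (isSetup_spec_field κ) (isSetup_spec_field K) (cT := 1) (c₀ := 0) (cU := 0) (cj := -1)
    (by norm_num) (by norm_num) (shift_dvr R _ (fun _ => rfl)
      (fun x y => Subsingleton.elim (α := PrimeSpectrum k) _ _))
    (shift_zero _ fun _ => rfl) (shift_zero _ fun _ => rfl)
    (deltaCompat_residue R hκ) (shift_fraction R K) hδ (IsPullback.of_hasPullback _ _) hδT h hP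
    (IsPullback.of_hasPullback _ _) hδU x (hx _ _ _ _ (IsPullback.of_hasPullback _ _) hδU)
  · rw [← Spec.map_comp, ← CommRingCat.ofHom_comp]
  · rw [← Spec.map_comp, ← CommRingCat.ofHom_comp]

end DVR

end K309.Dvr
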