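import Mathlib.AlgebraicGeometry.Scheme
import Mathlib.RingTheory.DiscreteValuationRing.TFAE
import Mathlib.RingTheory.LocalRing.ResidueField.Ideal
import Mathlib.RingTheory.KrullDimension.NonZeroDivisors
import Groth.Agent.Ega4A.RegDer
import Groth.Agent.S0558

/-!
# Going from the fraction field of a regular local ring to its residue field through DVRs
-/

set_option autoImplicit false
universe u
open AlgebraicGeometry CategoryTheory IsLocalRing

namespace K309.RegChain

theorem isDVR_atPrime {A : Type u} [CommRing A] [IsDomain A] [IsNoetherianRing A] (t : A)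
    (ht : t ≠ 0) [hp : (Ideal.span {t}).IsPrime] :
    IsDiscreteValuationRing (Localization.AtPrime (Ideal.span {t})) := by
  have h1 : maximalIdeal (Localization.AtPrime (Ideal.span {t})) =
      Ideal.span {algebraMap A _ t} := by
    rw [← Localization.AtPrime.map_eq_maximalIdeal, Ideal.map_span, Set.image_singleton]
  have hinj : Function.Injective (algebraMap A (Localization.AtPrime (Ideal.span {t}))) :=
    IsLocalization.injective _ (Ideal.primeCompl_le_nonZeroDivisors (Ideal.span {t}))
  have hnf : ¬ IsField (Localization.AtPrime (Ideal.span {t})) := by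
    rw [isField_iff_maximalIdeal_eq, h1, Ideal.span_singleton_eq_bot]
    exact fun h => ht ((map_eq_zero_iff _ hinj).1 h)
  exact ((IsDiscreteValuationRing.TFAE (Localization.AtPrime (Ideal.span {t})) hnf).out 0 4).2
    (⟨⟨algebraMap A _ t, h1⟩⟩ : (maximalIdeal _).IsPrincipal)

theorem lift_comp {A K L : Type u} [CommRing A] [IsDomain A] [Field K] [Field L] [Algebra A K]
    [IsFractionRing A K] {g : A →+* L} (hg : Function.Injective g) :
    (IsFractionRing.lift hg : K →+* L).comp (algebraMap A K) = g :=
  RingHom.ext fun a => IsFractionRing.lift_algebraMap hg a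

theorem isField_of_forall {A : Type u} [CommRing A] [IsLocalRing A] [IsNoetherianRing A]
    (h : ∀ t ∈ maximalIdeal A, t ∈ maximalIdeal A ^ 2) : IsField A := by
  rw [isField_iff_maximalIdeal_eq]
  have h1 : maximalIdeal A ≤ maximalIdeal A • maximalIdeal A := by
    intro t ht
    have := h t ht
    rwa [pow_two, ← smul_eq_mul] at this
  exact Submodule.eq_bot_of_le_smul_of_le_jacobson_bot (maximalIdeal A) (maximalIdeal A)
    (IsNoetherian.noetherian _) h1 (IsLocalRing.maximalIdeal_le_jacobson _)

variable {W : Scheme.{u}} (P : ∀ (K : Type u) [Field K], (Spec (CommRingCat.of K) ⟶ W) → Prop)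

theorem regular_induction
    (up : ∀ (K L : Type u) [Field K] [Field L] (ψ : K →+* L) (x : Spec (CommRingCat.of K) ⟶ W),
      P K x → P L (Spec.map (CommRingCat.ofHom ψ) ≫ x))
    (dvr : ∀ (R : Type u) [CommRing R] [IsDomain R] [IsDiscreteValuationRing R]
      (K : Type u) [Field K] [Algebra R K] [IsFractionRing R K] (κ : Type u) [Field κ]
      [Algebra R κ] (_ : Function.Surjective (algebraMap R κ)) (x : Spec (CommRingCat.of R) ⟶ W),
      P K (Spec.map (CommRingCat.ofHom (algebraMap R K)) ≫ x) →
        P κ (Spec.map (CommRingCat.ofHom (algebraMap R κ)) ≫ x))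
    (n : ℕ) : ∀ (A : Type u) [CommRing A] [IsRegularLocalRing A] (_ : ringKrullDim A < n)
      (K : Type u) [Field K] [Algebra A K] [IsFractionRing A K] (κ : Type u) [Field κ]
      [Algebra A κ] (_ : Function.Surjective (algebraMap A κ)) (x : Spec (CommRingCat.of A) ⟶ W),
      P K (Spec.map (CommRingCat.ofHom (algebraMap A K)) ≫ x) →
        P κ (Spec.map (CommRingCat.ofHom (algebraMap A κ)) ≫ x) := by
  induction n with
  | zero =>
    intro A _ _ hd
    exact absurd (ringKrullDim_nonneg_of_nontrivial (R := A)) (not_le.2 hd)
  | succ n ih =>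
    intro A _ _ hd K _ _ _ κ _ _ hκ x hx
    have := Groth.Agent.S0558.result A
    by_cases hm : ∃ t ∈ maximalIdeal A, t ∉ maximalIdeal A ^ 2
    · obtain ⟨t, ht, ht2⟩ := hm
      have ht0 : t ≠ 0 := by
        rintro rfl
        exact ht2 (zero_mem _)
      have hreg := Groth.Agent.Ega4A.RegDer.isRegularLocalRing_quotient_of_notMem_sq ht ht2
      have hdom : IsDomain (A ⧸ Ideal.span {t}) := Groth.Agent.S0558.result _
      have hp : (Ideal.span {t}).IsPrime := (Ideal.Quotient.isDomain_iff_prime _).1 hdom
      have hR := isDVR_atPrime t ht0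
      -- to the fraction field of the localization
      have hinj : Function.Injective (algebraMap A
          (FractionRing (Localization.AtPrime (Ideal.span {t})))) := by
        rw [IsScalarTower.algebraMap_eq A (Localization.AtPrime (Ideal.span {t}))
          (FractionRing (Localization.AtPrime (Ideal.span {t})))]
        exact (IsFractionRing.injective (Localization.AtPrime (Ideal.span {t})) _).comp
          (IsLocalization.injective (Localization.AtPrime (Ideal.span {t}))
            (Ideal.primeCompl_le_nonZeroDivisors (Ideal.span {t})))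
      have h1 := up K _ (IsFractionRing.lift hinj) _ hx
      rw [← Category.assoc, ← Spec.map_comp, ← CommRingCat.ofHom_comp, lift_comp hinj,
        IsScalarTower.algebraMap_eq A
        (Localization.AtPrime (Ideal.span {t})) (FractionRing (Localization.AtPrime
        (Ideal.span {t}))), CommRingCat.ofHom_comp, Spec.map_comp, Category.assoc] at h1
      have h2 := dvr _ _ (Ideal.ResidueField (Ideal.span {t}))
        IsLocalRing.residue_surjective _ h1
      rw [← Category.assoc, ← Spec.map_comp, ← CommRingCat.ofHom_comp] at h2
      -- the algebra structure of `κ` over the quotient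
      have hker : Ideal.span {t} ≤ RingHom.ker (algebraMap A κ) := by
        have h3 : RingHom.ker (algebraMap A κ) = maximalIdeal A :=
          IsLocalRing.eq_maximalIdeal (RingHom.ker_isMaximal_of_surjective _ hκ)
        rw [h3, Ideal.span_singleton_le_iff_mem]
        exact ht
      let _ : Algebra (A ⧸ Ideal.span {t}) κ :=
        (Ideal.Quotient.lift (Ideal.span {t}) (algebraMap A κ) fun a ha => hker ha).toAlgebra
      have hlift : (algebraMap (A ⧸ Ideal.span {t}) κ).comp (Ideal.Quotient.mk (Ideal.span {t})) =
          algebraMap A κ := RingHom.ext fun a => rfl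
      have hsurj : Function.Surjective (algebraMap (A ⧸ Ideal.span {t}) κ) := by
        intro y
        obtain ⟨a, rfl⟩ := hκ y
        exact ⟨Ideal.Quotient.mk _ a, rfl⟩
      have hdim : ringKrullDim (A ⧸ Ideal.span {t}) < n := by
        have h4 := ringKrullDim_quotient_succ_le_of_nonZeroDivisor
          (mem_nonZeroDivisors_of_ne_zero ht0)
        have h5 := h4.trans_lt hd
        push_cast at h5
        exact lt_of_add_lt_add_right h5
      have h6 := ih (A ⧸ Ideal.span {t}) hdim (Ideal.ResidueField (Ideal.span {t})) κ hsurj
        (Spec.map (CommRingCat.ofHom (Ideal.Quotient.mk (Ideal.span {t}))) ≫ x) (by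
          rw [← Category.assoc, ← Spec.map_comp, ← CommRingCat.ofHom_comp]
          exact h2)
      rwa [← Category.assoc, ← Spec.map_comp, ← CommRingCat.ofHom_comp, hlift] at h6
    · push Not at hm
      have hf : IsField A := isField_of_forall hm
      have hinj : Function.Injective (algebraMap A κ) := by
        let _ := hf.toField
        exact (algebraMap A κ).injective
      have h1 := up K κ (IsFractionRing.lift hinj) _ hx
      rwa [← Category.assoc, ← Spec.map_comp, ← CommRingCat.ofHom_comp, lift_comp hinj] at h1

end K309.RegChain
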