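import Groth.Agent.Cyc.K309.Dvr
import Groth.Agent.Cyc.K309.RegChain
import Groth.Agent.S1868
import Mathlib.AlgebraicGeometry.Morphisms.FlatRank

/-!
# Descent of rational equivalence along field extensions

* `ZeroAt.regular`: regular local rings;
* `Tor ψ`: classes killed by the field extension `ψ` are torsion;
* `tor_comp`, `tor_finite`, `tor_of_surjective`, `tor_fg`.
-/

set_option autoImplicit false
universe u
open AlgebraicGeometry CategoryTheory CategoryTheory.Limits TopologicalSpace Opposite Cyc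
open Groth.Agent Groth.Agent.CycB
open K308.Grp K309.Gys K309.Bc K309.Dvr
open Groth.Agent.CycB.SetupDVR

namespace K309.FieldExt

theorem spec_preimage_comp {k K L : Type u} [CommRing k] [CommRing K] [CommRing L] (ψ : K →+* L)
    (x : Spec (CommRingCat.of K) ⟶ Spec (CommRingCat.of k)) :
    (Spec.preimage (Spec.map (CommRingCat.ofHom ψ) ≫ x)).hom =
      ψ.comp (Spec.preimage x).hom := by
  have : Spec.preimage (Spec.map (CommRingCat.ofHom ψ) ≫ x) =
      Spec.preimage x ≫ CommRingCat.ofHom ψ := by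
    apply Spec.map_injective
    rw [Spec.map_preimage, Spec.map_comp, Spec.map_preimage]
  rw [this]
  rfl

/-- Vanishing over the fraction field of a regular local ring implies vanishing over the residue
field. -/
theorem ZeroAt.regular {k : Type u} [Field k] {X : Scheme.{u}} {f : X ⟶ Spec (CommRingCat.of k)}
    [LocallyOfFiniteType f] {δ : X → ℤ} {hδ : DeltaCompat f δ (fun _ => 0)} {a : G X δ}
    {A : Type u} [CommRing A] [IsRegularLocalRing A] (ρ : k →+* A)
    {K : Type u} [Field K] [Algebra A K] [IsFractionRing A K] {κ : Type u} [Field κ]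
    [Algebra A κ] (hκ : Function.Surjective (algebraMap A κ))
    (hx : ZeroAt f hδ a ((algebraMap A K).comp ρ)) :
    ZeroAt f hδ a ((algebraMap A κ).comp ρ) := by
  obtain ⟨n, hn⟩ : ∃ n : ℕ, ringKrullDim A < n := by
    have h1 : ringKrullDim A < ⊤ := ringKrullDim_lt_top
    have h2 : (0 : WithBot ℕ∞) ≤ ringKrullDim A := ringKrullDim_nonneg_of_nontrivial
    obtain ⟨a, ha⟩ := WithBot.ne_bot_iff_exists.1 (ne_of_gt (lt_of_lt_of_le (WithBot.bot_lt_coe _)
      h2))
    rw [← ha] at h1
    obtain ⟨m, hm⟩ := ENat.ne_top_iff_exists.1 (WithBot.coe_lt_coe.1 h1).ne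
    exact ⟨m + 1, by rw [← ha, ← hm]; exact_mod_cast Nat.lt_succ_self m⟩
  have h := RegChain.regular_induction (W := Spec (CommRingCat.of k))
    (fun K _ x => ZeroAt f hδ a (Spec.preimage x).hom) ?_ ?_ n A hn K κ hκ
    (Spec.map (CommRingCat.ofHom ρ)) ?_
  · rwa [spec_preimage_comp, Spec.preimage_map] at h
  · intro K L _ _ ψ x h
    exact ZeroAt.up (spec_preimage_comp ψ x).symm h
  · intro R _ _ _ K _ _ _ κ _ _ hκ x h
    rw [spec_preimage_comp] at h ⊢
    exact ZeroAt.dvr _ hκ h
  · rwa [spec_preimage_comp, Spec.preimage_map]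

/-! ### finite flat morphisms -/

theorem push_pull_finite {X Y : Scheme.{u}} {δX : X → ℤ} {δY : Y → ℤ} (hX : IsSetup X δX)
    (hY : IsSetup Y δY) (f : X ⟶ Y) [IsFinite f] [Flat f] (d : ℕ) (hd : ∀ y : Y, f.finrank y = d)
    (hδ : DeltaCompat f δX δY) (hs : Shift f δX δY 0) (y : G Y δY) :
    push hX hY f hδ (pull hX hY f hs y) = d • y := by
  obtain ⟨α, rfl⟩ := cl_surjective δY y
  rw [pull_cl_pullCycle, push_cl, ← map_nsmul, cl_eq_iff']
  intro k
  have h1 := (Groth.Agent.S1868.result X Y δX δY hX hY f d hd hδ k).2 (part δY k α)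
    (part_mem _ _ _) (part δX k (pullCycle hX f hs α)) (by
      have h2 := part_pull (coe_pullCycle hX f hs α) k
      rwa [add_zero] at h2)
  rw [part_map, h1]
  have h3 : part δY k (d • α) = d • part δY k α := by
    ext x
    rw [part_apply, Function.locallyFinsuppWithin.coe_nsmul,
      Function.locallyFinsuppWithin.coe_nsmul, Pi.smul_apply, Pi.smul_apply, part_apply]
    split_ifs
    · rfl
    · rw [smul_zero]
  rw [h3]
  exact DivFun.ratEquiv_refl _

/-- Classes killed by the extension are torsion. -/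
def Tor {k K : Type u} [Field k] [Field K] (ψ : k →+* K) : Prop :=
  ∀ (X : Scheme.{u}) (f : X ⟶ Spec (CommRingCat.of k)) [LocallyOfFiniteType f] (δ : X → ℤ)
    (hδ : DeltaCompat f δ (fun _ => 0)) (x : G X δ), ZeroAt f hδ x ψ → ∃ m : ℤ, m ≠ 0 ∧ m • x = 0

theorem tor_comp {k K L : Type u} [Field k] [Field K] [Field L] {φ : k →+* K} {ψ : K →+* L}
    (hφ : Tor φ) (hψ : Tor ψ) : Tor (ψ.comp φ) := by
  intro X f _ δ hδ x hx
  have h1 := flat_spec_of_field (CommRingCat.ofHom φ)
  have h2 := flat_spec_of_field (CommRingCat.ofHom ψ)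
  have h3 := flat_spec_of_field (CommRingCat.ofHom (ψ.comp φ))
  obtain ⟨P, p, q, δP, h, hP⟩ := exists_square f φ
  have := lft_of_isPullback h
  obtain ⟨m, hm, hmx⟩ := hψ P q δP hP (bcF f hδ φ h hP x) (by
    intro P' p' q' δP' h' hP'
    have h'' : IsPullback (p' ≫ p) q' f (Spec.map (CommRingCat.ofHom (ψ.comp φ))) := by
      have h4 := h'.paste_horiz h
      rwa [← Spec.map_comp, ← CommRingCat.ofHom_comp] at h4
    have h5 := bc_bc (isSetup_spec_field k) (isSetup_spec_field K) (isSetup_spec_field L)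
      (shift_zero _ fun _ => rfl) (shift_zero _ fun _ => rfl) (shift_zero _ fun _ => rfl) hδ h hP
      h' h'' hP' rfl (by ring) x
    have h6 := hx _ _ _ _ h'' hP'
    unfold bcF at h6 ⊢
    rw [h5, h6])
  obtain ⟨m', hm', hmx'⟩ := hφ X f δ hδ (m • x) (zeroAt_of h hP (by rw [map_zsmul, hmx]))
  exact ⟨m' * m, mul_ne_zero hm' hm, by rw [mul_smul, hmx']⟩

theorem tor_of_retract {k K : Type u} [Field k] [Field K] {φ : k →+* K}
    (h : ∀ (X : Scheme.{u}) (f : X ⟶ Spec (CommRingCat.of k)) [LocallyOfFiniteType f] (δ : X → ℤ)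
      (hδ : DeltaCompat f δ (fun _ => 0)) (x : G X δ), ZeroAt f hδ x φ →
        ZeroAt f hδ x (RingHom.id k)) : Tor φ :=
  fun X f _ δ hδ x hx => ⟨1, one_ne_zero, by rw [one_smul]; exact zeroAt_id_iff.1 (h X f δ hδ x hx)⟩

theorem tor_of_bijective {k K : Type u} [Field k] [Field K] (φ : k →+* K)
    (hφ : Function.Bijective φ) : Tor φ :=
  tor_of_retract fun X f _ δ hδ x hx => by
    refine ZeroAt.up (ψ := (RingEquiv.ofBijective φ hφ).symm.toRingHom) ?_ hx
    ext a
    exact (RingEquiv.ofBijective φ hφ).symm_apply_apply a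

theorem tor_finite {k K : Type u} [Field k] [Field K] [Algebra k K] [Module.Finite k K] :
    Tor (algebraMap k K) := by
  intro X f _ δ hδ x hx
  have h1 := flat_spec_of_field (CommRingCat.ofHom (algebraMap k K))
  obtain ⟨P, p, q, δP, h, hP⟩ := exists_square f (algebraMap k K)
  have := flat_of_isPullback h
  have hfin : IsFinite (Spec.map (CommRingCat.ofHom (algebraMap k K))) := by
    rw [IsFinite.SpecMap_iff]
    exact RingHom.finite_algebraMap.2 inferInstance
  have hpf : IsFinite p := MorphismProperty.of_isPullback (P := @IsFinite) h.flip inferInstance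
  have hXs : IsSetup X δ := SetupLft.isSetup_of_deltaCompat f (isSetup_spec_field k) hδ
  have hPs := setup_of_isPullback (isSetup_spec_field K) h hP
  have hrank : ∀ y : X, p.finrank y = Module.finrank k K := by
    intro y
    rw [Scheme.Hom.finrank_of_isPullback q p _ f h.flip y]
    refine (Scheme.Hom.finrank_SpecMap_algebraMap k K (f y)).trans ?_
    rw [Module.rankAtStalk_eq_finrank_of_free]
    rfl
  have hfield : DeltaCompat (Spec.map (CommRingCat.ofHom (algebraMap k K))) (fun _ => 0)
      (fun _ => 0) := by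
    obtain ⟨δ', hδ'⟩ := SetupLft.exists_deltaCompat
      (Spec.map (CommRingCat.ofHom (algebraMap k K))) (fun _ => 0)
    have h0 : δ' = fun _ => 0 :=
      funext fun z => FiniteFlat.delta_eq_of_locallyQuasiFinite _ δ' _ hδ' z
    rwa [h0] at hδ'
  have hpδ : DeltaCompat p δP δ := by
    refine K930.PushPull.deltaCompat_of_comp p f ?_ hδ
    rw [h.w]
    exact RelDim.deltaCompat_comp hP hfield
  have h2 := push_pull_finite hPs hXs p (Module.finrank k K) hrank hpδ
    (shift_of_isPullback h (shift_zero _ fun _ => rfl) hδ hP) x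
  have h3 := hx P p q δP h hP
  unfold bcF at h3
  rw [bc_eq_pull _ _ _ _ _ _ hXs hPs
    (shift_of_isPullback h (shift_zero _ fun _ => rfl) hδ hP)] at h3
  rw [h3, map_zero] at h2
  refine ⟨Module.finrank k K, by exact_mod_cast Module.finrank_pos.ne', ?_⟩
  rw [natCast_zsmul, ← h2]

end K309.FieldExt
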