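import Groth.Agent.Cyc.K309.DimIrr
import Groth.Agent.CycB.DimIneq
import Groth.Agent.CycB.RelDim3
import Groth.Agent.Sga4h.GenULADim
import Mathlib.AlgebraicGeometry.ZariskisMainTheorem

/-!
# Flat proper morphisms of irreducible schemes, generically finite, are finite
-/

set_option autoImplicit false
universe u

open AlgebraicGeometry CategoryTheory TopologicalSpace
open Groth.Agent.CycB Groth.Agent.CycB.RelDim

namespace K309.FlatFin

variable {X Y : Scheme.{u}}

/-- the dimension inequality in terms of `rtd` -/
theorem dim_ineq [IsLocallyNoetherian Y] (f : X ⟶ Y) [LocallyOfFiniteType f] {x ζ : X}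
    (h : ζ ⤳ x) : ∃ dX dY : ℕ,
      ringKrullDim (Cyc.LocQuot x ζ h) = dX ∧
      ringKrullDim (Cyc.LocQuot (f x) (f ζ) (h.map f.continuous)) = dY ∧
      (dX : Cardinal.{u}) + rtd f x ≤ (dY : Cardinal.{u}) + rtd f ζ :=
  DimIneq.dim_ineq f h

/-- The local quotient at the generic point has the full dimension. -/
theorem ringKrullDim_locQuot_generic [IrreducibleSpace X] {x ξ : X} (hξ : ξ = genericPoint X)
    (h : ξ ⤳ x) : ringKrullDim (Cyc.LocQuot x ξ h) = ringKrullDim (X.presheaf.stalk x) := by
  subst hξ
  rw [ringKrullDim_quotient]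
  have : PrimeSpectrum.zeroLocus
      (RingHom.ker (Cyc.specMap x (genericPoint X) h) : Set (X.presheaf.stalk x)) = Set.univ := by
    rw [Set.eq_univ_iff_forall]
    intro P
    rw [LocQuot.mem_zeroLocus_iff, ← LocQuot.primeOf_ptOf P, LocQuot.primeOf_le_iff]
    exact genericPoint_specializes _
  rw [this]
  exact (Order.krullDim_eq_of_orderIso OrderIso.Set.univ)

/-- A flat morphism locally of finite type between irreducible locally Noetherian schemes which is
generically quasi-finite has relative dimension zero. -/
theorem hasRelDim_zero [IrreducibleSpace X] [IrreducibleSpace Y] [IsLocallyNoetherian Y]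
    (f : X ⟶ Y) [Flat f] [LocallyOfFiniteType f] (h0 : rtd f (genericPoint X) = 0) :
    Cyc.HasRelDim f 0 := by
  have : IsLocallyNoetherian X := LocallyOfFiniteType.isLocallyNoetherian f
  rw [hasRelDim_iff]
  intro x hx
  obtain ⟨dX, dY, h1, h2, h3⟩ := dim_ineq f (genericPoint_specializes x)
  rw [ringKrullDim_locQuot_generic rfl] at h1
  rw [ringKrullDim_locQuot_generic (DimIrr.map_genericPoint_of_flat f)] at h2
  have h4 := DimIrr.ringKrullDim_stalk_of_fibGeneric f hx
  rw [h1, h2] at h4
  have h5 : dX = dY := by exact_mod_cast h4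
  subst h5
  rw [h0, add_zero] at h3
  have h6 : rtd f x < Cardinal.aleph0 := rtd_lt_aleph0 f x
  obtain ⟨n, hn⟩ := Cardinal.lt_aleph0.1 h6
  rw [hn] at h3 ⊢
  have h7 : dX + n ≤ dX := by exact_mod_cast h3
  have : n = 0 := by omega
  rw [this]

/-- A quasi-compact morphism of finite type of relative dimension `0` is quasi-finite. -/
theorem locallyQuasiFinite_of_hasRelDim_zero [IsLocallyNoetherian Y]
    (f : X ⟶ Y) [LocallyOfFiniteType f] [QuasiCompact f] (h0 : Cyc.HasRelDim f 0) :
    LocallyQuasiFinite f := by
  refine LocallyQuasiFinite.of_finite_preimage_singleton f fun y => ?_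
  have : LocallyOfFiniteType (f.fiberToSpecResidueField y) :=
    inferInstanceAs (LocallyOfFiniteType (Limits.pullback.snd f (Y.fromSpecResidueField y)))
  have : IsLocallyNoetherian (f.fiber y) :=
    LocallyOfFiniteType.isLocallyNoetherian (f.fiberToSpecResidueField y)
  have hd : topologicalKrullDim (f.fiber y) ≤ 0 :=
    Groth.Agent.Sga4h.GenULADim.topologicalKrullDim_fiber_le f y 0
      (fun x' _ => rtd_le h0 x')
  have := IsLocallyArtinian.of_topologicalKrullDim_le_zero hd
  have : CompactSpace (f.fiber y) := inferInstance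
  have : Finite (f.fiber y) := finite_of_compact_of_discrete
  rw [← Scheme.Hom.range_fiberι]
  exact Set.finite_range _

theorem isFinite_of_flat [IrreducibleSpace X] [IrreducibleSpace Y] [IsLocallyNoetherian Y]
    (f : X ⟶ Y) [Flat f] [IsProper f] (h0 : rtd f (genericPoint X) = 0) : IsFinite f := by
  have := locallyQuasiFinite_of_hasRelDim_zero f (hasRelDim_zero f h0)
  exact IsFinite.of_isProper_of_locallyQuasiFinite f

/-- A proper flat morphism of irreducible schemes is surjective. -/
theorem surjective_of_flat [IrreducibleSpace X] [IrreducibleSpace Y] (f : X ⟶ Y) [Flat f]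
    [IsProper f] : Surjective f := by
  constructor
  intro y
  have h1 : IsClosed (Set.range f) := f.isClosedMap.isClosed_range
  have h2 : f (genericPoint X) ∈ Set.range f := ⟨_, rfl⟩
  rw [DimIrr.map_genericPoint_of_flat f] at h2
  exact (genericPoint_specializes y).mem_closed h1 h2

end K309.FlatFin
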