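import Groth.Agent.Cyc.K309.TorFg
import Groth.Agent.S6497
import Mathlib.CategoryTheory.Limits.Types.Filtered

/-!
# Arbitrary field extensions are limits of finitely generated ones
-/

set_option autoImplicit false
universe u
open AlgebraicGeometry CategoryTheory CategoryTheory.Limits Opposite Cyc
open Groth.Agent Groth.Agent.CycB Groth.Agent.CycB.SetupDVR
open K308.Grp K309.Bc K309.Dvr K309.FieldExt K309.TorFg

namespace K309.LimField

section Ring

variable (k K : Type u) [Field k] [Field K] [Algebra k K]

/-- the subfield generated by a finite set -/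
abbrev Fs (s : Finset K) : IntermediateField k K := IntermediateField.adjoin k (s : Set K)

theorem Fs_mono {s t : Finset K} (h : s ≤ t) : Fs k K s ≤ Fs k K t :=
  IntermediateField.adjoin.mono _ _ _ (Finset.coe_subset.2 h)

noncomputable def ringFunctor : Finset K ⥤ CommRingCat.{u} where
  obj s := CommRingCat.of (Fs k K s)
  map g := CommRingCat.ofHom (IntermediateField.inclusion (Fs_mono k K g.le)).toRingHom
  map_id _ := rfl
  map_comp _ _ := rfl

noncomputable def ringCocone : Cocone (ringFunctor k K) where
  pt := CommRingCat.of K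
  ι := { app := fun s => CommRingCat.ofHom (algebraMap (Fs k K s) K)
         naturality := fun _ _ _ => rfl }

noncomputable def isColimit : IsColimit (ringCocone k K) := by
  classical
  have : IsFiltered (Finset K) := inferInstance
  have : PreservesColimit (ringFunctor k K) (forget CommRingCat) := inferInstance
  have : ReflectsColimit (ringFunctor k K) (forget CommRingCat) :=
    reflectsColimit_of_reflectsIsomorphisms _ _
  refine isColimitOfReflects (forget CommRingCat) ?_
  refine Types.FilteredColimit.isColimitOf _ _ ?_ ?_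
  · intro x
    exact ⟨{x}, (⟨x, IntermediateField.subset_adjoin k _ (Finset.mem_coe.2
      (Finset.mem_singleton_self (α := K) x))⟩ : Fs k K {x}), rfl⟩
  · intro s t x y hxy
    classical
    refine ⟨s ⊔ t, homOfLE le_sup_left, homOfLE le_sup_right, ?_⟩
    exact Subtype.ext hxy

end Ring

section Sch

variable {k K : Type u} [Field k] [Field K] [Algebra k K] {X : Scheme.{u}}
  (f : X ⟶ Spec (CommRingCat.of k))

theorem algebraMap_comp_inclusion {s t : Finset K} (h : s ≤ t) :
    (IntermediateField.inclusion (Fs_mono k K h)).toRingHom.comp (algebraMap k (Fs k K s)) =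
      algebraMap k (Fs k K t) := rfl

/-- the structure morphism of the stage -/
noncomputable abbrev st (s : Finset K) :
    Spec (CommRingCat.of (Fs k K s)) ⟶ Spec (CommRingCat.of k) :=
  Spec.map (CommRingCat.ofHom (algebraMap k (Fs k K s)))

/-- transition maps of the spectra -/
noncomputable abbrev tr {s t : Finset K} (h : s ≤ t) :
    Spec (CommRingCat.of (Fs k K t)) ⟶ Spec (CommRingCat.of (Fs k K s)) :=
  Spec.map (CommRingCat.ofHom (IntermediateField.inclusion (Fs_mono k K h)).toRingHom)

theorem tr_st {s t : Finset K} (h : s ≤ t) : tr (k := k) h ≫ st s = st t := by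
  rw [← Spec.map_comp]
  rfl

/-- transition maps of the base changes -/
noncomputable def trm {s t : Finset K} (h : s ≤ t) : pullback f (st (k := k) t) ⟶ pullback f (st s) :=
  pullback.lift (pullback.fst _ _) (pullback.snd _ _ ≫ tr h) (by
    rw [Category.assoc, tr_st, pullback.condition])

@[reassoc]
theorem trm_fst {s t : Finset K} (h : s ≤ t) : trm (k := k) f h ≫ pullback.fst _ _ =
    pullback.fst _ _ := pullback.lift_fst _ _ _

@[reassoc]
theorem trm_snd {s t : Finset K} (h : s ≤ t) : trm (k := k) f h ≫ pullback.snd _ _ =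
    pullback.snd _ _ ≫ tr h := pullback.lift_snd _ _ _

/-- The system of base changes. -/
noncomputable def D : (Finset K)ᵒᵖ ⥤ Scheme.{u} where
  obj s := pullback f (st s.unop)
  map g := trm f g.unop.le
  map_id s := by
    apply pullback.hom_ext
    · rw [trm_fst, Category.id_comp]
    · rw [trm_snd, Category.id_comp]
      have : tr (k := k) (le_refl s.unop) = 𝟙 _ := Spec.map_id _
      exact (congrArg _ this).trans (Category.comp_id _)
  map_comp g h := by
    apply pullback.hom_ext
    · rw [trm_fst, Category.assoc, trm_fst, trm_fst]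
    · rw [trm_snd, Category.assoc, trm_snd, trm_snd_assoc, ← Spec.map_comp]
      rfl

/-- the projection of the limit spectrum -/
noncomputable abbrev pr (k : Type u) {K : Type u} [Field k] [Field K] [Algebra k K]
    (s : Finset K) : Spec (CommRingCat.of K) ⟶ Spec (CommRingCat.of (Fs k K s)) :=
  Spec.map (CommRingCat.ofHom (algebraMap (Fs k K s) K))

theorem pr_st (s : Finset K) : pr k s ≫ st s =
    Spec.map (CommRingCat.ofHom (algebraMap k K)) := by
  rw [← Spec.map_comp]
  rfl

theorem pr_tr {s t : Finset K} (h : s ≤ t) : pr k t ≫ tr h = pr k s := by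
  rw [← Spec.map_comp]
  rfl

variable {P : Scheme.{u}} {p : P ⟶ X} {q : P ⟶ Spec (CommRingCat.of K)} {f}

/-- the projections from the base change to `K` -/
noncomputable def prm (w : p ≫ f = q ≫ Spec.map (CommRingCat.ofHom (algebraMap k K)))
    (s : Finset K) : P ⟶ pullback f (st (k := k) s) :=
  pullback.lift p (q ≫ pr k s) (by rw [Category.assoc, pr_st, w])

@[reassoc]
theorem prm_fst (w : p ≫ f = q ≫ Spec.map (CommRingCat.ofHom (algebraMap k K)))
    (s : Finset K) : prm w s ≫ pullback.fst _ _ = p := pullback.lift_fst _ _ _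

@[reassoc]
theorem prm_snd (w : p ≫ f = q ≫ Spec.map (CommRingCat.ofHom (algebraMap k K)))
    (s : Finset K) : prm w s ≫ pullback.snd _ _ = q ≫ pr k s := pullback.lift_snd _ _ _

theorem prm_trm (w : p ≫ f = q ≫ Spec.map (CommRingCat.ofHom (algebraMap k K)))
    {s t : Finset K} (h : s ≤ t) : prm w t ≫ trm f h = prm w s := by
  apply pullback.hom_ext
  · rw [Category.assoc, trm_fst, prm_fst, prm_fst]
  · rw [Category.assoc, trm_snd, prm_snd_assoc, prm_snd, pr_tr]

variable (h : IsPullback p q f (Spec.map (CommRingCat.ofHom (algebraMap k K))))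

/-- The cone with vertex the base change to `K`. -/
noncomputable def cone : Cone (D (K := K) f) where
  pt := P
  π :=
    { app := fun s => prm h.w s.unop
      naturality := fun _ _ g => (Category.id_comp _).trans (prm_trm h.w g.unop.le).symm }

/-- the limit cone of spectra -/
noncomputable def specCone (k K : Type u) [Field k] [Field K] [Algebra k K] :
    Cone ((ringFunctor k K).op ⋙ Scheme.Spec) := Scheme.Spec.mapCone (ringCocone k K).op

noncomputable def specConeIsLimit (k K : Type u) [Field k] [Field K] [Algebra k K] :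
    IsLimit (specCone k K) := isLimitOfPreserves Scheme.Spec (isColimit k K).op

theorem w_trm (E : Cone (D (K := K) f)) {s t : (Finset K)ᵒᵖ} (g : s ⟶ t) :
    E.π.app s ≫ trm f g.unop.le = E.π.app t := E.w g

/-- the cone of spectra under a cone of schemes -/
noncomputable def sndCone (E : Cone (D (K := K) f)) :
    Cone ((ringFunctor k K).op ⋙ Scheme.Spec) where
  pt := E.pt
  π :=
    { app := fun s => E.π.app s ≫ pullback.snd _ _
      naturality := fun s t g => by
        refine (Category.id_comp _).trans ?_
        have h1 : (E.π.app s ≫ trm f g.unop.le) ≫ pullback.snd _ _ =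
            (E.π.app s ≫ pullback.snd _ _) ≫ tr g.unop.le :=
          (Category.assoc _ _ _).trans ((congrArg (fun z => E.π.app s ≫ z)
            (trm_snd f g.unop.le)).trans (Category.assoc _ _ _).symm)
        rw [w_trm E g] at h1
        exact h1 }

theorem fst_eq (E : Cone (D (K := K) f)) {s t : (Finset K)ᵒᵖ} (g : s ⟶ t) :
    (E.π.app s ≫ pullback.fst _ _ : E.pt ⟶ X) = E.π.app t ≫ pullback.fst _ _ := by
  have h1 : (E.π.app s ≫ trm f g.unop.le) ≫ pullback.fst _ _ =
      (E.π.app s ≫ pullback.fst _ _ : E.pt ⟶ X) :=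
    (Category.assoc _ _ _).trans (congrArg (fun z => E.π.app s ≫ z) (trm_fst f g.unop.le))
  rw [w_trm E g] at h1
  exact h1.symm

/-- the component of a cone of base changes in `X` -/
noncomputable def toX (E : Cone (D (K := K) f)) : E.pt ⟶ X := E.π.app (op ∅) ≫ pullback.fst _ _

theorem fst_eq_empty (E : Cone (D (K := K) f)) (s : (Finset K)ᵒᵖ) :
    toX E = E.π.app s ≫ pullback.fst _ _ :=
  (fst_eq E (homOfLE (Finset.empty_subset s.unop)).op).symm

/-- the component of a cone of base changes in `Spec K` -/
noncomputable def toK (E : Cone (D (K := K) f)) : E.pt ⟶ Spec (CommRingCat.of K) :=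
  (specConeIsLimit k K).lift (sndCone E)

theorem toK_pr (E : Cone (D (K := K) f)) (s : (Finset K)ᵒᵖ) :
    toK E ≫ pr k s.unop = E.π.app s ≫ pullback.snd _ _ := (specConeIsLimit k K).fac (sndCone E) s

theorem toX_comp (E : Cone (D (K := K) f)) :
    toX E ≫ f = toK E ≫ Spec.map (CommRingCat.ofHom (algebraMap k K)) :=
  (Category.assoc _ _ _).trans ((congrArg (fun z => E.π.app (op ∅) ≫ z)
    pullback.condition).trans ((Category.assoc _ _ _).symm.trans
      ((congrArg (fun z => z ≫ st ∅) (toK_pr E (op ∅)).symm).trans ((Category.assoc _ _ _).trans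
        (congrArg _ (pr_st (∅ : Finset K)))))))

noncomputable def coneIsLimit : IsLimit (cone h) where
  lift E := h.lift (toX E) (toK E) (toX_comp E)
  fac E s := by
    apply pullback.hom_ext
    · refine (Category.assoc _ _ _).trans ((congrArg _ (prm_fst h.w s.unop)).trans ?_)
      exact (h.lift_fst _ _ _).trans (fst_eq_empty E s)
    · refine (Category.assoc _ _ _).trans ((congrArg _ (prm_snd h.w s.unop)).trans ?_)
      exact (Category.assoc _ _ _).symm.trans ((congrArg (fun z => z ≫ pr k s.unop)
        (h.lift_snd _ _ _)).trans (toK_pr E s))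
  uniq E m hm := by
    apply h.hom_ext
    · rw [h.lift_fst, fst_eq_empty E (op ∅), ← hm (op ∅)]
      exact ((Category.assoc _ _ _).trans (congrArg _ (prm_fst h.w ∅))).symm
    · rw [h.lift_snd]
      refine (specConeIsLimit k K).hom_ext fun s => ?_
      refine Eq.trans ?_ (toK_pr E s).symm
      rw [← hm s]
      exact (Category.assoc _ _ _).trans ((Category.assoc _ _ _).trans
        (congrArg _ (prm_snd h.w s.unop))).symm

/-- If a homogeneous class on a quasi-compact scheme vanishes over `K`, it vanishes over a finitely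
generated subextension. -/
theorem exists_stage [LocallyOfFiniteType f] [QuasiCompact f] {δ : X → ℤ}
    (hδ : DeltaCompat f δ (fun _ => 0)) {n : ℤ} {α : AlgebraicCycle X ℤ} (hα : α ∈ Zk X δ n)
    (hx : ZeroAt f hδ (cl δ α) (algebraMap k K)) :
    ∃ s : Finset K, ZeroAt f hδ (cl δ α) (algebraMap k (Fs k K s)) := by
  classical
  have hX : IsSetup X δ := SetupLft.isSetup_of_deltaCompat f (isSetup_spec_field k) hδ
  obtain ⟨P, p, q, δP, h, hP⟩ := exists_square f (algebraMap k K)
  have hflatk : ∀ s : Finset K, Flat (st (k := k) s) := fun s =>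
    flat_spec_of_field _
  have hsq : ∀ s : Finset K, IsPullback (pullback.fst f (st (k := k) s)) (pullback.snd f (st s)) f
      (st s) := fun s => IsPullback.of_hasPullback _ _
  choose δs hδs using fun s : Finset K =>
    SetupLft.exists_deltaCompat (pullback.snd f (st (k := k) s)) (fun _ => 0)
  have hsetup : ∀ s : Finset K, IsSetup (pullback f (st (k := k) s)) (δs s) := fun s =>
    setup_of_isPullback (isSetup_spec_field _) (hsq s) (hδs s)
  have hsqt : ∀ {s t : Finset K} (hst : s ≤ t), IsPullback (trm f hst)
      (pullback.snd f (st (k := k) t)) (pullback.snd f (st s)) (tr hst) := by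
    intro s t hst
    refine IsPullback.of_right ?_ (trm_snd f hst) (hsq s)
    rw [trm_fst, tr_st]
    exact hsq t
  have hsqp : ∀ (s : Finset K), IsPullback (prm h.w s) q (pullback.snd f (st (k := k) s))
      (pr k s) := by
    intro s
    refine IsPullback.of_right ?_ (prm_snd h.w s) (hsq s)
    rw [prm_fst, pr_st]
    exact h
  have hflat : ∀ {s t : Finset K} (hst : s ≤ t), Flat (tr (k := k) hst) := fun hst =>
    flat_spec_of_field _
  have hflat' : ∀ (s : Finset K), Flat (pr k s) := fun s => flat_spec_of_field _
  -- the class on the initial stage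
  obtain ⟨α₀, hα₀⟩ := exists_pull (hsetup ∅) (pullback.fst f (st (k := k) (∅ : Finset K)))
    (shift_of_isPullback (hsq ∅) (shift_zero _ fun _ => rfl) hδ (hδs ∅)) α
  have hPs : IsSetup P δP := setup_of_isPullback (isSetup_spec_field K) h hP
  have hflatfst : ∀ s : Finset K, Flat (pullback.fst f (st (k := k) s)) := fun s =>
    flat_of_isPullback (hsq s)
  have hflatprm : ∀ s : Finset K, Flat (prm h.w s) := fun s => flat_of_isPullback (hsqp s)
  have hflattrm : ∀ {s t : Finset K} (hst : s ≤ t), Flat (trm (k := k) f hst) := fun hst =>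
    flat_of_isPullback (hsqt hst)
  have hsh : ∀ s : Finset K, Shift (pullback.fst f (st (k := k) s)) (δs s) δ 0 := fun s =>
    shift_of_isPullback (hsq s) (shift_zero _ fun _ => rfl) hδ (hδs s)
  have hshp : ∀ s : Finset K, Shift (prm h.w s) δP (δs s) 0 := fun s =>
    shift_of_isPullback (hsqp s) (shift_zero _ fun _ => rfl) (hδs s) hP
  have hsht : ∀ {s t : Finset K} (hst : s ≤ t), Shift (trm (k := k) f hst) (δs t) (δs s) 0 :=
    fun hst => shift_of_isPullback (hsqt hst) (shift_zero _ fun _ => rfl) (hδs _) (hδs _)
  obtain ⟨α', hα'⟩ := exists_pull hPs (prm h.w ∅) (hshp ∅) α₀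
  have hα₀n : α₀ ∈ Zk _ (δs ∅) n := by
    intro z hz
    rw [hα₀, FlatLength.pullFun_apply]
    split_ifs with h1
    · rw [hα _ (fun h2 => hz (by rw [h1, h2, add_zero])), zero_mul]
    · rfl
  have hα'n : α' ∈ Zk P δP n := by
    intro z hz
    rw [hα', FlatLength.pullFun_apply]
    split_ifs with h1
    · rw [hα₀n _ (fun h2 => hz (by rw [h1, h2, add_zero])), zero_mul]
    · rfl
  have hcomp : ⇑α' = pullFun p δP δ 0 ⇑α := by
    rw [hα', hα₀, pullFun_pullFun hPs.2.2 (hsetup ∅).2.2 _ _ (hshp ∅) (hsh ∅), prm_fst]
    rfl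
  have h0 : RatEquivZero δP n α' := by
    have h1 := hx P p q δP h hP
    unfold bcF at h1
    rw [bc_cl _ _ _ _ h hP hcomp] at h1
    exact (cl_eq_zero_iff hα'n).1 h1
  obtain ⟨j, g, αj, hj1, hj2⟩ := Groth.Agent.S6497.result (Finset K) (D f) (cone h)
    (coneIsLimit h) (fun i j g => by
      have : IsAffineHom (tr (k := k) g.unop.le) := inferInstance
      exact MorphismProperty.of_isPullback (P := @IsAffineHom) (hsqt g.unop.le).flip this)
    (fun i j g => hflattrm g.unop.le) (fun i => by
      have h2 : QuasiCompact (pullback.snd f (st (k := k) i.unop)) :=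
        MorphismProperty.of_isPullback (P := @QuasiCompact) (hsq i.unop) inferInstance
      have h3 : CompactSpace ↥(pullback f (st (k := k) i.unop)) :=
        QuasiCompact.compactSpace_of_compactSpace (pullback.snd f (st (k := k) i.unop))
      exact h3)
    (fun i => δs i.unop) δP (fun i => hsetup i.unop) hPs (fun i j g x hx => by
      have h2 := hsht g.unop.le x hx
      rw [add_zero] at h2
      exact h2) (fun i => hflatprm i.unop) (fun i x hx => by
      have h2 := hshp i.unop x hx
      rw [add_zero] at h2
      exact h2) n (op ∅) α₀ hα₀n α' hα' h0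
  refine ⟨j.unop, zeroAt_of (hsq j.unop) (hδs j.unop) ?_⟩
  unfold bcF
  have h3 := pullFun_pullFun (hsetup j.unop).2.2 (hsetup ∅).2.2 (trm (k := k) f g.unop.le)
      (pullback.fst f (st (k := k) ∅)) (hsht g.unop.le) (hsh ∅) ⇑α
  rw [trm_fst, ← hα₀] at h3
  refine (bc_cl _ _ _ _ (hsq j.unop) (hδs j.unop) (β := αj) (hj1.trans h3)).trans ?_
  exact cl_eq_zero_of_ratEquivZero hj2

end Sch

end K309.LimField
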