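import Groth.Agent.Cyc.K309.Spread
import Groth.Agent.Cyc.K309.LimField

/-!
# Flat dominant base change is generically injective up to torsion

`P' = P ×_W T` with `T → W` flat, `W`, `T` integral: a cycle on `P` whose pullback to `P'` is
rationally equivalent to zero becomes, after multiplication by a positive integer, rationally
equivalent to zero over a nonempty open subset of `W`.
-/

set_option autoImplicit false
universe u
open AlgebraicGeometry CategoryTheory CategoryTheory.Limits TopologicalSpace Opposite Cyc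
open Groth.Agent Groth.Agent.CycB
open K308.Grp K309.Gys K309.Bc K309.Dvr K309.FieldExt
open Groth.Agent.CycB.SetupDVR

namespace K309.GenTor

variable {W T P P' : Scheme.{u}}

theorem exists_spec_map (f : T ⟶ W) (x : T) : ∀ w : W, f x = w →
    ∃ ψ : Spec (T.presheaf.stalk x) ⟶ Spec (W.presheaf.stalk w),
      ψ ≫ W.fromSpecStalk w = T.fromSpecStalk x ≫ f := by
  rintro _ rfl
  exact ⟨_, Scheme.SpecMap_stalkMap_fromSpecStalk f⟩

/-- The extension of function fields of a dominant morphism. -/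
theorem exists_functionField [IsIntegral W] [IsIntegral T] (f : T ⟶ W)
    (hf : f (genericPoint T) = genericPoint W) :
    ∃ φ : W.functionField →+* T.functionField,
      Spec.map (CommRingCat.ofHom φ) ≫ W.fromSpecStalk (genericPoint W) =
        T.fromSpecStalk (genericPoint T) ≫ f := by
  obtain ⟨ψ, hψ⟩ := exists_spec_map f _ _ hf
  refine ⟨(Spec.preimage ψ).hom, ?_⟩
  rw [← hψ]
  exact congrArg (· ≫ W.fromSpecStalk (genericPoint W)) (Spec.map_preimage ψ)

variable {δW : W → ℤ} {δT : T → ℤ}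

/-- The comparison of two generic fibres. -/
theorem zeroAt_of_pull {K L : Type u} [Field K] [Field L] {φ : K →+* L}
    {a : Spec (CommRingCat.of K) ⟶ W} {b : Spec (CommRingCat.of L) ⟶ T} [Flat a] [Flat b]
    (hW : IsSetup W δW) (hT : IsSetup T δT) {s : P ⟶ W} {s' : P' ⟶ T} {F : P' ⟶ P} {f : T ⟶ W}
    (hab : Spec.map (CommRingCat.ofHom φ) ≫ a = b ≫ f)
    [LocallyOfFiniteType s] (h : IsPullback F s' s f) {c : ℤ} [Flat f]
    (hf : Shift f δT δW c) {δ : P → ℤ} {δ' : P' → ℤ} (hδ : DeltaCompat s δ δW)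
    (hδ' : DeltaCompat s' δ' δT) {α : AlgebraicCycle P ℤ}
    {γ : AlgebraicCycle P' ℤ} (hγ : ⇑γ = pullFun F δ' δ c ⇑α) (h0 : cl δ' γ = 0)
    {ca cb : ℤ} (ha : Shift a (fun _ => 0) δW ca) (hb : Shift b (fun _ => 0) δT cb)
    (hc : ca = cb + c)
    {Q : Scheme.{u}} {p : Q ⟶ P} {q : Q ⟶ Spec (CommRingCat.of K)} [LocallyOfFiniteType q]
    (hQ : IsPullback p q s a) {δQ : Q → ℤ}
    (hδQ : DeltaCompat q δQ (fun _ => 0)) {α' : AlgebraicCycle Q ℤ}
    (hα' : ⇑α' = pullFun p δQ δ ca ⇑α) : ZeroAt q hδQ (cl δQ α') φ := by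
  have i1 : LocallyOfFiniteType s' := lft_of_isPullback h
  have i3 : Flat F := flat_of_isPullback h
  have i5 : Flat p := flat_of_isPullback hQ
  have hPs := SetupLft.isSetup_of_deltaCompat s hW hδ
  have hP's := SetupLft.isSetup_of_deltaCompat s' hT hδ'
  have hQs := SetupLft.isSetup_of_deltaCompat q (isSetup_spec_field K) hδQ
  have h2 := IsPullback.of_hasPullback s' b
  have i6 := lft_of_isPullback h2
  have i7 : Flat (pullback.fst s' b) := flat_of_isPullback h2
  obtain ⟨δ'', hδ''⟩ := SetupLft.exists_deltaCompat (pullback.snd s' b) (fun _ => 0)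
  have hP''s : IsSetup (pullback s' b) δ'' :=
    SetupLft.isSetup_of_deltaCompat _ (isSetup_spec_field L) hδ''
  -- the comparison map
  have hw : (pullback.fst s' b ≫ F) ≫ s =
      (pullback.snd s' b ≫ Spec.map (CommRingCat.ofHom φ)) ≫ a := by
    rw [Category.assoc, h.w, Category.assoc, hab, ← Category.assoc, pullback.condition,
      Category.assoc]
  let r : pullback s' b ⟶ Q := hQ.lift _ _ hw
  have hr1 : r ≫ p = pullback.fst s' b ≫ F := hQ.lift_fst _ _ _
  have hr2 : r ≫ q = pullback.snd s' b ≫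
    Spec.map (CommRingCat.ofHom φ) := hQ.lift_snd _ _ _
  have h3 : IsPullback r (pullback.snd s' b) q (Spec.map (CommRingCat.ofHom φ)) := by
    refine IsPullback.of_right ?_ hr2 hQ
    rw [hr1, hab]
    exact h2.paste_horiz h
  have hφf := flat_spec_of_field (CommRingCat.ofHom φ)
  have i8 : Flat r := flat_of_isPullback h3
  have sh1 : Shift r δ'' δQ 0 := shift_of_isPullback h3 (shift_zero _ fun _ => rfl) hδQ hδ''
  have sh2 : Shift p δQ δ ca := shift_of_isPullback hQ ha hδ hδQ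
  have sh3 : Shift F δ' δ c := shift_of_isPullback h hf hδ hδ'
  have sh4 : Shift (pullback.fst s' b) δ'' δ' cb := shift_of_isPullback h2 hb hδ' hδ''
  obtain ⟨α'', hα''⟩ := exists_pull hP''s r sh1 α'
  have e1 : ⇑α'' = pullFun (pullback.fst s' b) δ'' δ' cb ⇑γ := by
    rw [hα'', hα', hγ, pullFun_pullFun hP''s.2.2 hQs.2.2 _ _ sh1 sh2,
      pullFun_pullFun hP''s.2.2 hP's.2.2 _ _ sh4 sh3, hr1, hc, zero_add]
  have e2 : cl δ'' α'' = 0 := cl_pull_eq_zero hP''s hP's _ sh4 h0 e1
  refine zeroAt_of h3 hδ'' ?_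
  unfold bcF
  rw [bc_cl _ _ _ _ h3 hδ'' hα'', e2]

/-- Main statement for the generic fibre. -/
theorem exists_smul_cl [IsIntegral W] [IsIntegral T]
    (hW : IsSetup W δW) (hT : IsSetup T δT) {s : P ⟶ W} {s' : P' ⟶ T} {F : P' ⟶ P} {f : T ⟶ W}
    [LocallyOfFiniteType s] [QuasiCompact s] (hfg : f (genericPoint T) = genericPoint W)
    (h : IsPullback F s' s f) {c : ℤ} [Flat f]
    (hf : Shift f δT δW c) {δ : P → ℤ} {δ' : P' → ℤ} (hδ : DeltaCompat s δ δW)
    (hδ' : DeltaCompat s' δ' δT) {k : ℤ} {α : AlgebraicCycle P ℤ} (hα : α ∈ Zk P δ k)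
    {γ : AlgebraicCycle P' ℤ} (hγ : ⇑γ = pullFun F δ' δ c ⇑α) (h0 : cl δ' γ = 0)
    {Q : Scheme.{u}} {p : Q ⟶ P} {q : Q ⟶ Spec (CommRingCat.of W.functionField)}
    (hQ : IsPullback p q s (W.fromSpecStalk (genericPoint W))) {δQ : Q → ℤ}
    (hδQ : DeltaCompat q δQ (fun _ => 0)) {α' : AlgebraicCycle Q ℤ}
    (hα' : ⇑α' = pullFun p δQ δ (- δW (genericPoint W)) ⇑α) :
    ∃ m : ℤ, 0 < m ∧ m • cl δQ α' = 0 := by
  classical
  have := hW.1
  obtain ⟨φ, hφ⟩ := exists_functionField f hfg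
  have i2 : LocallyOfFiniteType q := lft_of_isPullback hQ
  have i4 : QuasiCompact q := MorphismProperty.of_isPullback (P := @QuasiCompact) hQ inferInstance
  have hc : δT (genericPoint T) = δW (genericPoint W) + c := by
    rw [← hfg]
    exact hf _ fun y _ hy => (hy.antisymm (genericPoint_specializes y)).eq
  let _ : Algebra W.functionField T.functionField := φ.toAlgebra
  have hz : ZeroAt q hδQ (cl δQ α') (algebraMap W.functionField T.functionField) :=
    zeroAt_of_pull (φ := φ) (b := T.fromSpecStalk (genericPoint T)) hW hT hφ h hf hδ hδ' hγ h0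
      (ProdInj.shift_fromSpecStalk δW) (ProdInj.shift_fromSpecStalk δT) (by omega) hQ hδQ hα'
  have hd := Spread.delta_generic hδ hQ hδQ
  have ip : IsPreimmersion p :=
    MorphismProperty.of_isPullback (P := @IsPreimmersion) hQ.flip inferInstance
  have hα'k : α' ∈ Zk Q δQ (k + (- δW (genericPoint W))) := by
    intro z hz
    rw [hα', Spread.pullFun_preimm p hd]
    exact hα _ fun h3 => hz (by rw [hd, h3])
  obtain ⟨S, hS⟩ := LimField.exists_stage (K := T.functionField) hδQ hα'k hz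
  obtain ⟨m, hm, hx⟩ := TorFg.tor_adjoin_finset (k := W.functionField) S Q _ δQ hδQ _ hS
  rcases lt_or_gt_of_ne hm with h4 | h4
  · exact ⟨-m, by omega, by rw [neg_smul, hx, neg_zero]⟩
  · exact ⟨m, h4, hx⟩

/-- **Flat dominant base change is generically injective up to torsion.** -/
theorem exists_open [IsIntegral W] [IsIntegral T]
    (hW : IsSetup W δW) (hT : IsSetup T δT) {s : P ⟶ W} {s' : P' ⟶ T} {F : P' ⟶ P} {f : T ⟶ W}
    [LocallyOfFiniteType s] [QuasiCompact s] (hfg : f (genericPoint T) = genericPoint W)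
    (h : IsPullback F s' s f) {c : ℤ} [Flat f]
    (hf : Shift f δT δW c) {δ : P → ℤ} {δ' : P' → ℤ} (hδ : DeltaCompat s δ δW)
    (hδ' : DeltaCompat s' δ' δT) {k : ℤ} {α : AlgebraicCycle P ℤ} (hα : α ∈ Zk P δ k)
    {γ : AlgebraicCycle P' ℤ} (hγ : ⇑γ = pullFun F δ' δ c ⇑α) (h0 : cl δ' γ = 0) :
    ∃ (U : W.Opens) (m : ℤ), (U : Set W).Nonempty ∧ 0 < m ∧
      ∀ β : AlgebraicCycle (↑(s ⁻¹ᵁ U)) ℤ,
      (∀ y, β y = m * α ((s ⁻¹ᵁ U).ι y)) → RatEquivZero (fun y => δ ((s ⁻¹ᵁ U).ι y)) k β := by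
  classical
  have := hW.1
  have hQ := IsPullback.of_hasPullback s (W.fromSpecStalk (genericPoint W))
  have i2 := lft_of_isPullback hQ
  obtain ⟨δQ, hδQ⟩ := SetupLft.exists_deltaCompat
    (pullback.snd s (W.fromSpecStalk (genericPoint W))) (fun _ => 0)
  have hQs : IsSetup (pullback s (W.fromSpecStalk (genericPoint W))) δQ :=
    SetupLft.isSetup_of_deltaCompat _ (isSetup_spec_field W.functionField) hδQ
  have sh2 : Shift (pullback.fst s (W.fromSpecStalk (genericPoint W))) δQ δ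
      (- δW (genericPoint W)) :=
    shift_of_isPullback hQ (ProdInj.shift_fromSpecStalk δW) hδ hδQ
  have i5 : Flat (pullback.fst s (W.fromSpecStalk (genericPoint W))) := flat_of_isPullback hQ
  obtain ⟨α', hα'⟩ := exists_pull hQs _ sh2 α
  obtain ⟨m, hm, hx⟩ := exists_smul_cl hW hT hfg h hf hδ hδ' hα hγ h0 hQ hδQ hα'
  rw [← map_zsmul] at hx
  have e1 : ⇑(m • α') = pullFun (pullback.fst s (W.fromSpecStalk (genericPoint W))) δQ δ
      (- δW (genericPoint W)) ⇑(m • α) := by
    rw [Function.locallyFinsuppWithin.coe_zsmul, Function.locallyFinsuppWithin.coe_zsmul, hα']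
    funext z
    rw [Pi.smul_apply, FlatLength.pullFun_apply, FlatLength.pullFun_apply, Pi.smul_apply]
    split_ifs
    · rw [smul_eq_mul, smul_eq_mul, mul_assoc]
    · exact smul_zero _
  have hmα : m • α ∈ Zk P δ k := by
    intro y hy
    rw [Function.locallyFinsuppWithin.coe_zsmul, Pi.smul_apply, hα y hy, smul_zero]
  obtain ⟨U, hU, hU'⟩ := Spread.exists_open_cl hW hδ hQ hδQ hmα e1 hx
  refine ⟨U, m, hU, hm, fun β hβ => hU' β fun y => ?_⟩
  rw [hβ, Function.locallyFinsuppWithin.coe_zsmul, Pi.smul_apply, smul_eq_mul]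

end K309.GenTor
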