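import Groth.Agent.Cyc.K309.FieldExt
import Groth.Agent.Fga.UnitRestrict

/-!
# Graphs of points and specialisation

For `V → S` separated and `y : T → V` over `S`, `sec` is the induced section of `V_T → T`.

* `graph_specialise`: if `T₀ = V(t) ⊂ T` with complement `U`, and the graph class of `y` equals the
  base change of `β` over `U`, then the same holds over `T₀`.
* `graph_regular`: descent to residue fields of regular local rings.
-/

set_option autoImplicit false
universe u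
open AlgebraicGeometry CategoryTheory CategoryTheory.Limits TopologicalSpace Opposite Cyc
open Groth.Agent Groth.Agent.CycB Groth.Agent.CycB.GysinCl
open K305.StructCap K308.Grp K309.Gys K309.ZeroFun K309.Bc K309.Dvr

namespace K309.Graph

variable {S V : Scheme.{u}} {δS : S → ℤ} {δV : V → ℤ} {p : V ⟶ S}

section Sec

variable {T VT : Scheme.{u}} {gT : T ⟶ S} {pT : VT ⟶ V} {qT : VT ⟶ T}

/-- The section of `V_T → T` induced by `y : T → V`. -/
noncomputable def sec (h : IsPullback pT qT p gT) (y : T ⟶ V) (hy : y ≫ p = gT) : T ⟶ VT :=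
  h.lift y (𝟙 T) (by rw [hy, Category.id_comp])

@[reassoc]
theorem sec_fst (h : IsPullback pT qT p gT) (y : T ⟶ V) (hy : y ≫ p = gT) :
    sec h y hy ≫ pT = y := h.lift_fst _ _ _

@[reassoc]
theorem sec_snd (h : IsPullback pT qT p gT) (y : T ⟶ V) (hy : y ≫ p = gT) :
    sec h y hy ≫ qT = 𝟙 T := h.lift_snd _ _ _

theorem isClosedImmersion_sec [IsSeparated p] (h : IsPullback pT qT p gT) (y : T ⟶ V)
    (hy : y ≫ p = gT) : IsClosedImmersion (sec h y hy) := by
  have : IsSeparated qT := MorphismProperty.of_isPullback (P := @IsSeparated) h inferInstance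
  have : IsClosedImmersion (sec h y hy ≫ qT) := by rw [sec_snd]; infer_instance
  exact IsClosedImmersion.of_comp (sec h y hy) qT

theorem deltaCompat_sec [IsSeparated p] (h : IsPullback pT qT p gT) (y : T ⟶ V)
    (hy : y ≫ p = gT) {δT : T → ℤ} {δVT : VT → ℤ} (hq : DeltaCompat qT δVT δT) :
    DeltaCompat (sec h y hy) δT δVT := by
  have := isClosedImmersion_sec h y hy
  refine K930.PushPull.deltaCompat_of_comp (sec h y hy) qT ?_ hq
  rw [sec_snd]
  exact K930.PushPull.deltaCompat_stalk (𝟙 T)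

/-- Base change of sections. -/
theorem isPullback_sec {T' VT' : Scheme.{u}} {g' : T' ⟶ S} {pT' : VT' ⟶ V} {qT' : VT' ⟶ T'}
    (h : IsPullback pT qT p gT) (h' : IsPullback pT' qT' p g') (y : T ⟶ V) (hy : y ≫ p = gT)
    (j : T' ⟶ T) (hj : j ≫ gT = g') (j' : VT' ⟶ VT) (h1 : j' ≫ pT = pT') (h2 : j' ≫ qT = qT' ≫ j)
    (y' : T' ⟶ V) (hy' : y' ≫ p = g') (hyy : j ≫ y = y') :
    IsPullback (sec h' y' hy') j j' (sec h y hy) := by
  have hs : IsPullback j' qT' qT j := by
    refine IsPullback.of_right ?_ h2 h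
    rw [h1, hj]
    exact h'
  have hc : sec h' y' hy' ≫ j' = j ≫ sec h y hy := by
    apply h.hom_ext
    · rw [Category.assoc, Category.assoc, h1, sec_fst, sec_fst, hyy]
    · rw [Category.assoc, Category.assoc, h2, sec_snd, sec_snd_assoc, Category.comp_id]
  refine IsPullback.of_right ?_ hc hs.flip
  rw [sec_snd, sec_snd]
  exact IsPullback.of_horiz_isIso ⟨by rw [Category.id_comp, Category.comp_id]⟩

end Sec


/-- The graph class of `y : T → V` over `S`: the pushforward along `T → V_T` of the pullback of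
`o`. -/
noncomputable def gr {T VT : Scheme.{u}} {gT : T ⟶ S} {pT : VT ⟶ V} {qT : VT ⟶ T}
    {δT : T → ℤ} {δVT : VT → ℤ} [IsSeparated p] [LocallyOfFiniteType p] [Flat gT]
    (hS : IsSetup S δS) (hT : IsSetup T δT) {c : ℤ} (hg : Shift gT δT δS c)
    (h : IsPullback pT qT p gT) (hq : DeltaCompat qT δVT δT) (y : T ⟶ V) (hy : y ≫ p = gT)
    (o : G S δS) : G VT δVT :=
  haveI := isClosedImmersion_sec h y hy
  push hT (setup_of_isPullback hT h hq) (sec h y hy) (deltaCompat_sec h y hy hq)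
    (pull hT hS gT hg o)

/-- **Specialisation of graphs.** -/
theorem graph_specialise {T T₀ U V_T V_0 V_U : Scheme.{u}} {δT : T → ℤ} {δ₀ : T₀ → ℤ}
    {δU : U → ℤ} {gT : T ⟶ S} {i : T₀ ⟶ T} {j : U ⟶ T} {g₀ : T₀ ⟶ S} {gU : U ⟶ S}
    [LocallyOfFiniteType p] [IsSeparated p] [Flat p] [Flat gT] [Flat g₀] [Flat gU]
    [IsClosedImmersion i] [IsOpenImmersion j]
    (hji : Set.range ⇑j = (Set.range ⇑i)ᶜ)
    {t : Γ(T, ⊤)} (hi : VanFun i t)
    (hreg : ∀ x : T, IsSMulRegular (T.presheaf.stalk x) (T.presheaf.germ ⊤ x trivial t))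
    (hig : i ≫ gT = g₀) (hjg : j ≫ gT = gU)
    (hS : IsSetup S δS) (hT : IsSetup T δT) (hT₀ : IsSetup T₀ δ₀) (hU : IsSetup U δU)
    {cT c₀ cU cj : ℤ} (hcc : cT = c₀ + 1) (hcj : cU = cj + cT)
    (hgT : Shift gT δT δS cT) (hg₀ : Shift g₀ δ₀ δS c₀) (hgU : Shift gU δU δS cU)
    (hiδ : DeltaCompat i δ₀ δT) (hj : Shift j δU δT cj)
    (hX : DeltaCompat p δV δS)
    {pT : V_T ⟶ V} {qT : V_T ⟶ T} (sT : IsPullback pT qT p gT) {δXT : V_T → ℤ}
    (hXT : DeltaCompat qT δXT δT)
    {p₀ : V_0 ⟶ V} {q₀ : V_0 ⟶ T₀} (s₀ : IsPullback p₀ q₀ p g₀) {δX0 : V_0 → ℤ}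
    (hX0 : DeltaCompat q₀ δX0 δ₀)
    {pU : V_U ⟶ V} {qU : V_U ⟶ U} (sU : IsPullback pU qU p gU) {δXU : V_U → ℤ}
    (hXU : DeltaCompat qU δXU δU)
    (y : T ⟶ V) (hy : y ≫ p = gT) (y₀ : T₀ ⟶ V) (hy₀ : y₀ ≫ p = g₀) (hyi : i ≫ y = y₀)
    (yU : U ⟶ V) (hyU : yU ≫ p = gU) (hyj : j ≫ y = yU)
    (o : G S δS) (x : G V δV)
    (hx : gr hS hU hgU sU hXU yU hyU o = bc hS hU hgU hX sU hXU x) :
    gr hS hT₀ hg₀ s₀ hX0 y₀ hy₀ o = bc hS hT₀ hg₀ hX s₀ hX0 x := by
  have := flat_of_isPullback sT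
  have := flat_of_isPullback s₀
  have := flat_of_isPullback sU
  have := lft_of_isPullback sT
  have : Flat qT := MorphismProperty.of_isPullback (P := @Flat) sT inferInstance
  have hXs : IsSetup V δV := SetupLft.isSetup_of_deltaCompat p hS hX
  have hTs := setup_of_isPullback hT sT hXT
  have h0s := setup_of_isPullback hT₀ s₀ hX0
  have hUs := setup_of_isPullback hU sU hXU
  have := isClosedImmersion_sec sT y hy
  have := isClosedImmersion_sec s₀ y₀ hy₀
  have := isClosedImmersion_sec sU yU hyU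
  -- the maps between the fibre products
  let i' : V_0 ⟶ V_T := sT.lift p₀ (q₀ ≫ i) (by rw [s₀.w, Category.assoc, hig])
  have i'1 : i' ≫ pT = p₀ := sT.lift_fst _ _ _
  have i'2 : i' ≫ qT = q₀ ≫ i := sT.lift_snd _ _ _
  have si : IsPullback i' q₀ qT i := by
    refine IsPullback.of_right ?_ i'2 sT
    rw [i'1, hig]
    exact s₀
  let j' : V_U ⟶ V_T := sT.lift pU (qU ≫ j) (by rw [sU.w, Category.assoc, hjg])
  have j'1 : j' ≫ pT = pU := sT.lift_fst _ _ _
  have j'2 : j' ≫ qT = qU ≫ j := sT.lift_snd _ _ _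
  have sj : IsPullback j' qU qT j := by
    refine IsPullback.of_right ?_ j'2 sT
    rw [j'1, hjg]
    exact sU
  have : IsClosedImmersion i' := MorphismProperty.of_isPullback (P := @IsClosedImmersion)
    si.flip inferInstance
  have : IsOpenImmersion j' := MorphismProperty.of_isPullback (P := @IsOpenImmersion)
    sj.flip inferInstance
  have hi'δ : DeltaCompat i' δX0 δXT := by
    refine K930.PushPull.deltaCompat_of_comp i' qT ?_ hXT
    rw [i'2]
    exact RelDim.deltaCompat_comp hX0 hiδ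
  have hv : IsZeroSchemeOf i' (Coh.structureModule V_T) (ZeroFun.sec (qT.appTop t)) :=
    (hi.of_isPullback si).isZero
  have hv0 : IsZeroSchemeOf i (Coh.structureModule T) (ZeroFun.sec t) := hi.isZero
  have hji' : Set.range ⇑j' = (Set.range ⇑i')ᶜ := by
    have h1 : Set.range ⇑j' = ⇑qT ⁻¹' Set.range ⇑j := range_of_isPullback sj
    have h2 : Set.range ⇑i' = ⇑qT ⁻¹' Set.range ⇑i := range_of_isPullback si
    rw [h1, h2, hji, Set.preimage_compl]
  have hj' : Shift j' δXU δXT cj := shift_of_isPullback sj hj hXT hXU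
  have hflat : Flat (i' ≫ pT) := by rw [i'1]; infer_instance
  have hflat0 : Flat (i ≫ gT) := by rw [hig]; infer_instance
  have hflatU : Flat (j ≫ gT) := by rw [hjg]; infer_instance
  -- restriction to the open part
  have hsqU := isPullback_sec sT sU y hy j hjg j' j'1 j'2 yU hyU hyj
  have hsq0 := isPullback_sec sT s₀ y hy i hig i' i'1 i'2 y₀ hy₀ hyi
  have hr : pull hUs hTs j' hj' (gr hS hT hgT sT hXT y hy o - bc hS hT hgT hX sT hXT x) = 0 := by
    rw [map_sub, sub_eq_zero]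
    have e1 := bc_bc hS hT hU hgT hj hgU hX sT hXT sj sU hXU j'1 hcj x
    have e2 : pull hUs hTs j' hj' (gr hS hT hgT sT hXT y hy o) =
        gr hS hU hgU sU hXU yU hyU o := by
      unfold gr
      rw [pull_push hT hTs hU hUs hsqU (deltaCompat_sec sT y hy hXT)
        (deltaCompat_sec sU yU hyU hXU) hj' hj]
      congr 1
      have hs' : Shift (j ≫ gT) δU δS cU := by rw [hjg]; exact hgU
      rw [pull_pull hU hT hS j gT hj hgT hs' hcj]
      exact pull_congr hU hS hjg hs' hgU o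
    rw [e2, hx, ← e1]
    rfl
  have hgys := gys_of_restrict hTs hi'δ hv hUs j' hji' hj' _ hr
  rw [map_sub, sub_eq_zero] at hgys
  have hq : Shift (i' ≫ pT) δX0 δV c₀ := by
    rw [i'1]
    exact shift_of_isPullback s₀ hg₀ hX hX0
  have hpull := gys_pull hTs hXs h0s (p := pT) hi'δ
    (isInvertible_structureModule V_T) hv hcc (shift_of_isPullback sT hgT hX hXT) hq
    (regular_germ_appTop qT hreg) x
  have h2 : bc hS hT₀ hg₀ hX s₀ hX0 x = pull h0s hXs (i' ≫ pT) hq x :=
    pull_congr _ _ i'1.symm _ _ x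
  rw [h2, ← hpull]
  refine Eq.trans ?_ hgys
  unfold gr
  rw [gys_push hTs hT h0s hT₀ hsq0.flip (deltaCompat_sec sT y hy hXT) hi'δ hiδ
    (deltaCompat_sec s₀ y₀ hy₀ hX0) (isInvertible_structureModule V_T)
    (isInvertible_structureModule T) hv hv0 (Fga.UnitRestrict.pullbackUnitIso (sec sT y hy))]
  congr 1
  have hs' : Shift (i ≫ gT) δ₀ δS c₀ := by rw [hig]; exact hg₀
  rw [gys_pull hT hS hT₀ hiδ (isInvertible_structureModule T) hv0 hcc hgT hs' ?_]
  · exact pull_congr hT₀ hS hig.symm hg₀ hs' o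
  · intro z
    have := regular_germ_appTop (𝟙 T) (t := t) hreg z
    simpa using this

end K309.Graph
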