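import Groth.Agent.Cyc.K309.Graph

/-!
# Graphs of field-valued points

`GrEq p hV o x K y`: over the field-valued point `y : Spec K → V`, the graph class of `y` equals the
base change of `x`.
* `GrEq.up`, `GrEq.dvr`, `GrEq.regular`.
-/

set_option autoImplicit false
universe u
open AlgebraicGeometry CategoryTheory CategoryTheory.Limits TopologicalSpace Opposite Cyc
open Groth.Agent Groth.Agent.CycB Groth.Agent.CycB.GysinCl
open K305.StructCap K308.Grp K309.Gys K309.ZeroFun K309.Bc K309.Dvr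
open Groth.Agent.CycB.SetupDVR

namespace K309.Graph

section

variable {S V : Scheme.{u}} {δS : S → ℤ} {δV : V → ℤ} {p : V ⟶ S}

/-- Flat base change of graph classes. -/
theorem pull_gr {T T' V_T V_T' : Scheme.{u}} {δT : T → ℤ} {δT' : T' → ℤ}
    {gT : T ⟶ S} {j : T' ⟶ T} {g' : T' ⟶ S}
    [LocallyOfFiniteType p] [IsSeparated p] [Flat gT] [Flat g'] [Flat j]
    (hjg : j ≫ gT = g')
    (hS : IsSetup S δS) (hT : IsSetup T δT) (hT' : IsSetup T' δT')
    {cT c' cj : ℤ} (hcj : c' = cj + cT)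
    (hgT : Shift gT δT δS cT) (hg' : Shift g' δT' δS c') (hj : Shift j δT' δT cj)
    {pT : V_T ⟶ V} {qT : V_T ⟶ T} (sT : IsPullback pT qT p gT) {δXT : V_T → ℤ}
    (hXT : DeltaCompat qT δXT δT)
    {pT' : V_T' ⟶ V} {qT' : V_T' ⟶ T'} (sT' : IsPullback pT' qT' p g') {δXT' : V_T' → ℤ}
    (hXT' : DeltaCompat qT' δXT' δT')
    (y : T ⟶ V) (hy : y ≫ p = gT) (y' : T' ⟶ V) (hy' : y' ≫ p = g') (hyj : j ≫ y = y')
    (j' : V_T' ⟶ V_T) [Flat j'] (j'1 : j' ≫ pT = pT') (j'2 : j' ≫ qT = qT' ≫ j)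
    (hj' : Shift j' δXT' δXT cj) (o : G S δS) :
    pull (setup_of_isPullback hT' sT' hXT') (setup_of_isPullback hT sT hXT) j' hj'
      (gr hS hT hgT sT hXT y hy o) = gr hS hT' hg' sT' hXT' y' hy' o := by
  have := isClosedImmersion_sec sT y hy
  have := isClosedImmersion_sec sT' y' hy'
  have hflat' : Flat (j ≫ gT) := by rw [hjg]; infer_instance
  have hsq := isPullback_sec sT sT' y hy j hjg j' j'1 j'2 y' hy' hyj
  unfold gr
  rw [pull_push hT (setup_of_isPullback hT sT hXT) hT' (setup_of_isPullback hT' sT' hXT') hsq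
    (deltaCompat_sec sT y hy hXT) (deltaCompat_sec sT' y' hy' hXT') hj' hj]
  congr 1
  have hs' : Shift (j ≫ gT) δT' δS c' := by rw [hjg]; exact hg'
  rw [pull_pull hT' hT hS j gT hj hgT hs' hcj]
  exact pull_congr hT' hS hjg hs' hg' o

end

variable {k : Type u} [Field k] {V : Scheme.{u}} (p : V ⟶ Spec (CommRingCat.of k))
  [LocallyOfFiniteType p] [IsSeparated p] {δV : V → ℤ} (hV : DeltaCompat p δV (fun _ => 0))
  (o : G (Spec (CommRingCat.of k)) (fun _ => 0)) (x : G V δV)

/-- Over the point `y`, the graph class equals the base change of `x`. -/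
def GrEq (K : Type u) [Field K] (y : Spec (CommRingCat.of K) ⟶ V) : Prop :=
  ∀ (P : Scheme.{u}) (pP : P ⟶ V) (qP : P ⟶ Spec (CommRingCat.of K)) (δP : P → ℤ)
    (h : IsPullback pP qP p (y ≫ p)) (hP : DeltaCompat qP δP (fun _ => 0)),
    gr (isSetup_spec_field k) (isSetup_spec_field K) (shift_zero _ fun _ => rfl) h hP y rfl o =
      bc (isSetup_spec_field k) (isSetup_spec_field K) (shift_zero _ fun _ => rfl) hV h hP x

variable {p hV o x}

theorem GrEq.up {K L : Type u} [Field K] [Field L] (ψ : K →+* L)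
    {y : Spec (CommRingCat.of K) ⟶ V} (hy : GrEq p hV o x K y) :
    GrEq p hV o x L (Spec.map (CommRingCat.ofHom ψ) ≫ y) := by
  intro P' pP' qP' δP' h' hP'
  have h := IsPullback.of_hasPullback p (y ≫ p)
  have := lft_of_isPullback h
  obtain ⟨δP, hP⟩ := SetupLft.exists_deltaCompat (pullback.snd p (y ≫ p)) (fun _ => 0)
  have i1 := flat_spec_of_field (CommRingCat.ofHom ψ)
  let j' : P' ⟶ pullback p (y ≫ p) :=
    h.lift pP' (qP' ≫ Spec.map (CommRingCat.ofHom ψ)) (by
      rw [h'.w, Category.assoc, Category.assoc])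
  have j'1 : j' ≫ pullback.fst p (y ≫ p) = pP' := h.lift_fst _ _ _
  have j'2 : j' ≫ pullback.snd p (y ≫ p) = qP' ≫ Spec.map (CommRingCat.ofHom ψ) :=
    h.lift_snd _ _ _
  have sj : IsPullback j' qP' (pullback.snd p (y ≫ p)) (Spec.map (CommRingCat.ofHom ψ)) := by
    refine IsPullback.of_right ?_ j'2 h
    rw [j'1, ← Category.assoc]
    exact h'
  have i2 := flat_of_isPullback sj
  have hj' := shift_of_isPullback sj (shift_zero _ fun _ => rfl) hP hP'
  have e1 := pull_gr (Category.assoc _ _ _).symm (isSetup_spec_field k) (isSetup_spec_field K)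
    (isSetup_spec_field L) (by ring) (shift_zero (y ≫ p) fun _ => rfl)
    (shift_zero ((Spec.map (CommRingCat.ofHom ψ) ≫ y) ≫ p) fun _ => rfl)
    (shift_zero (Spec.map (CommRingCat.ofHom ψ)) fun _ => rfl) h hP h' hP' y rfl
    (Spec.map (CommRingCat.ofHom ψ) ≫ y) rfl rfl j' j'1 j'2 hj' o
  have e2 := bc_bc (isSetup_spec_field k) (isSetup_spec_field K)
    (isSetup_spec_field L) (shift_zero (y ≫ p) fun _ => rfl)
    (shift_zero (Spec.map (CommRingCat.ofHom ψ)) fun _ => rfl)
    (shift_zero ((Spec.map (CommRingCat.ofHom ψ) ≫ y) ≫ p) fun _ => rfl) hV h hP sj h' hP'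
    j'1 (by ring) x
  rw [← e1, hy _ _ _ _ h hP, ← e2]
  rfl

theorem GrEq.dvr {R : Type u} [CommRing R] [IsDomain R] [IsDiscreteValuationRing R]
    {K : Type u} [Field K] [Algebra R K] [IsFractionRing R K] {κ : Type u} [Field κ]
    [Algebra R κ] (hκ : Function.Surjective (algebraMap R κ)) (y : Spec (CommRingCat.of R) ⟶ V)
    (hy : GrEq p hV o x K (Spec.map (CommRingCat.ofHom (algebraMap R K)) ≫ y)) :
    GrEq p hV o x κ (Spec.map (CommRingCat.ofHom (algebraMap R κ)) ≫ y) := by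
  obtain ⟨t, ht⟩ := IsDiscreteValuationRing.exists_irreducible R
  have i1 := isOpenImmersion_fractionRing R K
  have i2 := isClosedImmersion_residue R hκ
  intro P q₀ r₀ δP h hP
  have hU := IsPullback.of_hasPullback p
    ((Spec.map (CommRingCat.ofHom (algebraMap R K)) ≫ y) ≫ p)
  have hT := IsPullback.of_hasPullback p (y ≫ p)
  have := lft_of_isPullback hU
  have := lft_of_isPullback hT
  obtain ⟨δU, hδU⟩ := SetupLft.exists_deltaCompat
    (pullback.snd p ((Spec.map (CommRingCat.ofHom (algebraMap R K)) ≫ y) ≫ p)) (fun _ => 0)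
  obtain ⟨δT, hδT⟩ := SetupLft.exists_deltaCompat (pullback.snd p (y ≫ p)) (dR R)
  have hker : RingHom.ker (CommRingCat.ofHom (algebraMap R κ)).hom = Ideal.span {t} := by
    rw [CommRingCat.hom_ofHom, ker_residue R hκ]
    exact ht.maximalIdeal_eq
  exact graph_specialise (range_compl R K hκ) (vanFun_spec (CommRingCat.ofHom (algebraMap R κ)) hκ t
    hker) (regular_uniformizer R t ht.ne_zero) (Category.assoc _ _ _).symm
    (Category.assoc _ _ _).symm (isSetup_spec_field k) (isSetup_spec_dvr R)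
    (isSetup_spec_field κ) (isSetup_spec_field K) (cT := 1) (c₀ := 0) (cU := 0) (cj := -1)
    (by norm_num) (by norm_num) (shift_dvr R (y ≫ p) (fun _ => rfl)
      (fun x y => Subsingleton.elim (α := PrimeSpectrum k) _ _))
    (shift_zero _ fun _ => rfl) (shift_zero _ fun _ => rfl)
    (deltaCompat_residue R hκ) (shift_fraction R K) hV hT hδT h hP hU hδU y rfl _ rfl rfl _ rfl rfl
    o x (hy _ _ _ _ hU hδU)

/-- Descent to the residue field of a regular local ring. -/
theorem GrEq.regular {A : Type u} [CommRing A] [IsRegularLocalRing A]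
    {K : Type u} [Field K] [Algebra A K] [IsFractionRing A K] {κ : Type u} [Field κ]
    [Algebra A κ] (hκ : Function.Surjective (algebraMap A κ)) (y : Spec (CommRingCat.of A) ⟶ V)
    (hy : GrEq p hV o x K (Spec.map (CommRingCat.ofHom (algebraMap A K)) ≫ y)) :
    GrEq p hV o x κ (Spec.map (CommRingCat.ofHom (algebraMap A κ)) ≫ y) := by
  obtain ⟨n, hn⟩ : ∃ n : ℕ, ringKrullDim A < n := by
    have h1 : ringKrullDim A < ⊤ := ringKrullDim_lt_top
    have h2 : (0 : WithBot ℕ∞) ≤ ringKrullDim A := ringKrullDim_nonneg_of_nontrivial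
    obtain ⟨a, ha⟩ := WithBot.ne_bot_iff_exists.1 (ne_of_gt (lt_of_lt_of_le (WithBot.bot_lt_coe _)
      h2))
    rw [← ha] at h1
    obtain ⟨m, hm⟩ := ENat.ne_top_iff_exists.1 (WithBot.coe_lt_coe.1 h1).ne
    exact ⟨m + 1, by rw [← ha, ← hm]; exact_mod_cast Nat.lt_succ_self m⟩
  exact RegChain.regular_induction (fun K _ y => GrEq p hV o x K y)
    (fun K L _ _ ψ y h => GrEq.up ψ h)
    (fun R _ _ _ K _ _ _ κ _ _ hκ y h => GrEq.dvr hκ y h) n A hn K κ hκ y hy

end K309.Graph
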