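import Groth.Agent.S3238
import Groth.Agent.S0383
import Groth.Agent.Etcore.JacGrp
import Groth.Agent.Fdesc.GeomAlgClosed
import Groth.Agent.Picfga.RatPts
import Mathlib.AlgebraicGeometry.AlgClosed.Basic

/-!
# Divisibility of the degree zero Picard group of a smooth proper curve

`exists_pow_eq`: over an algebraically closed field, every class of degree zero in `Pic C` is an `n`-th
power, for every `n ≥ 1`.
-/

set_option autoImplicit false
universe u
open CategoryTheory CategoryTheory.Limits AlgebraicGeometry MonoidalCategory CartesianMonoidalCategory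
  MonObj

namespace K309.PicDiv

open Groth.Agent Grpsch.PicGrp Etcore.DegZero Etcore.FibreDeg Etcore.JacGrp

/-- Pullback along an isomorphism is bijective on Picard groups. -/
theorem pull_bijective {X Y : Scheme.{u}} (e : X ⟶ Y) [IsIso e] : Function.Bijective (pull e) := by
  constructor
  · intro a b h
    have h1 := congrArg (pull (inv e)) h
    rwa [← pull_comp, ← pull_comp, IsIso.inv_hom_id, pull_id, pull_id] at h1
  · intro a
    refine ⟨pull (inv e) a, ?_⟩
    rw [← pull_comp, IsIso.hom_inv_id, pull_id]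

/-- Rational points of an abelian variety over an algebraically closed field are divisible. -/
theorem exists_pow_point {k : Type u} [Field k] [IsAlgClosed k] (A : Over (Spec (CommRingCat.of k)))
    [GrpObj A] [IsProper A.hom] [GeometricallyIntegral A.hom] (n : ℕ) (hn : 1 ≤ n)
    (x : Over.mk (𝟙 (Spec (CommRingCat.of k))) ⟶ A) :
    ∃ y : Over.mk (𝟙 (Spec (CommRingCat.of k))) ⟶ A, y ^ n = x := by
  have hx : x.left ≫ A.hom = 𝟙 _ := Over.w x
  let x0 : A.left := (pointEquivClosedPoint A.hom ⟨x.left, hx⟩).1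
  have hx0 : IsClosed ({x0} : Set A.left) := (pointEquivClosedPoint A.hom ⟨x.left, hx⟩).2
  have hcomp : CompactSpace A.left := QuasiCompact.compactSpace_of_compactSpace A.hom
  obtain ⟨y0, hy0⟩ := (S0383.result k A n hn).surj x0
  obtain ⟨y, hy, hyc⟩ := (hx0.preimage ((𝟙 A ^ n).left).continuous).exists_closed_singleton ⟨y0, hy0⟩
  let yy : Over.mk (𝟙 (Spec (CommRingCat.of k))) ⟶ A :=
    Over.homMk (pointOfClosedPoint A.hom y hyc) (pointOfClosedPoint_comp A.hom y hyc)
  refine ⟨yy, ?_⟩
  have h1 : yy ^ n = yy ≫ (𝟙 A ^ n) := by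
    rw [MonObj.comp_pow, Category.comp_id]
  rw [h1]
  apply Over.OverMorphism.ext
  refine ext_of_apply_closedPoint_eq A.hom ?_ hx ?_
  · exact Over.w (yy ≫ (𝟙 A ^ n))
  · have h2 : (yy ≫ (𝟙 A ^ n)).left (IsLocalRing.closedPoint k) = (𝟙 A ^ n).left y := by
      have h3 : yy.left (IsLocalRing.closedPoint k) = y := pointOfClosedPoint_apply A.hom y hyc _
      rw [← h3]
      rfl
    rw [h2]
    exact hy

/-- Over an algebraically closed field, every class of degree zero in `Pic C` is an `n`-th power. -/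
theorem exists_pow_eq {k : Type u} [Field k] [IsAlgClosed k] (C : Scheme.{u})
    (f : C ⟶ Spec (CommRingCat.of k)) [IsProper f] [Smooth f] [IsIntegral C]
    (hdim : topologicalKrullDim C = 1) [C.Over (Spec (CommRingCat.of k))]
    (hf : C ↘ Spec (CommRingCat.of k) = f) (n : ℕ) (hn : 1 ≤ n) (c : Pic C)
    (hc : dg k C c = 0) : ∃ b : Pic C, b ^ n = c := by
  have hirr : GeometricallyIrreducible f :=
    Fdesc.GeomAlgClosed.geometricallyIrreducible_of_irreducibleSpace f
  obtain ⟨σ, hσ⟩ := Picfga.RatPts.exists_section_of_smooth f (Classical.arbitrary C)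
  obtain ⟨J, ξ, hJp, hJs, hJi, hξ, huniv⟩ := S3238.result k C f hdim σ hσ
  have hJg : GeometricallyIntegral J.hom := Flat2B.SmoothGeom.geometricallyIntegral_of_smooth J.hom
  let _ := grpObj f hdim σ hσ ξ hξ huniv
  let T : Over (Spec (CommRingCat.of k)) := Over.mk (𝟙 (Spec (CommRingCat.of k)))
  let e : (T ⟶ J) ≃* rig0 f hdim σ hσ T := homEquiv f hdim σ hσ ξ hξ huniv T
  let q : PicF.XT f T ⟶ C := pullback.fst f T.hom
  have hTiso : IsIso T.hom := inferInstanceAs (IsIso (𝟙 _))
  have hq : IsIso q := inferInstance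
  have hcomp : CompactSpace C := QuasiCompact.compactSpace_of_compactSpace f
  have hqs : QuasiSeparatedSpace C := by
    have : QuasiSeparated f := inferInstance
    exact quasiSeparatedSpace_of_quasiSeparated f
  have hmem : pull q c ∈ rig0 f hdim σ hσ T := by
    refine ⟨pic_spec_local k _, fun t => ?_⟩
    rw [fdeg, ← pull_comp]
    have hpb := isPullback_fibre f T t
    rw [← hf] at hpb
    rw [← hc]
    subst hf
    exact dg_pull k C _ _ _ _ hpb c
  obtain ⟨x, hx⟩ := e.surjective ⟨pull q c, hmem⟩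
  obtain ⟨y, hy⟩ := exists_pow_point J n hn x
  obtain ⟨b, hb⟩ := (pull_bijective q).2 (e y).1
  refine ⟨b, (pull_bijective q).1 ?_⟩
  rw [map_pow, hb]
  have h1 : (e y) ^ n = ⟨pull q c, hmem⟩ := by rw [← map_pow, hy, hx]
  exact congrArg Subtype.val h1

end K309.PicDiv
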