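import Groth.Agent.Cyc.K309.ProdSurj
import Groth.Agent.Cyc.K309.DimIrr

/-!
# Divisor class groups of products with a rational variety
-/

set_option autoImplicit false
universe u
open AlgebraicGeometry CategoryTheory CategoryTheory.Limits TopologicalSpace Opposite Cyc
open Groth.Agent Groth.Agent.CycB
open K308.Grp K309.Gys K309.Bc K309.Dvr K309.FieldExt
open Groth.Agent.CycB.SetupDVR

namespace K309.ProdCl

section Const

variable {X Y : Scheme.{u}}

theorem delta_const [IrreducibleSpace X] {δ δ' : X → ℤ} (h : IsDimFun X δ) (h' : IsDimFun X δ')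
    (x : X) : δ x = δ' x + (δ (genericPoint X) - δ' (genericPoint X)) := by
  obtain ⟨h1, h2⟩ := DimIrr.ringKrullDim_stalk h x
  obtain ⟨h3, h4⟩ := DimIrr.ringKrullDim_stalk h' x
  rw [h1] at h3
  have h5 : (δ (genericPoint X) - δ x).toNat = (δ' (genericPoint X) - δ' x).toNat := by
    exact_mod_cast h3
  omega

theorem divFun_const (δ : X → ℤ) (c : ℤ) (ξ : X) (f : X.residueField ξ) :
    divFun (fun x => δ x + c) ξ f = divFun δ ξ f := by
  funext x
  unfold divFun
  by_cases h : ξ ⤳ x ∧ δ x + 1 = δ ξ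
  · rw [dif_pos h, dif_pos ⟨h.1, by have := h.2; dsimp only; omega⟩]
  · rw [dif_neg h, dif_neg]
    rintro ⟨h1, h2⟩
    exact h ⟨h1, by dsimp only at h2; omega⟩

theorem ratEquivZero_const {δ δ' : X → ℤ} {c : ℤ} (h : ∀ x, δ x = δ' x + c) {k k' : ℤ}
    (hk : k = k' + c) {α : AlgebraicCycle X ℤ} :
    RatEquivZero δ k α ↔ RatEquivZero δ' k' α := by
  obtain rfl : δ = fun x => δ' x + c := funext h
  subst hk
  constructor
  · rintro ⟨ι, ξ, f, h1, h2, h3, h4⟩
    refine ⟨ι, ξ, f, fun i => by have := h1 i; dsimp only at this ⊢; omega, h2, h3, fun x => ?_⟩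
    rw [h4]
    exact finsum_congr fun i => congrFun (divFun_const δ' c (ξ i) (f i)) x
  · rintro ⟨ι, ξ, f, h1, h2, h3, h4⟩
    refine ⟨ι, ξ, f, fun i => by have := h1 i; dsimp only at this ⊢; omega, h2, h3, fun x => ?_⟩
    rw [h4]
    exact finsum_congr fun i => congrFun (divFun_const δ' c (ξ i) (f i)).symm x

theorem pullFun_const (f : X ⟶ Y) {δX δX' : X → ℤ} {δY δY' : Y → ℤ} {c : ℤ}
    (hX : ∀ x, δX x = δX' x + c) (hY : ∀ y, δY y = δY' y + c) (r : ℤ) (α : Y → ℤ) :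
    pullFun f δX δY r α = pullFun f δX' δY' r α := by
  funext x
  rw [FlatLength.pullFun_apply, FlatLength.pullFun_apply]
  by_cases h : δX x = δY (f x) + r
  · rw [if_pos h, if_pos (by rw [hX, hY] at h; omega)]
  · rw [if_neg h, if_neg (by rw [hX, hY] at h; omega)]

theorem zk_const {δ δ' : X → ℤ} {c : ℤ} (h : ∀ x, δ x = δ' x + c) {k k' : ℤ}
    (hk : k = k' + c) {α : AlgebraicCycle X ℤ} : α ∈ Zk X δ k ↔ α ∈ Zk X δ' k' := by
  constructor
  · intro hα x hx
    exact hα x (by rw [h, hk]; omega)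
  · intro hα x hx
    exact hα x (by rw [h, hk] at hx; omega)

end Const

variable {k : Type u} [Field k] [IsAlgClosed k] {X Y P : Scheme.{u}}
  {f : X ⟶ Spec (CommRingCat.of k)} {g : Y ⟶ Spec (CommRingCat.of k)} {p : P ⟶ X} {q : P ⟶ Y}

open Groth.Agent.CycA.GenProd in
/-- Normalisation of the dimension functions. -/
theorem exists_normalised [IsIntegral X] [IsIntegral Y] [LocallyOfFiniteType f]
    [LocallyOfFiniteType g] (h : IsPullback p q f g)
    {δX : X → ℤ} {δY : Y → ℤ} {δP : P → ℤ} (hsX : IsSetup X δX) (hsY : IsSetup Y δY)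
    (hc₁ : DeltaCompat p δP δX) (hc₂ : DeltaCompat q δP δY) :
    ∃ (tX : X → ℤ) (tY : Y → ℤ) (tP : P → ℤ) (c : ℤ), DeltaCompat f tX (fun _ => 0) ∧
      DeltaCompat g tY (fun _ => 0) ∧ DeltaCompat p tP tX ∧ DeltaCompat q tP tY ∧
      (∀ x, δX x = tX x + c) ∧ (∀ y, δY y = tY y + c) ∧ (∀ z, δP z = tP z + c) := by
  have i1 : LocallyOfFiniteType p := MorphismProperty.of_isPullback (P := @LocallyOfFiniteType) h.flip inferInstance
  have i2 : LocallyOfFiniteType q := MorphismProperty.of_isPullback (P := @LocallyOfFiniteType) h inferInstance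
  obtain ⟨tX, hX⟩ := SetupLft.exists_deltaCompat f (fun _ => 0)
  obtain ⟨tY, hY⟩ := SetupLft.exists_deltaCompat g (fun _ => 0)
  obtain ⟨tP, hP⟩ := SetupLft.exists_deltaCompat p tX
  have hPk : DeltaCompat (q ≫ g) tP (fun _ => 0) := by
    rw [← h.w]
    exact RelDim.deltaCompat_comp hP hX
  have hP' : DeltaCompat q tP tY := K930.PushPull.deltaCompat_of_comp q g hPk hY
  have hXs := SetupLft.isSetup_of_deltaCompat f (isSetup_spec_field k) hX
  have hYs := SetupLft.isSetup_of_deltaCompat g (isSetup_spec_field k) hY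
  have h1 := delta_const hsX.2.2 hXs.2.2
  have h2 := delta_const hsY.2.2 hYs.2.2
  have h3 : ∀ z, δP z = tP z + (δX (genericPoint X) - tX (genericPoint X)) := by
    intro z
    obtain ⟨n, hn, hn'⟩ := RelDim.deltaCompat_iff.1 hc₁ z
    obtain ⟨m, hm, hm'⟩ := RelDim.deltaCompat_iff.1 hP z
    rw [hn] at hm
    have : n = m := by exact_mod_cast hm
    rw [hn', hm', h1 (p z), this]
    ring
  have h4 : ∀ z, δP z = tP z + (δY (genericPoint Y) - tY (genericPoint Y)) := by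
    intro z
    obtain ⟨n, hn, hn'⟩ := RelDim.deltaCompat_iff.1 hc₂ z
    obtain ⟨m, hm, hm'⟩ := RelDim.deltaCompat_iff.1 hP' z
    rw [hn] at hm
    have : n = m := by exact_mod_cast hm
    rw [hn', hm', h2 (q z), this]
    ring
  have h5 := h3 (gen2 h (genericPoint X) (genericPoint Y))
  rw [h4] at h5
  exact ⟨tX, tY, tP, _, hX, hY, hP, hP', h1, fun y => by rw [h2 y]; omega, h3⟩

theorem main [IsIntegral X] [IsIntegral Y] [LocallyOfFiniteType f] [LocallyOfFiniteType g]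
    [QuasiCompact g] (h : IsPullback p q f g) {δX : X → ℤ} {δY : Y → ℤ} {δP : P → ℤ}
    (hX : DeltaCompat f δX (fun _ => 0)) (hY : DeltaCompat g δY (fun _ => 0))
    (hP : DeltaCompat p δP δX) (hP' : DeltaCompat q δP δY)
    (U : X.Opens) (hU : (U : Set X).Nonempty) (n : ℕ)
    (φ : (U : Scheme.{u}) ⟶ 𝔸(ULift.{u} (Fin n); Spec (CommRingCat.of k))) [IsOpenImmersion φ]
    (hφ : φ ≫ (𝔸(ULift.{u} (Fin n); Spec (CommRingCat.of k)) ↘ Spec (CommRingCat.of k)) =
      U.ι ≫ f) (ηX : X) (ηY : Y) (ηP : P) (hηX : closure ({ηX} : Set X) = Set.univ)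
    (hηY : closure ({ηY} : Set Y) = Set.univ) (hηP : closure ({ηP} : Set P) = Set.univ) :
    (∀ γ ∈ Zk P δP (δP ηP - 1),
      ∃ α ∈ Zk X δX (δX ηX - 1), ∃ β ∈ Zk Y δY (δY ηY - 1),
        ∃ γ' : AlgebraicCycle P ℤ,
          (∀ z, γ' z = pullFun p δP δX (δP ηP - δX ηX) α z +
            pullFun q δP δY (δP ηP - δY ηY) β z) ∧
          RatEquiv δP (δP ηP - 1) γ γ') ∧
    (∀ α ∈ Zk X δX (δX ηX - 1), ∀ β ∈ Zk Y δY (δY ηY - 1),
      ∀ γ' : AlgebraicCycle P ℤ,
        (∀ z, γ' z = pullFun p δP δX (δP ηP - δX ηX) α z +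
            pullFun q δP δY (δP ηP - δY ηY) β z) →
        RatEquivZero δP (δP ηP - 1) γ' →
        RatEquivZero δX (δX ηX - 1) α ∧ RatEquivZero δY (δY ηY - 1) β) := by
  have i1 : LocallyOfFiniteType p := MorphismProperty.of_isPullback (P := @LocallyOfFiniteType) h.flip inferInstance
  have i2 : LocallyOfFiniteType q := MorphismProperty.of_isPullback (P := @LocallyOfFiniteType) h inferInstance
  have hXs := SetupLft.isSetup_of_deltaCompat f (isSetup_spec_field k) hX
  have hYs := SetupLft.isSetup_of_deltaCompat g (isSetup_spec_field k) hY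
  have hPs := SetupLft.isSetup_of_deltaCompat p hXs hP
  have hPk : DeltaCompat (p ≫ f) δP (fun _ => 0) := RelDim.deltaCompat_comp hP hX
  obtain rfl : ηX = genericPoint X :=
    ((genericPoint_specializes ηX).antisymm (specializes_iff_mem_closure.2 (hηX ▸ trivial))).eq.symm
  obtain rfl : ηY = genericPoint Y :=
    ((genericPoint_specializes ηY).antisymm (specializes_iff_mem_closure.2 (hηY ▸ trivial))).eq.symm
  obtain rfl : ηP = CycA.GenProd.gen2 h (genericPoint X) (genericPoint Y) := by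
    refine (Specializes.antisymm (specializes_iff_mem_closure.2 (hηP ▸ trivial)) ?_).eq
    rw [CycA.GenProd.gen2_specializes_iff]
    exact ⟨genericPoint_specializes _, genericPoint_specializes _⟩
  rw [CycA.GenProd.delta_gen2 h _ _ hX hY hPk, add_sub_cancel_left, add_sub_cancel_right]
  have e1 : δX (genericPoint X) + δY (genericPoint Y) - 1 =
    δY (genericPoint Y) - 1 + δX (genericPoint X) := by ring
  have e2 : δY (genericPoint Y) - 1 + δX (genericPoint X) =
    δX (genericPoint X) - 1 + δY (genericPoint Y) := by ring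
  have hsp : Shift p δP δX (δY (genericPoint Y)) :=
    shift_of_isPullback h (ProdInj.shift_structure g δY) hX hP'
  have hsq : Shift q δP δY (δX (genericPoint X)) :=
    shift_of_isPullback h.flip (ProdInj.shift_structure f δX) hY hP
  refine ⟨fun γ hγ => ?_, fun α hα β hβ γ' hγ' hrat => ?_⟩
  · rw [e1] at hγ ⊢
    obtain ⟨β, hβ, β', ε, hβ', hε, hε0, hrat⟩ :=
      ProdSurj.exists_decomp h hX hY hP U hU n φ hφ (δY (genericPoint Y) - 1) γ hγ
    rw [e2] at hε
    obtain ⟨α, hα, hα'⟩ := ProdSurj.exists_fst h hX hP hP' U hU ε hε hε0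
    refine ⟨α, hα, β, hβ, β' + ε, fun z => ?_, hrat⟩
    rw [← hβ', ← hα', add_comm]
    rfl
  · have h0 := cl_eq_zero_of_ratEquivZero hrat
    have hα0 : α (genericPoint X) = 0 := hα _ (by omega)
    have hβ0 : β (genericPoint Y) = 0 := hβ _ (by omega)
    have h1 : cl δY β = 0 := ProdInj.eq_zero_of_prod f h hX hY hP hsp hα0 hγ' h0
    have h2 : cl δX α = 0 := ProdInj.eq_zero_of_prod g h.flip hY hX hP' hsq hβ0
      (fun z => by rw [hγ' z, add_comm]) h0
    exact ⟨(cl_eq_zero_iff hα).1 h2, (cl_eq_zero_iff hβ).1 h1⟩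

/-- The statement with arbitrary dimension functions. -/
theorem main' [IsIntegral X] [IsIntegral Y] [LocallyOfFiniteType f] [LocallyOfFiniteType g]
    [QuasiCompact g] (h : IsPullback p q f g) {δX : X → ℤ} {δY : Y → ℤ} {δP : P → ℤ}
    (hsX : IsSetup X δX) (hsY : IsSetup Y δY)
    (hc₁ : DeltaCompat p δP δX) (hc₂ : DeltaCompat q δP δY)
    (U : X.Opens) (hU : (U : Set X).Nonempty) (n : ℕ)
    (φ : (U : Scheme.{u}) ⟶ 𝔸(ULift.{u} (Fin n); Spec (CommRingCat.of k))) [IsOpenImmersion φ]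
    (hφ : φ ≫ (𝔸(ULift.{u} (Fin n); Spec (CommRingCat.of k)) ↘ Spec (CommRingCat.of k)) =
      U.ι ≫ f) (ηX : X) (ηY : Y) (ηP : P) (hηX : closure ({ηX} : Set X) = Set.univ)
    (hηY : closure ({ηY} : Set Y) = Set.univ) (hηP : closure ({ηP} : Set P) = Set.univ) :
    (∀ γ ∈ Zk P δP (δP ηP - 1),
      ∃ α ∈ Zk X δX (δX ηX - 1), ∃ β ∈ Zk Y δY (δY ηY - 1),
        ∃ γ' : AlgebraicCycle P ℤ,
          (∀ z, γ' z = pullFun p δP δX (δP ηP - δX ηX) α z +
            pullFun q δP δY (δP ηP - δY ηY) β z) ∧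
          RatEquiv δP (δP ηP - 1) γ γ') ∧
    (∀ α ∈ Zk X δX (δX ηX - 1), ∀ β ∈ Zk Y δY (δY ηY - 1),
      ∀ γ' : AlgebraicCycle P ℤ,
        (∀ z, γ' z = pullFun p δP δX (δP ηP - δX ηX) α z +
            pullFun q δP δY (δP ηP - δY ηY) β z) →
        RatEquivZero δP (δP ηP - 1) γ' →
        RatEquivZero δX (δX ηX - 1) α ∧ RatEquivZero δY (δY ηY - 1) β) := by
  obtain ⟨tX, tY, tP, c, hX, hY, hP, hP', eX, eY, eP⟩ := exists_normalised h hsX hsY hc₁ hc₂
  obtain ⟨m1, m2⟩ := main h hX hY hP hP' U hU n φ hφ ηX ηY ηP hηX hηY hηP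
  have d1 : δP ηP - δX ηX = tP ηP - tX ηX := by rw [eP, eX]; ring
  have d2 : δP ηP - δY ηY = tP ηP - tY ηY := by rw [eP, eY]; ring
  have kX : δX ηX - 1 = tX ηX - 1 + c := by rw [eX]; ring
  have kY : δY ηY - 1 = tY ηY - 1 + c := by rw [eY]; ring
  have kP : δP ηP - 1 = tP ηP - 1 + c := by rw [eP]; ring
  rw [d1, d2]
  refine ⟨fun γ hγ => ?_, fun α hα β hβ γ' hγ' hrat => ?_⟩
  · obtain ⟨α, hα, β, hβ, γ', h1, h2⟩ := m1 γ ((zk_const eP kP).1 hγ)
    refine ⟨α, (zk_const eX kX).2 hα, β, (zk_const eY kY).2 hβ, γ', fun z => ?_,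
      (ratEquivZero_const eP kP).2 h2⟩
    rw [pullFun_const p eP eX, pullFun_const q eP eY]
    exact h1 z
  · obtain ⟨h1, h2⟩ := m2 α ((zk_const eX kX).1 hα) β ((zk_const eY kY).1 hβ) γ' (fun z => by
      rw [hγ' z, pullFun_const p eP eX, pullFun_const q eP eY]) ((ratEquivZero_const eP kP).1 hrat)
    exact ⟨(ratEquivZero_const eX kX).2 h1, (ratEquivZero_const eY kY).2 h2⟩

end K309.ProdCl
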