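import Groth.Agent.Cyc.K309.ProdCl
import Groth.Agent.CycB.RatTransport
import Groth.Agent.CycB.DivFun

/-!
# Spreading out rational equivalence from the generic fibre

`s : P → W` quasi-compact, `W` integral with generic point `η`, `P_η → P` the generic fibre. A cycle on
`P` whose restriction to `P_η` is rationally equivalent to zero is rationally equivalent to zero over a
nonempty open subset of `W`.
-/

set_option autoImplicit false
universe u
open AlgebraicGeometry CategoryTheory CategoryTheory.Limits TopologicalSpace Opposite Cyc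
open Groth.Agent Groth.Agent.CycB
open K308.Grp K309.Gys K309.Bc K309.Dvr K309.FieldExt
open Groth.Agent.CycB.SetupDVR

namespace K309.Spread

variable {W P Q : Scheme.{u}}

theorem mult_preimm (j : Q ⟶ P) [IsPreimmersion j] (x : Q) : FlatLength.mult j x = 1 := by
  unfold FlatLength.mult
  have hs : Function.Surjective (j.stalkMap x).hom := j.stalkMap_surjective x
  rw [IsLocalRing.map_maximalIdeal_of_surjective _ hs]
  have : IsSimpleModule (Q.presheaf.stalk x)
      (Q.presheaf.stalk x ⧸ IsLocalRing.maximalIdeal (Q.presheaf.stalk x)) :=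
    isSimpleModule_iff_isCoatom.2 (IsLocalRing.maximalIdeal.isMaximal _).out
  exact Module.length_eq_one _ _

theorem pullFun_preimm (j : Q ⟶ P) [IsPreimmersion j] {δQ : Q → ℤ} {δP : P → ℤ} {c : ℤ}
    (h : ∀ x, δQ x = δP (j x) + c) (α : P → ℤ) (x : Q) : pullFun j δQ δP c α x = α (j x) := by
  rw [FlatLength.pullFun_apply, mult_preimm, if_pos (h x)]
  simp

/-- A family of points of a compact space which is locally finite is finite. -/
theorem finite_of_locFin [CompactSpace Q] {ι : Type*} {ζ : ι → Q} (h : RatTransport.LocFin ζ) :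
    Finite ι := by
  have hlf : LocallyFinite fun j => closure {ζ j} := by
    intro z
    obtain ⟨U, hU, hz, hfin⟩ := h z
    exact ⟨U, hU.mem_nhds hz, hfin⟩
  have hfin := hlf.finite_nonempty_inter_compact (isCompact_univ (X := Q))
  have h2 : {i | (closure {ζ i} ∩ Set.univ).Nonempty} = Set.univ := by
    refine Set.eq_univ_of_forall fun i => ⟨ζ i, subset_closure rfl, trivial⟩
  rw [h2] at hfin
  exact Set.finite_univ_iff.1 hfin

theorem locFin_of_finite {ι : Type*} [Finite ι] (ζ : ι → Q) : RatTransport.LocFin ζ :=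
  fun _ => ⟨Set.univ, isOpen_univ, trivial, Set.toFinite _⟩

/-- The support of a cycle meets a compact open in a finite set. -/
theorem finite_support_inter (D : AlgebraicCycle P ℤ) {K : Set P} (hK : IsCompact K) :
    {x | x ∈ K ∧ D x ≠ 0}.Finite := by
  have h1 : ∀ z : P, ∃ t ∈ nhds z, (t ∩ {x | D x ≠ 0}).Finite := by
    intro z
    obtain ⟨t, ht, hfin⟩ := D.supportLocallyFiniteWithinDomain' z (by trivial)
    exact ⟨t, ht, hfin⟩
  choose t ht hfin using h1
  obtain ⟨s, -, hs⟩ := hK.elim_nhds_subcover t (fun z _ => ht z)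
  refine (s.finite_toSet.biUnion fun z _ => hfin z).subset ?_
  rintro x ⟨hxK, hx⟩
  obtain ⟨z, hz, hxz⟩ := Set.mem_iUnion₂.1 (hs hxK)
  exact Set.mem_iUnion₂.2 ⟨z, hz, hxz, hx⟩

theorem range_of_isPullback_fromSpecStalk [IsIntegral W] {s : P ⟶ W} {p : Q ⟶ P}
    {q : Q ⟶ Spec (W.presheaf.stalk (genericPoint W))}
    (h : IsPullback p q s (W.fromSpecStalk (genericPoint W))) {x : P}
    (hx : s x = genericPoint W) : x ∈ Set.range p := by
  rw [range_of_isPullback h, Set.mem_preimage, hx, Scheme.range_fromSpecStalk]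
  exact specializes_rfl

/-- **Spreading out.** A cycle which is rationally equivalent to zero on the generic fibre is
rationally equivalent to zero over a nonempty open. -/
theorem exists_open [IsIntegral W] {δ : P → ℤ} (hP : IsSetup P δ) {s : P ⟶ W} [QuasiCompact s]
    {p : Q ⟶ P} {q : Q ⟶ Spec (W.presheaf.stalk (genericPoint W))}
    (h : IsPullback p q s (W.fromSpecStalk (genericPoint W))) {k : ℤ} {α : AlgebraicCycle P ℤ}
    {α' : AlgebraicCycle Q ℤ} (hα' : ∀ z, α' z = α (p z))
    (h0 : RatEquivZero (fun z => δ (p z)) k α') :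
    ∃ U : W.Opens, (U : Set W).Nonempty ∧ ∀ β : AlgebraicCycle (↑(s ⁻¹ᵁ U)) ℤ,
      (∀ y, β y = α ((s ⁻¹ᵁ U).ι y)) → RatEquivZero (fun y => δ ((s ⁻¹ᵁ U).ι y)) k β := by
  classical
  have hp : IsPreimmersion p := MorphismProperty.of_isPullback (P := @IsPreimmersion) h.flip inferInstance
  have hq : QuasiCompact q := MorphismProperty.of_isPullback (P := @QuasiCompact) h inferInstance
  have hQ : CompactSpace Q := QuasiCompact.compactSpace_of_compactSpace q
  obtain ⟨ι, ζ, g, hζ, hg, hlf, hsum⟩ := h0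
  have hι : Finite ι := finite_of_locFin hlf
  choose f hf hd using fun j : ι => RatTransport.exists_extend p δ (ζ j) (g j) (hg j)
  have hlf' : RatTransport.LocFin (fun j => p (ζ j)) := locFin_of_finite _
  have := hP.1
  obtain ⟨S, hS⟩ := DivFun.exists_cycle_sum_divFun hP.2.2 ((DivFun.locFin_iff _).2 hlf') f
  have hS0 : RatEquivZero δ k S := ⟨ι, fun j => p (ζ j), f, hζ, hf, hlf', hS⟩
  -- the difference vanishes over the generic point
  have hD : ∀ x, α x - S x ≠ 0 → s x ≠ genericPoint W := by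
    intro x hx hsx
    obtain ⟨z, rfl⟩ := range_of_isPullback_fromSpecStalk h hsx
    apply hx
    rw [← hα', hsum, hS, sub_eq_zero]
    exact (finsum_congr fun j => hd j z).symm
  obtain ⟨V, hV, hηV, -⟩ := exists_isAffineOpen_mem_and_subset (x := genericPoint W)
    (U := ⊤) trivial
  have hK : IsCompact (⇑s ⁻¹' (V : Set W)) :=
    QuasiCompact.isCompact_preimage (f := s) V V.isOpen hV.isCompact
  have hfin := finite_support_inter (α - S) hK
  let Z : Set W := ⋃ x ∈ {x | x ∈ ⇑s ⁻¹' (V : Set W) ∧ (α - S) x ≠ 0}, closure {s x}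
  have hZ : IsClosed Z := hfin.isClosed_biUnion fun _ _ => isClosed_closure
  have hηZ : genericPoint W ∉ Z := by
    intro hη
    obtain ⟨x, hx, hηx⟩ := Set.mem_iUnion₂.1 hη
    refine hD x hx.2 ?_
    exact ((genericPoint_specializes (s x)).antisymm (specializes_iff_mem_closure.2 hηx)).eq.symm
  refine ⟨⟨(V : Set W) ∩ Zᶜ, V.isOpen.inter hZ.isOpen_compl⟩, ⟨genericPoint W, hηV, hηZ⟩, ?_⟩
  intro β hβ
  refine RatTransport.ratEquivZero_restrict (Scheme.Opens.ι _) δ k S hS0 β fun y => ?_
  rw [hβ]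
  by_contra hne
  have hy : s (Scheme.Opens.ι _ y) ∈ (V : Set W) ∩ Zᶜ := y.2
  refine hy.2 (Set.mem_iUnion₂.2 ⟨_, ⟨hy.1, ?_⟩, subset_closure rfl⟩)
  exact sub_ne_zero.2 hne

/-- The dimension function on the generic fibre. -/
theorem delta_generic [IsIntegral W] [IsLocallyNoetherian W] {δW : W → ℤ} {δ : P → ℤ} {s : P ⟶ W}
    [LocallyOfFiniteType s] (hδ : DeltaCompat s δ δW) {p : Q ⟶ P}
    {q : Q ⟶ Spec (CommRingCat.of W.functionField)}
    (h : IsPullback p q s (W.fromSpecStalk (genericPoint W))) {δQ : Q → ℤ}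
    (hδQ : DeltaCompat q δQ (fun _ => 0)) (z : Q) :
    δQ z = δ (p z) + (- δW (genericPoint W)) := by
  have hp : IsPreimmersion p := MorphismProperty.of_isPullback (P := @IsPreimmersion) h.flip inferInstance
  exact shift_of_isPullback h (ProdInj.shift_fromSpecStalk δW) hδ hδQ z
    (fun y hy _ => p.isEmbedding.injective hy)

/-- Spreading out, in terms of Chow groups. -/
theorem exists_open_cl [IsIntegral W] {δW : W → ℤ} (hW : IsSetup W δW) {δ : P → ℤ} {s : P ⟶ W}
    [LocallyOfFiniteType s] [QuasiCompact s] (hδ : DeltaCompat s δ δW) {p : Q ⟶ P}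
    {q : Q ⟶ Spec (CommRingCat.of W.functionField)}
    (h : IsPullback p q s (W.fromSpecStalk (genericPoint W))) {δQ : Q → ℤ}
    (hδQ : DeltaCompat q δQ (fun _ => 0)) {k : ℤ} {α : AlgebraicCycle P ℤ} (hα : α ∈ Zk P δ k)
    {α' : AlgebraicCycle Q ℤ} (hα' : ⇑α' = pullFun p δQ δ (- δW (genericPoint W)) ⇑α)
    (h0 : cl δQ α' = 0) :
    ∃ U : W.Opens, (U : Set W).Nonempty ∧ ∀ β : AlgebraicCycle (↑(s ⁻¹ᵁ U)) ℤ,
      (∀ y, β y = α ((s ⁻¹ᵁ U).ι y)) → RatEquivZero (fun y => δ ((s ⁻¹ᵁ U).ι y)) k β := by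
  have := hW.1
  have hp : IsPreimmersion p := MorphismProperty.of_isPullback (P := @IsPreimmersion) h.flip inferInstance
  have hP := SetupLft.isSetup_of_deltaCompat s hW hδ
  have hd := delta_generic hδ h hδQ
  have h1 : ∀ z, α' z = α (p z) := fun z => by
    rw [hα', pullFun_preimm p hd]
  have h2 : α' ∈ Zk Q δQ (k + (- δW (genericPoint W))) := by
    intro z hz
    rw [h1]
    exact hα _ fun h3 => hz (by rw [hd, h3])
  have h3 : RatEquivZero δQ (k + (- δW (genericPoint W))) α' := (cl_eq_zero_iff h2).1 h0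
  exact exists_open hP h h1 ((ProdCl.ratEquivZero_const hd rfl).1 h3)

end K309.Spread
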