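import Groth.Agent.Cyc.K309.FieldExt
import Mathlib.FieldTheory.RatFunc.AsPolynomial
import Mathlib.RingTheory.Polynomial.Basic

/-!
# Finitely generated field extensions kill only torsion classes
-/

set_option autoImplicit false
universe u
open AlgebraicGeometry CategoryTheory Cyc
open K308.Grp K309.Dvr K309.FieldExt K309.RegChain
open scoped Polynomial IntermediateField

namespace K309.TorFg

theorem tor_ratFunc (K : Type u) [Field K] : Tor (algebraMap K (RatFunc K)) := by
  refine tor_of_retract fun X f _ δ hδ x hx => ?_
  have hp : (Ideal.span {(Polynomial.X : K[X])}).IsPrime :=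
    (Ideal.span_singleton_prime Polynomial.X_ne_zero).2 Polynomial.prime_X
  have hR := isDVR_atPrime (Polynomial.X : K[X]) Polynomial.X_ne_zero
  set R := Localization.AtPrime (Ideal.span {(Polynomial.X : K[X])}) with hRdef
  have hinj : Function.Injective (algebraMap K[X] (FractionRing R)) := by
    rw [IsScalarTower.algebraMap_eq K[X] R (FractionRing R)]
    exact (IsFractionRing.injective R _).comp
      (IsLocalization.injective R (Ideal.primeCompl_le_nonZeroDivisors (Ideal.span {Polynomial.X})))
  have h1 := ZeroAt.up (ψ := (IsFractionRing.lift hinj : RatFunc K →+* FractionRing R)) rfl hx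
  let g : R →+* K := IsLocalization.lift (M := (Ideal.span {(Polynomial.X : K[X])}).primeCompl)
    (g := Polynomial.evalRingHom (0 : K)) (by
      rintro ⟨y, hy⟩
      refine isUnit_iff_ne_zero.2 fun h => hy ?_
      have h2 : y.eval 0 = 0 := h
      have h3 : Polynomial.X ∣ y := by
        rw [Polynomial.X_dvd_iff, Polynomial.coeff_zero_eq_eval_zero, h2]
      exact Ideal.mem_span_singleton.2 h3)
  have hg : g.comp (algebraMap K[X] R) = Polynomial.evalRingHom (0 : K) :=
    IsLocalization.lift_comp _
  let _ : Algebra R K := g.toAlgebra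
  have hsurj : Function.Surjective (algebraMap R K) := by
    intro c
    refine ⟨algebraMap K[X] R (Polynomial.C c), ?_⟩
    have := congrArg (fun φ : K[X] →+* K => φ (Polynomial.C c)) hg
    change g (algebraMap K[X] R (Polynomial.C c)) = c
    simpa using this
  have h2 : (IsFractionRing.lift hinj : RatFunc K →+* FractionRing R).comp
      (algebraMap K (RatFunc K)) = (algebraMap R (FractionRing R)).comp
        ((algebraMap K[X] R).comp Polynomial.C) := by
    have e1 : algebraMap K (RatFunc K) = (algebraMap K[X] (RatFunc K)).comp Polynomial.C :=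
      IsScalarTower.algebraMap_eq K K[X] (RatFunc K)
    rw [e1, ← RingHom.comp_assoc, lift_comp hinj, ← RingHom.comp_assoc,
      ← IsScalarTower.algebraMap_eq K[X] R (FractionRing R)]
  rw [h2] at h1
  have h3 := ZeroAt.dvr (κ := K) ((algebraMap K[X] R).comp Polynomial.C) hsurj h1
  have h4 : (algebraMap R K).comp ((algebraMap K[X] R).comp Polynomial.C) = RingHom.id K := by
    rw [← RingHom.comp_assoc]
    change (g.comp _).comp _ = _
    rw [hg]
    ext c
    simp
  rwa [h4] at h3

theorem tor_adjoin_simple {K E : Type u} [Field K] [Field E] [Algebra K E] (a : E) :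
    Tor (algebraMap K K⟮a⟯) := by
  by_cases ha : IsAlgebraic K a
  · have : FiniteDimensional K K⟮a⟯ := IntermediateField.adjoin.finiteDimensional
      ha.isIntegral
    exact tor_finite
  · have ha' : Transcendental K a := ha
    let e := RatFunc.algEquivOfTranscendental a ha'
    have h1 := tor_comp (tor_ratFunc K) (tor_of_bijective e.toRingEquiv.toRingHom e.bijective)
    have h2 : e.toRingEquiv.toRingHom.comp (algebraMap K (RatFunc K)) = algebraMap K K⟮a⟯ :=
      RingHom.ext fun c => e.commutes c
    rwa [h2] at h1

theorem tor_adjoin_finset {k E : Type u} [Field k] [Field E] [Algebra k E] (S : Finset E) :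
    Tor (algebraMap k (IntermediateField.adjoin k (S : Set E))) := by
  refine IntermediateField.induction_on_adjoin_finset S
    (fun F => Tor (algebraMap k F)) ?_ ?_
  · refine tor_of_bijective _ ⟨(algebraMap k _).injective, ?_⟩
    rintro ⟨x, hx⟩
    obtain ⟨y, rfl⟩ := IntermediateField.mem_bot.1 hx
    exact ⟨y, rfl⟩
  · intro F a _ hF
    exact tor_comp hF (tor_adjoin_simple (K := F) a)

end K309.TorFg
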