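import Groth.Agent.Cyc.K309.Gys

/-!
# Zero schemes of global functions

* `VanFun i t`: the stalk ideals of the closed immersion `i` are generated by the germs of `t`;
* `VanFun.isZero`: then `i` is the zero scheme of `t` as a section of the structure module;
* `VanFun.of_isPullback`: stability under base change;
* `vanFun_spec`: `Spec κ ⟶ Spec R` for a surjection `R → κ` with kernel generated by `π`.
-/

set_option autoImplicit false
universe u
open AlgebraicGeometry CategoryTheory CategoryTheory.Limits TopologicalSpace Opposite Cyc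
open Groth.Agent Groth.Agent.CycB Groth.Agent.CycB.GysinCl Groth.Agent.Divis
open Groth.Agent.Divis.CartierBasic K305.StructCap

namespace K309.ZeroFun

variable {X D : Scheme.{u}}

/-- The ideal of `i` is generated by the function `t`, stalkwise. -/
def VanFun (i : D ⟶ X) (t : Γ(X, ⊤)) : Prop :=
  ∀ x : X, stalkIdeal i.ker x = Ideal.span {X.presheaf.germ ⊤ x trivial t}

/-- a function as a section of the structure module -/
def sec (t : Γ(X, ⊤)) : (Coh.structureModule X).presheaf.obj (op ⊤) := t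

theorem germ_sec (t : Γ(X, ⊤)) (x : X) :
    (Coh.structureModule X).presheaf.germ ⊤ x trivial (sec t) =
      X.presheaf.germ ⊤ x trivial t • one x :=
  (PushStalk.unitStalkLin_germ x ⊤ trivial t).symm

theorem mem_range_iff_stalkIdeal (i : D ⟶ X) [IsClosedImmersion i] (x : X) :
    x ∈ Set.range ⇑i ↔ stalkIdeal i.ker x ≤ IsLocalRing.maximalIdeal _ := by
  rw [← mem_support_iff_stalkIdeal_le, ← SetLike.mem_coe, Scheme.Hom.support_ker,
    i.isClosedEmbedding.isClosed_range.closure_eq]

theorem val_sec_eq_zero_iff (t : Γ(X, ⊤)) (x : X) :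
    val (Coh.structureModule X) (sec t) x = 0 ↔
      X.presheaf.germ ⊤ x trivial t ∈ IsLocalRing.maximalIdeal _ := by
  rw [val_eq, germ_sec, map_smul, C1Basic.smul_cl_eq_zero_iff (isGen_one x)]
  exact IsLocalRing.residue_eq_zero_iff _

theorem VanFun.isZero {i : D ⟶ X} [IsClosedImmersion i] {t : Γ(X, ⊤)} (h : VanFun i t) :
    IsZeroSchemeOf i (Coh.structureModule X) (sec t) := by
  refine ⟨?_, fun d => ⟨one (i d), X.presheaf.germ ⊤ (i d) trivial t,
    (isGen_one (i d)).span_eq_top, germ_sec t (i d), ?_⟩⟩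
  · ext x
    rw [mem_range_iff_stalkIdeal i x, h x, Ideal.span_singleton_le_iff_mem]
    exact (val_sec_eq_zero_iff t x).symm
  · rw [CartierStalk.ker_stalkMap, h (i d)]

theorem ker_eq_comap {X' D' : Scheme.{u}} {i : D ⟶ X} {i' : D' ⟶ X'} {q : X' ⟶ X} {g : D' ⟶ D}
    [IsClosedImmersion i] (h : IsPullback i' g q i) : i'.ker = i.ker.comap q := by
  rw [← Scheme.IdealSheafData.ker_fst_of_isClosedImmersion, ← h.isoPullback_hom_fst,
    Scheme.Hom.ker_comp_of_isIso]

theorem VanFun.of_isPullback {X' D' : Scheme.{u}} {i : D ⟶ X} {i' : D' ⟶ X'} {q : X' ⟶ X}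
    {g : D' ⟶ D} [IsClosedImmersion i] {t : Γ(X, ⊤)} (hv : VanFun i t)
    (h : IsPullback i' g q i) : VanFun i' (q.appTop t) := by
  intro x
  rw [ker_eq_comap h, CartierStalk.stalkIdeal_comap, hv (q x), Ideal.map_span,
    Set.image_singleton]
  congr 2
  exact Scheme.Hom.germ_stalkMap_apply q ⊤ x trivial t

theorem vanFun_spec {R κ : CommRingCat.{u}} (φ : R ⟶ κ) (hφ : Function.Surjective φ.hom)
    (π : R) (hπ : RingHom.ker φ.hom = Ideal.span {π}) :
    VanFun (Spec.map φ) ((Scheme.ΓSpecIso R).inv π) := by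
  have := IsClosedImmersion.spec_of_surjective φ hφ
  intro x
  rw [stalkIdeal_eq _ ⟨⊤, isAffineOpen_top _⟩ (show x ∈ (⊤ : (Spec R).Opens) from trivial),
    Scheme.Hom.ker_apply]
  have key : RingHom.ker ((Spec.map φ).appTop).hom = Ideal.span {(Scheme.ΓSpecIso R).inv π} := by
    ext a
    have h1 : (Scheme.ΓSpecIso κ).hom ((Spec.map φ).appTop a) =
        φ ((Scheme.ΓSpecIso R).hom a) :=
      ConcreteCategory.congr_hom (Scheme.ΓSpecIso_naturality φ) a
    have h2 : (Scheme.ΓSpecIso κ).hom ((Spec.map φ).appTop a) = 0 ↔ (Spec.map φ).appTop a = 0 :=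
      map_eq_zero_iff (Scheme.ΓSpecIso κ).hom.hom
        (ConcreteCategory.bijective_of_isIso (Scheme.ΓSpecIso κ).hom).1
    have h3 : φ ((Scheme.ΓSpecIso R).hom a) = 0 ↔
        (Scheme.ΓSpecIso R).hom a ∈ Ideal.span {π} := by
      rw [← hπ]; exact (RingHom.mem_ker).symm
    rw [RingHom.mem_ker]
    refine h2.symm.trans ?_
    rw [h1, h3, Ideal.mem_span_singleton, Ideal.mem_span_singleton]
    constructor
    · rintro ⟨b, hb⟩
      refine ⟨(Scheme.ΓSpecIso R).inv b, ?_⟩
      rw [← map_mul, ← hb]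
      exact (ConcreteCategory.congr_hom (Scheme.ΓSpecIso R).hom_inv_id a).symm
    · rintro ⟨b, hb⟩
      refine ⟨(Scheme.ΓSpecIso R).hom b, ?_⟩
      rw [hb, map_mul]
      congr 1
      exact ConcreteCategory.congr_hom (Scheme.ΓSpecIso R).inv_hom_id π
  have key' : RingHom.ker ((Spec.map φ).app ⊤).hom = Ideal.span {(Scheme.ΓSpecIso R).inv π} := key
  rw [key', Ideal.map_span, Set.image_singleton]

end K309.ZeroFun
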